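import Mathlib
import Cfsg.Prelude.Def_Transfer
import Cfsg.Agent.Lib.Helper19.A5P

set_option autoImplicit false

/-!
# J3I-S: abstract assembly for the centraliser of an involution of `J₃`

From element tables `q` (32 entries, multiplying by the table `qm`) and `h` (60 entries, closed
under multiplication and containing a `(2,3,5)` generating pair) inside `C_J(t)`, with
`|C_J(t)| ≤ 1920`, build the normal subgroup `Q`, the complement `H ≅ A₅` and `C/Q ≅ A₅`.
-/

namespace Cfsg.Agent.Lib.Helper99.J3IS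

universe u

theorem centralizer_structure {J : Type u} [Group J] [Finite J] (t : J) (qm : ℕ → ℕ → ℕ)
    (hX : ∀ (P : Type u) [Group P] (f : ℕ → P), (∀ p : P, ∃ i < 32, f i = p) →
      (∀ i < 32, ∀ j < 32, f i = f j → i = j) → (∀ i < 32, ∀ j < 32, f i * f j = f (qm i j)) →
      Cfsg.IsExtraspecial 2 P ∧ Nat.card P = 32 ∧
        ∀ E : Subgroup P, Cfsg.IsElementaryAbelian 2 E → Nat.card E ≤ 2 ^ 2)
    (hS1 : ∀ (G : Type u) [Group G] (n : ℕ), 0 < n → ∀ f : ℕ → G,
      (∀ i < n, ∀ j < n, ∃ k < n, f i * f j = f k) → (∀ i < n, ∀ j < n, f i = f j → i = j) →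
      ∃ S : Subgroup G, (∀ g, g ∈ S ↔ ∃ i < n, f i = g) ∧ Nat.card S = n)
    (hS2 : ∀ (C : Type u) [Group C] [Finite C] (Q H : Subgroup C), Nat.card Q = 32 →
      Nat.card H = 60 → Nat.card C ≤ 1920 → Q ⊓ H = ⊥ → (∀ h ∈ H, ∀ q ∈ Q, h * q * h⁻¹ ∈ Q) →
      Nonempty (H ≃* alternatingGroup (Fin 5)) →
      Nat.card C = 1920 ∧ (∀ c : C, ∃ q ∈ Q, ∃ h ∈ H, c = q * h) ∧
        ∃ (_ : Q.Normal), Q.IsComplement' H ∧ Nonempty (C ⧸ Q ≃* alternatingGroup (Fin 5)))
    (hqm : ∀ i < 32, ∀ j < 32, qm i j < 32)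
    (hcard : Nat.card (Subgroup.centralizer ({t} : Set J)) ≤ 1920)
    (q h : ℕ → J)
    (hqt : ∀ i < 32, q i * t = t * q i)
    (hqmul : ∀ i < 32, ∀ j < 32, q i * q j = q (qm i j))
    (hqinj : ∀ i < 32, ∀ j < 32, q i = q j → i = j)
    (hht : ∀ j < 60, h j * t = t * h j)
    (hhmul : ∀ i < 60, ∀ j < 60, ∃ k < 60, h i * h j = h k)
    (hhinj : ∀ i < 60, ∀ j < 60, h i = h j → i = j)
    (hnorm : ∀ j < 60, ∀ i < 32, ∃ k < 32, h j * q i = q k * h j)
    (hdisj : ∀ i < 32, ∀ j < 60, q i = h j → q i = 1)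
    (hA5 : ∃ u v : J, (∃ i < 60, h i = u) ∧ (∃ j < 60, h j = v) ∧ u * u = 1 ∧ v ^ 5 = 1 ∧
      u * v * u * v * u * v = 1 ∧ v ≠ 1) :
    (∀ c : J, c * t = t * c → ∃ i < 32, ∃ j < 60, c = q i * h j) ∧
    Nat.card (Subgroup.centralizer ({t} : Set J)) = 1920 ∧
    ∃ (Q : Subgroup ↥(Subgroup.centralizer ({t} : Set J))) (_ : Q.Normal),
      Cfsg.IsExtraspecial 2 Q ∧ Nat.card Q = 32 ∧
      (∀ E : Subgroup Q, Cfsg.IsElementaryAbelian 2 E → Nat.card E ≤ 2 ^ 2) ∧
      (∃ H : Subgroup ↥(Subgroup.centralizer ({t} : Set J)), Q.IsComplement' H) ∧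
      Nonempty (↥(Subgroup.centralizer ({t} : Set J)) ⧸ Q ≃* ↥(alternatingGroup (Fin 5))) := by
  classical
  have memC : ∀ g : J, g ∈ Subgroup.centralizer ({t} : Set J) ↔ g * t = t * g := by
    intro g
    rw [Subgroup.mem_centralizer_iff]
    constructor
    · intro hg
      exact (hg t rfl).symm
    · intro hg s hs
      rw [Set.mem_singleton_iff.mp hs]
      exact hg.symm
  -- the tables inside the centraliser
  let qC : ℕ → ↥(Subgroup.centralizer ({t} : Set J)) := fun i =>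
    if hi : i < 32 then ⟨q i, (memC _).2 (hqt i hi)⟩ else 1
  let hC : ℕ → ↥(Subgroup.centralizer ({t} : Set J)) := fun j =>
    if hj : j < 60 then ⟨h j, (memC _).2 (hht j hj)⟩ else 1
  have qC_val : ∀ i < 32, ((qC i : ↥(Subgroup.centralizer ({t} : Set J))) : J) = q i := by
    intro i hi
    simp only [qC, dif_pos hi]
  have hC_val : ∀ j < 60, ((hC j : ↥(Subgroup.centralizer ({t} : Set J))) : J) = h j := by
    intro j hj
    simp only [hC, dif_pos hj]
  obtain ⟨Q, hQmem, hQcard⟩ := hS1 ↥(Subgroup.centralizer ({t} : Set J)) 32 (by norm_num) qC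
    (by
      intro i hi j hj
      refine ⟨qm i j, hqm i hi j hj, Subtype.ext ?_⟩
      rw [Subgroup.coe_mul, qC_val i hi, qC_val j hj, qC_val _ (hqm i hi j hj)]
      exact hqmul i hi j hj)
    (by
      intro i hi j hj hij
      exact hqinj i hi j hj (by rw [← qC_val i hi, ← qC_val j hj, hij]))
  obtain ⟨H, hHmem, hHcard⟩ := hS1 ↥(Subgroup.centralizer ({t} : Set J)) 60 (by norm_num) hC
    (by
      intro i hi j hj
      obtain ⟨k, hk, e⟩ := hhmul i hi j hj
      refine ⟨k, hk, Subtype.ext ?_⟩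
      rw [Subgroup.coe_mul, hC_val i hi, hC_val j hj, hC_val k hk]
      exact e)
    (by
      intro i hi j hj hij
      exact hhinj i hi j hj (by rw [← hC_val i hi, ← hC_val j hj, hij]))
  have hdisj' : Q ⊓ H = ⊥ := by
    rw [eq_bot_iff]
    rintro g ⟨hgQ, hgH⟩
    obtain ⟨i, hi, rfl⟩ := (hQmem g).1 hgQ
    obtain ⟨j, hj, e⟩ := (hHmem _).1 hgH
    have e' : q i = h j := by rw [← qC_val i hi, ← hC_val j hj, e]
    have h1 := hdisj i hi j hj e'
    rw [Subgroup.mem_bot]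
    exact Subtype.ext (by rw [qC_val i hi, h1]; rfl)
  have hnorm' : ∀ x ∈ H, ∀ y ∈ Q, x * y * x⁻¹ ∈ Q := by
    intro x hx y hy
    obtain ⟨j, hj, rfl⟩ := (hHmem x).1 hx
    obtain ⟨i, hi, rfl⟩ := (hQmem y).1 hy
    obtain ⟨k, hk, e⟩ := hnorm j hj i hi
    have e' : hC j * qC i * (hC j)⁻¹ = qC k := by
      rw [mul_inv_eq_iff_eq_mul]
      refine Subtype.ext ?_
      rw [Subgroup.coe_mul, Subgroup.coe_mul, hC_val j hj, qC_val i hi, qC_val k hk]
      exact e
    rw [e']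
    exact (hQmem _).2 ⟨k, hk, rfl⟩
  -- `H ≅ A₅`
  have hHA5 : Nonempty (H ≃* alternatingGroup (Fin 5)) := by
    obtain ⟨u, v, ⟨iu, hiu, hu⟩, ⟨jv, hjv, hv⟩, huu, hv5, huv, hv1⟩ := hA5
    have huu' : hC iu * hC iu = 1 := by
      refine Subtype.ext ?_
      rw [Subgroup.coe_mul, hC_val iu hiu, hu]
      exact huu
    have hv5' : hC jv ^ 5 = 1 := by
      refine Subtype.ext ?_
      rw [Subgroup.coe_pow, hC_val jv hjv, hv]
      exact hv5
    have huv' : hC iu * hC jv * hC iu * hC jv * hC iu * hC jv = 1 := by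
      refine Subtype.ext ?_
      simp only [Subgroup.coe_mul, hC_val iu hiu, hC_val jv hjv, hu, hv]
      exact huv
    have hv1' : hC jv ≠ 1 := by
      intro e
      apply hv1
      rw [← hv, ← hC_val jv hjv, e]
      rfl
    obtain ⟨e⟩ := Cfsg.Agent.Lib.Helper19.A5P.a5_of_rel (hC iu) (hC jv) huu' hv5' huv' hv1'
    have hle : Subgroup.closure {hC iu, hC jv} ≤ H := by
      rw [Subgroup.closure_le]
      intro g hg
      rcases hg with rfl | hg
      · exact (hHmem _).2 ⟨iu, hiu, rfl⟩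
      · rw [Set.mem_singleton_iff.mp hg]
        exact (hHmem _).2 ⟨jv, hjv, rfl⟩
    have hc60 : Nat.card (alternatingGroup (Fin 5)) = 60 := by
      rw [nat_card_alternatingGroup]
      simp
      decide
    have hcl : Nat.card (Subgroup.closure {hC iu, hC jv}) = 60 := by
      rw [Nat.card_congr e.toEquiv, hc60]
    have heq : Subgroup.closure {hC iu, hC jv} = H :=
      Subgroup.eq_of_le_of_card_ge hle (by rw [hcl, hHcard])
    exact ⟨(MulEquiv.subgroupCongr heq.symm).trans e⟩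
  obtain ⟨hC1920, hprod, hQn, hcompl, hquot⟩ := hS2 ↥(Subgroup.centralizer ({t} : Set J)) Q H
    hQcard hHcard hcard hdisj' hnorm' hHA5
  refine ⟨?_, hC1920, Q, hQn, ?_⟩
  · intro c hc
    obtain ⟨x, hx, y, hy, e⟩ := hprod ⟨c, (memC c).2 hc⟩
    obtain ⟨i, hi, rfl⟩ := (hQmem x).1 hx
    obtain ⟨j, hj, rfl⟩ := (hHmem y).1 hy
    refine ⟨i, hi, j, hj, ?_⟩
    have e2 := congrArg Subtype.val e
    rw [Subgroup.coe_mul, qC_val i hi, hC_val j hj] at e2
    exact e2
  · -- the table of `Q` as a group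
    let f : ℕ → ↥Q := fun i =>
      if hi : i < 32 then ⟨qC i, (hQmem _).2 ⟨i, hi, rfl⟩⟩ else 1
    have f_val : ∀ i < 32, ((f i : ↥Q) : ↥(Subgroup.centralizer ({t} : Set J))) = qC i := by
      intro i hi
      simp only [f, dif_pos hi]
    have hXQ := hX ↥Q f
      (by
        intro p
        obtain ⟨i, hi, e⟩ := (hQmem p.1).1 p.2
        exact ⟨i, hi, Subtype.ext (by rw [f_val i hi, e])⟩)
      (by
        intro i hi j hj hij
        have e1 : qC i = qC j := by rw [← f_val i hi, ← f_val j hj, hij]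
        exact hqinj i hi j hj (by rw [← qC_val i hi, ← qC_val j hj, e1]))
      (by
        intro i hi j hj
        refine Subtype.ext ?_
        rw [Subgroup.coe_mul, f_val i hi, f_val j hj, f_val _ (hqm i hi j hj)]
        refine Subtype.ext ?_
        rw [Subgroup.coe_mul, qC_val i hi, qC_val j hj, qC_val _ (hqm i hi j hj)]
        exact hqmul i hi j hj)
    exact ⟨hXQ.1, hXQ.2.1, hXQ.2.2, ⟨H, hcompl⟩, hquot⟩

end Cfsg.Agent.Lib.Helper99.J3IS
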