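import Mathlib
import Cfsg.Prelude.Def_GeometricClasses

set_option autoImplicit false
open scoped MatrixGroups

namespace Cfsg.Agent.Lib.Helper99

open Matrix

variable {F : Type*} [Field F]

theorem mem_specialLinear_iff {ι : Type} [Fintype ι] [DecidableEq ι] (g : GL ι F) :
    g ∈ Cfsg.Geo.specialLinear ι F ↔ (g : Matrix ι ι F).det = 1 := by
  unfold Cfsg.Geo.specialLinear
  rw [MonoidHom.mem_ker]
  constructor
  · intro h
    have := congrArg Units.val h
    simpa using this
  · intro h
    apply Units.ext
    simpa using h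

/-- Cayley–Hamilton for 2×2 matrices. -/
theorem mat2_sq (M : Matrix (Fin 2) (Fin 2) F) :
    M * M = M.trace • M - M.det • (1 : Matrix (Fin 2) (Fin 2) F) := by
  ext i j
  fin_cases i <;> fin_cases j <;>
    simp [Matrix.mul_apply, Fin.sum_univ_two, Matrix.trace, Matrix.det_fin_two] <;> ring

/-- Polarised Cayley–Hamilton for 2×2 matrices. -/
theorem mat2_anticomm (U V : Matrix (Fin 2) (Fin 2) F) :
    U * V + V * U = U.trace • V + V.trace • U + ((U * V).trace - U.trace * V.trace) • (1 : Matrix (Fin 2) (Fin 2) F) := by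
  ext i j
  fin_cases i <;> fin_cases j <;>
    simp [Matrix.mul_apply, Fin.sum_univ_two, Matrix.trace] <;> ring

theorem smul_one_inj2 {c d : F} (h : c • (1 : Matrix (Fin 2) (Fin 2) F) = d • (1 : Matrix (Fin 2) (Fin 2) F)) : c = d := by
  have := congrFun (congrFun h 0) 0
  simpa using this

/-- A nondegenerate binary quadratic form over a finite field of odd order represents 1. -/
theorem binary_quadratic_universal [Fintype F] (hF : Fintype.card F % 2 = 1) (α β γ : F)
    (hD : β ^ 2 - 4 * α * γ ≠ 0) : ∃ u v : F, α * u ^ 2 + β * u * v + γ * v ^ 2 = 1 := by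
  have h2 : (2 : F) ≠ 0 := by
    intro h
    have hc : ringChar F = 2 := by
      have : ringChar F ∣ 2 := by
        have := (ringChar.spec F 2).mp (by exact_mod_cast h)
        exact_mod_cast this
      rcases (Nat.dvd_prime Nat.prime_two).mp this with h1 | h1
      · exact absurd h1 (CharP.ringChar_ne_one)
      · exact h1
    have := FiniteField.even_card_of_char_two hc
    omega
  by_cases hα : α = 0
  · subst hα
    have hβ : β ≠ 0 := by
      intro hβ
      apply hD
      rw [hβ]; ring
    refine ⟨(1 - γ) / β, 1, ?_⟩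
    field_simp
    ring
  · set D := β ^ 2 - 4 * α * γ with hDdef
    obtain ⟨a, b, hab⟩ := FiniteField.exists_root_sum_quadratic (R := F)
      (f := Polynomial.X ^ 2)
      (g := Polynomial.C (-D) * Polynomial.X ^ 2 + Polynomial.C 0 * Polynomial.X + Polynomial.C (-(4 * α)))
      (Polynomial.degree_X_pow 2) (Polynomial.degree_quadratic (neg_ne_zero.mpr hD)) hF
    simp only [Polynomial.eval_pow, Polynomial.eval_X, Polynomial.eval_add, Polynomial.eval_mul,
      Polynomial.eval_C] at hab
    refine ⟨(a - β * b) / (2 * α), b, ?_⟩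
    field_simp
    rw [hDdef] at hab
    linear_combination hab

/-- A 2×2 matrix of determinant 1 and trace `t` with `t² ≠ 4` over a finite field of odd order is conjugate
to the companion matrix of `X² − tX + 1` by a matrix of determinant 1. -/
theorem exists_conj_companion [Fintype F] (hF : Fintype.card F % 2 = 1) (x : Matrix (Fin 2) (Fin 2) F)
    (hdet : x.det = 1) (ht : x.trace ^ 2 - 4 ≠ 0) :
    ∃ g : Matrix (Fin 2) (Fin 2) F, g.det = 1 ∧ x * g = g * !![0, -1; 1, x.trace] := by
  have hdet' : x 0 0 * x 1 1 - x 0 1 * x 1 0 = 1 := by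
    rw [← hdet, Matrix.det_fin_two]
  have htr : x.trace = x 0 0 + x 1 1 := by
    simp [Matrix.trace, Fin.sum_univ_two]
  obtain ⟨u, v, huv⟩ := binary_quadratic_universal hF (x 1 0) (x 1 1 - x 0 0) (-(x 0 1)) (by
    intro h
    apply ht
    rw [htr]
    linear_combination h + 4 * hdet')
  refine ⟨!![u, x 0 0 * u + x 0 1 * v; v, x 1 0 * u + x 1 1 * v], ?_, ?_⟩
  · rw [Matrix.det_fin_two]
    simp
    linear_combination huv
  · ext i j
    fin_cases i <;> fin_cases j <;>
      simp [Matrix.mul_apply, Fin.sum_univ_two, htr]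
    · linear_combination (-u) * hdet'
    · linear_combination (-v) * hdet'

end Cfsg.Agent.Lib.Helper99
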