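import Mathlib
import Cfsg.Prelude.Def_GeometricClasses

set_option autoImplicit false
open scoped MatrixGroups

namespace Cfsg.Agent.Lib.Helper99

open Matrix

theorem mem_normalizer_of_finite {G : Type*} [Group G] (R : Subgroup G) [Finite R] (g : G)
    (h : ∀ n ∈ R, g * n * g⁻¹ ∈ R) : g ∈ Subgroup.normalizer (R : Set G) := by
  rw [Subgroup.mem_set_normalizer_iff]
  intro n
  constructor
  · exact h n
  · intro hn
    let f : R → R := fun m => ⟨g * m * g⁻¹, h m m.2⟩
    have hinj : Function.Injective f := by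
      intro a b hab
      have := congrArg Subtype.val hab
      simp only [f, mul_left_inj, mul_right_inj] at this
      exact Subtype.ext this
    have hsurj := Finite.injective_iff_surjective.mp hinj
    obtain ⟨m, hm⟩ := hsurj ⟨g * n * g⁻¹, hn⟩
    have := congrArg Subtype.val hm
    simp only [f, mul_left_inj, mul_right_inj] at this
    rw [← this]; exact m.2

theorem conj_mem_of_closure {G : Type*} [Group G] (R : Subgroup G) (S : Set G)
    (hS : R = Subgroup.closure S) (g : G) (h : ∀ s ∈ S, g * s * g⁻¹ ∈ R) :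
    ∀ n ∈ R, g * n * g⁻¹ ∈ R := by
  intro n hn
  rw [hS] at hn
  induction hn using Subgroup.closure_induction with
  | mem x hx => exact h x hx
  | one => simp
  | mul x y _ _ hx hy =>
    have : g * (x * y) * g⁻¹ = (g * x * g⁻¹) * (g * y * g⁻¹) := by group
    rw [this]; exact mul_mem hx hy
  | inv x _ hx =>
    have : g * x⁻¹ * g⁻¹ = (g * x * g⁻¹)⁻¹ := by group
    rw [this]; exact inv_mem hx

/-- If `y` of prime-power order normalises the finite subgroup `R`, the number of elements of `R` it centralises is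
congruent to `|R|` modulo the prime. -/
theorem card_modEq_card_centralizer {G : Type*} [Group G] (R : Subgroup G) [Finite R] (y : G)
    (hy : y ∈ Subgroup.normalizer (R : Set G)) (r : ℕ) [Fact r.Prime] (hyr : y ^ r = 1) :
    Nat.card R ≡ Nat.card ↥(R ⊓ Subgroup.centralizer {y}) [MOD r] := by
  classical
  letI : Fintype R := Fintype.ofFinite R
  let f : Function.End R := fun n => ⟨y * n * y⁻¹, (Subgroup.mem_set_normalizer_iff.mp hy n).mp n.2⟩
  have hpow : ∀ (k : ℕ) (n : R), (((f ^ k) n : R) : G) = y ^ k * n * (y ^ k)⁻¹ := by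
    intro k
    induction k with
    | zero =>
      intro n
      rw [pow_zero]
      show ((n : R) : G) = _
      simp
    | succ k ih =>
      intro n
      have hs : (f ^ (k + 1)) n = (f ^ k) (f n) := by rw [pow_succ]; rfl
      rw [hs, ih]
      simp only [f]
      group
  have hf : f ^ r ^ 1 = 1 := by
    funext n
    apply Subtype.ext
    rw [pow_one, hpow, hyr]
    show 1 * (n : G) * (1 : G)⁻¹ = ((n : R) : G)
    simp
  have h := Equiv.Perm.card_fixedPoints_modEq (p := r) (n := 1) hf
  rw [Nat.card_eq_fintype_card]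
  refine h.trans ?_
  rw [← Nat.card_eq_fintype_card]
  suffices hc : Nat.card ↥(Function.fixedPoints f) = Nat.card ↥(R ⊓ Subgroup.centralizer {y}) by
    rw [hc]
  have key1 : ∀ n : R, f n = n → (n : G) ∈ R ⊓ Subgroup.centralizer {y} := by
    intro n hn
    refine ⟨n.2, ?_⟩
    show (n : G) ∈ Subgroup.centralizer {y}
    rw [Subgroup.mem_centralizer_iff]
    intro h hh
    rw [Set.mem_singleton_iff] at hh
    rw [hh]
    have h2 : y * (n : G) * y⁻¹ = (n : G) := congrArg Subtype.val hn
    calc y * (n : G) = y * (n : G) * y⁻¹ * y := by group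
      _ = (n : G) * y := by rw [h2]
  have key2 : ∀ n : G, ∀ hn : n ∈ R ⊓ Subgroup.centralizer {y}, f ⟨n, hn.1⟩ = ⟨n, hn.1⟩ := by
    intro n hn
    have h1 : n ∈ Subgroup.centralizer {y} := hn.2
    rw [Subgroup.mem_centralizer_iff] at h1
    have h2 := h1 y rfl
    apply Subtype.ext
    show y * n * y⁻¹ = n
    rw [h2]; group
  apply Nat.card_congr
  exact
    { toFun := fun n => ⟨n.1.1, key1 n.1 n.2⟩
      invFun := fun n => ⟨⟨n.1, n.2.1⟩, key2 n.1 n.2⟩
      left_inv := fun n => rfl
      right_inv := fun n => rfl }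

end Cfsg.Agent.Lib.Helper99
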