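import Mathlib
import Cfsg.Prelude.Def_GeometricClasses
import Cfsg.Agent.Lib.Helper99.Mat2
import Cfsg.Agent.Lib.Helper99.Norm

set_option autoImplicit false
open scoped MatrixGroups

namespace Cfsg.Agent.Lib.Helper99

open Matrix

variable {F : Type*} [Field F]

/-- Two elements of `SL₂(F)` with the same trace `t`, `t² ≠ 4`, are conjugate in `SL₂(F)` (finite field of odd order). -/
theorem exists_sl2_conj [Fintype F] (hF : Fintype.card F % 2 = 1) (x y : GL (Fin 2) F)
    (hx : x ∈ Cfsg.Geo.specialLinear (Fin 2) F) (hy : y ∈ Cfsg.Geo.specialLinear (Fin 2) F)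
    (htr : (x : Matrix (Fin 2) (Fin 2) F).trace = (y : Matrix (Fin 2) (Fin 2) F).trace)
    (ht : (x : Matrix (Fin 2) (Fin 2) F).trace ^ 2 - 4 ≠ 0) :
    ∃ g ∈ Cfsg.Geo.specialLinear (Fin 2) F, g⁻¹ * x * g = y := by
  rw [mem_specialLinear_iff] at hx hy
  obtain ⟨g1, hg1, hxg⟩ := exists_conj_companion hF _ hx ht
  obtain ⟨g2, hg2, hyg⟩ := exists_conj_companion hF _ hy (htr ▸ ht)
  rw [← htr] at hyg
  let G1 : GL (Fin 2) F := Matrix.GeneralLinearGroup.mkOfDetNeZero g1 (by rw [hg1]; exact one_ne_zero)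
  let G2 : GL (Fin 2) F := Matrix.GeneralLinearGroup.mkOfDetNeZero g2 (by rw [hg2]; exact one_ne_zero)
  have hG1 : (G1 : Matrix (Fin 2) (Fin 2) F) = g1 := rfl
  have hG2 : (G2 : Matrix (Fin 2) (Fin 2) F) = g2 := rfl
  have e1 : x * G1 = G1 * (G2⁻¹ * y * G2) := by
    apply Units.ext
    have h2 : ((G2⁻¹ * y * G2 : GL (Fin 2) F) : Matrix (Fin 2) (Fin 2) F) = !![0, -1; 1, (x : Matrix (Fin 2) (Fin 2) F).trace] := by
      rw [Units.val_mul, Units.val_mul, hG2, mul_assoc, hyg, ← mul_assoc, ← hG2, ← Units.val_mul, inv_mul_cancel]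
      simp
    rw [Units.val_mul, Units.val_mul, h2, hG1, hxg]
  refine ⟨G1 * G2⁻¹, ?_, ?_⟩
  · exact Subgroup.mul_mem _ ((mem_specialLinear_iff _).mpr hg1) (Subgroup.inv_mem _ ((mem_specialLinear_iff _).mpr hg2))
  · calc (G1 * G2⁻¹)⁻¹ * x * (G1 * G2⁻¹) = G2 * G1⁻¹ * (x * G1) * G2⁻¹ := by group
      _ = G2 * G1⁻¹ * (G1 * (G2⁻¹ * y * G2)) * G2⁻¹ := by rw [e1]
      _ = y := by group

/-- A non-scalar 2×2 matrix `A` with `A⁴ = 1`, `A² ≠ 1` and `(det A)² = 1` satisfies `A² = −1`. -/
theorem mat2_order4 (A : Matrix (Fin 2) (Fin 2) F) (hA4 : A * A * (A * A) = 1) (hA2 : A * A ≠ 1)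
    (hns : ∀ z : F, A ≠ z • (1 : Matrix (Fin 2) (Fin 2) F)) (hd : A.det ^ 2 = 1) :
    A * A = -1 ∧ A.trace = 0 ∧ A.det = 1 := by
  set t := A.trace with ht
  set d := A.det with hd'
  have e : A * A = t • A - d • (1 : Matrix (Fin 2) (Fin 2) F) := mat2_sq A
  have h4 : A * A * (A * A) = (t ^ 3 - 2 * t * d) • A + (d ^ 2 - t ^ 2 * d) • (1 : Matrix (Fin 2) (Fin 2) F) := by
    rw [e]
    simp only [sub_mul, mul_sub, smul_mul_assoc, mul_smul_comm, mul_one, one_mul, e]
    module
  rw [hA4] at h4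
  have hc : t ^ 3 - 2 * t * d = 0 := by
    by_contra hc
    apply hns ((1 - (d ^ 2 - t ^ 2 * d)) / (t ^ 3 - 2 * t * d))
    have : (t ^ 3 - 2 * t * d) • A = (1 - (d ^ 2 - t ^ 2 * d)) • (1 : Matrix (Fin 2) (Fin 2) F) := by
      rw [sub_smul (1 : F), one_smul]
      exact eq_sub_of_add_eq h4.symm
    rw [div_eq_inv_mul, mul_smul, ← this, smul_smul, inv_mul_cancel₀ hc, one_smul]
  rw [hc, zero_smul, zero_add] at h4
  have h5 : (1 : F) = d ^ 2 - t ^ 2 * d := by
    have := congrFun (congrFun h4 0) 0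
    simpa using this
  have hd0 : d ≠ 0 := by
    intro h; rw [h] at hd; simp at hd
  have ht0 : t = 0 := by
    have : t ^ 2 * d = 0 := by linear_combination hd + h5
    rcases mul_eq_zero.mp this with h | h
    · exact pow_eq_zero_iff (by norm_num) |>.mp h
    · exact absurd h hd0
  rw [ht0, zero_smul, zero_sub] at e
  have hd1 : d = 1 := by
    have : (d - 1) * (d + 1) = 0 := by linear_combination hd
    rcases mul_eq_zero.mp this with h | h
    · linear_combination h
    · exfalso
      apply hA2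
      rw [e]
      have : d = -1 := by linear_combination h
      rw [this]; simp
  refine ⟨?_, ht0, hd1⟩
  rw [e, hd1]; simp

theorem q8_facts :
    (QuaternionGroup.a 1 : QuaternionGroup 2) ^ 4 = 1 ∧ (QuaternionGroup.xa 0 : QuaternionGroup 2) ^ 4 = 1 ∧
    (QuaternionGroup.a 1 : QuaternionGroup 2) ^ 2 = (QuaternionGroup.xa 0 : QuaternionGroup 2) ^ 2 ∧
    (QuaternionGroup.a 1 : QuaternionGroup 2) ^ 2 ≠ 1 ∧
    (QuaternionGroup.xa 0 : QuaternionGroup 2) * QuaternionGroup.a 1 = (QuaternionGroup.a 1) ^ 3 * QuaternionGroup.xa 0 ∧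
    (QuaternionGroup.a 1 : QuaternionGroup 2) * QuaternionGroup.xa 0 = (QuaternionGroup.xa 0) ^ 3 * QuaternionGroup.a 1 := by
  decide

theorem q8_enum : ∀ w : QuaternionGroup 2, w ∈ Subgroup.closure ({QuaternionGroup.a 1, QuaternionGroup.xa 0} : Set (QuaternionGroup 2)) := by
  have ha : (QuaternionGroup.a 1 : QuaternionGroup 2) ∈ Subgroup.closure ({QuaternionGroup.a 1, QuaternionGroup.xa 0} : Set (QuaternionGroup 2)) :=
    Subgroup.subset_closure (by simp)
  have hb : (QuaternionGroup.xa 0 : QuaternionGroup 2) ∈ Subgroup.closure ({QuaternionGroup.a 1, QuaternionGroup.xa 0} : Set (QuaternionGroup 2)) :=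
    Subgroup.subset_closure (by simp)
  have key : ∀ w : QuaternionGroup 2, w = 1 ∨ w = QuaternionGroup.a 1 ∨ w = (QuaternionGroup.a 1) ^ 2 ∨
      w = (QuaternionGroup.a 1) ^ 3 ∨ w = QuaternionGroup.xa 0 ∨ w = QuaternionGroup.xa 0 * QuaternionGroup.a 1 ∨
      w = QuaternionGroup.xa 0 * (QuaternionGroup.a 1) ^ 2 ∨ w = QuaternionGroup.xa 0 * (QuaternionGroup.a 1) ^ 3 := by
    decide
  intro w
  rcases key w with h | h | h | h | h | h | h | h <;> rw [h]
  · exact Subgroup.one_mem _
  · exact ha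
  · exact Subgroup.pow_mem _ ha 2
  · exact Subgroup.pow_mem _ ha 3
  · exact hb
  · exact Subgroup.mul_mem _ hb ha
  · exact Subgroup.mul_mem _ hb (Subgroup.pow_mem _ ha 2)
  · exact Subgroup.mul_mem _ hb (Subgroup.pow_mem _ ha 3)

theorem gl_det_ne_zero {ι : Type} [Fintype ι] [DecidableEq ι] (g : GL ι F) : (g : Matrix ι ι F).det ≠ 0 :=
  ((Matrix.isUnit_iff_isUnit_det _).mp g.isUnit).ne_zero

/-- A subgroup of `GL₂(F)` isomorphic to the quaternion group is generated by two matrices with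
`A² = B² = −1`, `BA = −AB`. -/
theorem q8_structure (R : Subgroup (GL (Fin 2) F)) (hR : Nonempty (↥R ≃* QuaternionGroup 2)) :
    ∃ α β : GL (Fin 2) F, α ∈ R ∧ β ∈ R ∧
      (α : Matrix (Fin 2) (Fin 2) F) * (α : Matrix (Fin 2) (Fin 2) F) = -1 ∧
      (β : Matrix (Fin 2) (Fin 2) F) * (β : Matrix (Fin 2) (Fin 2) F) = -1 ∧
      (β : Matrix (Fin 2) (Fin 2) F) * (α : Matrix (Fin 2) (Fin 2) F) =
        -((α : Matrix (Fin 2) (Fin 2) F) * (β : Matrix (Fin 2) (Fin 2) F)) ∧
      (α : Matrix (Fin 2) (Fin 2) F).trace = 0 ∧ (α : Matrix (Fin 2) (Fin 2) F).det = 1 ∧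
      (β : Matrix (Fin 2) (Fin 2) F).trace = 0 ∧ (β : Matrix (Fin 2) (Fin 2) F).det = 1 ∧
      R = Subgroup.closure {α, β} ∧ Nat.card R = 8 := by
  obtain ⟨φ⟩ := hR
  obtain ⟨q1, q2, q3, q4, q5, q6⟩ := q8_facts
  set a' : R := φ.symm (QuaternionGroup.a 1) with ha'
  set b' : R := φ.symm (QuaternionGroup.xa 0) with hb'
  have r1 : a' ^ 4 = 1 := by rw [ha', ← map_pow, q1, map_one]
  have r2 : b' ^ 4 = 1 := by rw [hb', ← map_pow, q2, map_one]
  have r3 : a' ^ 2 = b' ^ 2 := by rw [ha', hb', ← map_pow, ← map_pow, q3]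
  have r4 : a' ^ 2 ≠ 1 := by
    intro h
    apply q4
    have := congrArg φ h
    rw [map_pow, ha', MulEquiv.apply_symm_apply, map_one] at this
    exact this
  have r5 : b' * a' = a' ^ 3 * b' := by rw [ha', hb', ← map_pow, ← map_mul, ← map_mul, q5]
  have r6 : a' * b' = b' ^ 3 * a' := by rw [ha', hb', ← map_pow, ← map_mul, ← map_mul, q6]
  set α : GL (Fin 2) F := (a' : GL (Fin 2) F) with hα
  set β : GL (Fin 2) F := (b' : GL (Fin 2) F) with hβ
  have s1 : α ^ 4 = 1 := by have := congrArg Subtype.val r1; simpa using this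
  have s2 : β ^ 4 = 1 := by have := congrArg Subtype.val r2; simpa using this
  have s3 : α ^ 2 = β ^ 2 := by have := congrArg Subtype.val r3; simpa using this
  have s4 : α ^ 2 ≠ 1 := by
    intro h
    apply r4
    apply Subtype.ext
    simpa using h
  have s5 : β * α = α ^ 3 * β := by have := congrArg Subtype.val r5; simpa using this
  have s6 : α * β = β ^ 3 * α := by have := congrArg Subtype.val r6; simpa using this
  have s4' : β ^ 2 ≠ 1 := by rw [← s3]; exact s4
  have hne : α * β ≠ β * α := by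
    intro h
    apply s4
    have h3 : α ^ 3 * β = α * β := by rw [← s5, h]
    have h3' : α ^ 3 = α := mul_right_cancel h3
    calc α ^ 2 = α ^ 3 * α⁻¹ := by group
      _ = α * α⁻¹ := by rw [h3']
      _ = 1 := by group
  set A : Matrix (Fin 2) (Fin 2) F := (α : Matrix (Fin 2) (Fin 2) F) with hA
  set B : Matrix (Fin 2) (Fin 2) F := (β : Matrix (Fin 2) (Fin 2) F) with hB
  have toM : ∀ u v : GL (Fin 2) F, u = v → (u : Matrix (Fin 2) (Fin 2) F) = (v : Matrix (Fin 2) (Fin 2) F) :=
    fun u v h => congrArg _ h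
  have m1 : A * A * (A * A) = 1 := by
    have h := toM _ _ s1
    simp only [Units.val_pow_eq_pow_val, Units.val_one] at h
    rw [← h]; noncomm_ring
  have m2 : B * B * (B * B) = 1 := by
    have h := toM _ _ s2
    simp only [Units.val_pow_eq_pow_val, Units.val_one] at h
    rw [← h]; noncomm_ring
  have m3 : A * A = B * B := by
    have h := toM _ _ s3
    simp only [Units.val_pow_eq_pow_val] at h
    rw [← pow_two, ← pow_two]; exact h
  have m4 : A * A ≠ 1 := by
    intro h
    apply s4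
    apply Units.ext
    simp only [Units.val_pow_eq_pow_val, Units.val_one]
    rw [pow_two]; exact h
  have m4' : B * B ≠ 1 := by rw [← m3]; exact m4
  have m5 : B * A = A * A * A * B := by
    have h := toM _ _ s5
    simp only [Units.val_mul, Units.val_pow_eq_pow_val] at h
    rw [h]; noncomm_ring
  have m6 : A * B = B * B * B * A := by
    have h := toM _ _ s6
    simp only [Units.val_mul, Units.val_pow_eq_pow_val] at h
    rw [h]; noncomm_ring
  have hnsA : ∀ z : F, A ≠ z • (1 : Matrix (Fin 2) (Fin 2) F) := by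
    intro z hz
    apply hne
    apply Units.ext
    simp only [Units.val_mul]
    show A * B = B * A
    rw [hz]; simp
  have hnsB : ∀ z : F, B ≠ z • (1 : Matrix (Fin 2) (Fin 2) F) := by
    intro z hz
    apply hne
    apply Units.ext
    simp only [Units.val_mul]
    show A * B = B * A
    rw [hz]; simp
  have hdA0 : A.det ≠ 0 := gl_det_ne_zero α
  have hdB0 : B.det ≠ 0 := gl_det_ne_zero β
  have hdA : A.det ^ 2 = 1 := by
    have h := congrArg Matrix.det m5
    simp only [Matrix.det_mul] at h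
    have h' : A.det * (A.det ^ 2 - 1) * B.det = 0 := by linear_combination -h
    rcases mul_eq_zero.mp h' with h'' | h''
    · rcases mul_eq_zero.mp h'' with h''' | h'''
      · exact absurd h''' hdA0
      · linear_combination h'''
    · exact absurd h'' hdB0
  have hdB : B.det ^ 2 = 1 := by
    have h := congrArg Matrix.det m6
    simp only [Matrix.det_mul] at h
    have h' : B.det * (B.det ^ 2 - 1) * A.det = 0 := by linear_combination -h
    rcases mul_eq_zero.mp h' with h'' | h''
    · rcases mul_eq_zero.mp h'' with h''' | h'''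
      · exact absurd h''' hdB0
      · linear_combination h'''
    · exact absurd h'' hdA0
  obtain ⟨eA, tA, dA⟩ := mat2_order4 A m1 m4 hnsA hdA
  obtain ⟨eB, tB, dB⟩ := mat2_order4 B m2 m4' hnsB hdB
  refine ⟨α, β, a'.2, b'.2, eA, eB, ?_, tA, dA, tB, dB, ?_, ?_⟩
  · show B * A = -(A * B)
    rw [m5, eA]; simp
  · apply le_antisymm
    · intro n hn
      have hw := q8_enum (φ ⟨n, hn⟩)
      have key : ∀ w : QuaternionGroup 2, w ∈ Subgroup.closure ({QuaternionGroup.a 1, QuaternionGroup.xa 0} : Set (QuaternionGroup 2)) →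
          ((φ.symm w : R) : GL (Fin 2) F) ∈ Subgroup.closure ({α, β} : Set (GL (Fin 2) F)) := by
        intro w hw
        induction hw using Subgroup.closure_induction with
        | mem x hx =>
          rcases hx with rfl | hx
          · exact Subgroup.subset_closure (by simp [hα, ha'])
          · rw [Set.mem_singleton_iff] at hx
            subst hx
            exact Subgroup.subset_closure (by simp [hβ, hb'])
        | one => rw [map_one]; exact Subgroup.one_mem _
        | mul x y _ _ hx hy => rw [map_mul]; exact Subgroup.mul_mem _ hx hy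
        | inv x _ hx => rw [map_inv]; exact Subgroup.inv_mem _ hx
      have := key _ hw
      rw [MulEquiv.symm_apply_apply] at this
      exact this
    · rw [Subgroup.closure_le]
      intro s hs
      rcases hs with rfl | hs
      · exact a'.2
      · rw [Set.mem_singleton_iff] at hs
        subst hs
        exact b'.2
  · rw [Nat.card_congr φ.toEquiv, Nat.card_eq_fintype_card, QuaternionGroup.card]

/-- The only matrices commuting with a quaternion pair are the scalars. -/
theorem q8_commutant (h2 : (2 : F) ≠ 0) (A B M : Matrix (Fin 2) (Fin 2) F) (hA : A * A = -1)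
    (hB : B * B = -1) (hBA : B * A = -(A * B)) (hAt : A.trace = 0)
    (hMA : M * A = A * M) (hMB : M * B = B * M) : ∃ c : F, M = c • (1 : Matrix (Fin 2) (Fin 2) F) := by
  have eA := mat2_anticomm M A
  rw [← hMA, hAt] at eA
  simp only [zero_smul, add_zero, mul_zero, sub_zero] at eA
  -- eA : M * A + M * A = M.trace • A + (M * A).trace • 1
  have e2 : (2 : F) • M = M.trace • (1 : Matrix (Fin 2) (Fin 2) F) - (M * A).trace • A := by
    have h := congrArg (fun X => X * A) eA
    simp only [add_mul, mul_assoc, hA, smul_mul_assoc, one_mul, mul_neg, mul_one] at h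
    -- h : -M + -M = M.trace • (-1) + τ • A
    have h' : -M + -M = -(M.trace • (1 : Matrix (Fin 2) (Fin 2) F)) + (M * A).trace • A := by
      rw [h]; simp
    have : (2 : F) • M = -(-M + -M) := by module
    rw [this, h']; module
  set τ := (M * A).trace with hτ
  have hτ0 : τ = 0 := by
    by_contra hne
    have h1 : ((2 : F) • M) * B = B * ((2 : F) • M) := by
      rw [smul_mul_assoc, mul_smul_comm, hMB]
    rw [e2] at h1
    simp only [sub_mul, mul_sub, smul_mul_assoc, mul_smul_comm, one_mul, mul_one, hBA] at h1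
    -- h1 : M.trace • B - τ • (A * B) = M.trace • B - τ • -(A * B)
    have h3 : ((2 : F) * τ) • (A * B) = 0 := by
      have : ((2 : F) * τ) • (A * B) = (M.trace • B - τ • -(A * B)) - (M.trace • B - τ • (A * B)) := by module
      rw [this, ← h1, sub_self]
    have h4 : A * B = 0 := by
      rcases smul_eq_zero.mp h3 with h | h
      · exact absurd h (mul_ne_zero h2 hne)
      · exact h
    have h5 : A * (A * B) * B = 1 := by
      rw [← mul_assoc, hA, mul_assoc, neg_mul, one_mul, hB, neg_neg]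
    rw [h4] at h5
    simp at h5
  rw [hτ0, zero_smul, sub_zero] at e2
  refine ⟨M.trace / 2, ?_⟩
  calc M = (2 : F)⁻¹ • ((2 : F) • M) := by rw [smul_smul, inv_mul_cancel₀ h2, one_smul]
    _ = (M.trace / 2) • (1 : Matrix (Fin 2) (Fin 2) F) := by rw [e2, smul_smul, div_eq_inv_mul]

/-- The Hurwitz element `(−1 + A + B + AB)/2` attached to a quaternion pair: it has determinant 1 and trace `−1`,
and conjugation by it permutes `A`, `B`, `AB` cyclically. -/
theorem q8_hurwitz (h2 : (2 : F) ≠ 0) (A B : Matrix (Fin 2) (Fin 2) F) (hA : A * A = -1)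
    (hB : B * B = -1) (hBA : B * A = -(A * B)) (hAt : A.trace = 0) (hBt : B.trace = 0) :
    ∃ W : Matrix (Fin 2) (Fin 2) F, W.det = 1 ∧ W.trace = -1 ∧ W * A = A * B * W ∧ W * B = A * W := by
  have hA' : ∀ X : Matrix (Fin 2) (Fin 2) F, A * (A * X) = -X := by
    intro X; rw [← mul_assoc, hA]; simp
  have hB' : ∀ X : Matrix (Fin 2) (Fin 2) F, B * (B * X) = -X := by
    intro X; rw [← mul_assoc, hB]; simp
  have hBA' : ∀ X : Matrix (Fin 2) (Fin 2) F, B * (A * X) = -(A * (B * X)) := by
    intro X; rw [← mul_assoc, hBA]; simp [mul_assoc]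
  have hABt : (A * B).trace = 0 := by
    have h1 : (A * B).trace = (B * A).trace := Matrix.trace_mul_comm A B
    rw [hBA, Matrix.trace_neg] at h1
    have h3 : (2 : F) * (A * B).trace = 0 := by linear_combination h1
    rcases mul_eq_zero.mp h3 with h | h
    · exact absurd h h2
    · exact h
  set W₀ : Matrix (Fin 2) (Fin 2) F := -1 + A + B + A * B with hW₀
  have w1 : W₀ * A = A * B * W₀ := by
    rw [hW₀]
    simp only [mul_add, add_mul, mul_neg, neg_mul, mul_one, one_mul, mul_assoc, hA, hB, hBA, hA', hB', hBA', neg_neg]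
    abel
  have w2 : W₀ * B = A * W₀ := by
    rw [hW₀]
    simp only [mul_add, add_mul, mul_neg, neg_mul, mul_one, one_mul, mul_assoc, hA, hB, hBA, hA', hB', hBA', neg_neg]
    abel
  have w3 : W₀ * W₀ = -((2 : F) • W₀) - (4 : F) • (1 : Matrix (Fin 2) (Fin 2) F) := by
    rw [hW₀]
    simp only [mul_add, add_mul, mul_neg, neg_mul, mul_one, one_mul, mul_assoc, hA, hB, hBA, hA', hB', hBA', neg_neg]
    module
  have w4 : W₀.trace = -2 := by
    rw [hW₀]
    simp only [Matrix.trace_add, Matrix.trace_neg, Matrix.trace_one, hAt, hBt, hABt, Fintype.card_fin]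
    norm_num
  have w5 : W₀.det = 4 := by
    have h := mat2_sq W₀
    rw [w3, w4] at h
    have h' : (4 : F) • (1 : Matrix (Fin 2) (Fin 2) F) = W₀.det • (1 : Matrix (Fin 2) (Fin 2) F) := by
      have : (4 : F) • (1 : Matrix (Fin 2) (Fin 2) F) = -((2 : F) • W₀) - (-((2 : F) • W₀) - (4 : F) • (1 : Matrix (Fin 2) (Fin 2) F)) := by module
      rw [this, h]; module
    exact (smul_one_inj2 h').symm
  have hc : (2 : F) * (2 : F)⁻¹ = 1 := mul_inv_cancel₀ h2
  refine ⟨(2 : F)⁻¹ • W₀, ?_, ?_, ?_, ?_⟩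
  · rw [Matrix.det_smul, w5, Fintype.card_fin]
    linear_combination ((2 : F) * (2 : F)⁻¹ + 1) * hc
  · rw [Matrix.trace_smul, w4, smul_eq_mul]
    linear_combination (-1 : F) * hc
  · rw [smul_mul_assoc, mul_smul_comm, w1]
  · rw [smul_mul_assoc, mul_smul_comm, w2]

end Cfsg.Agent.Lib.Helper99
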