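import Mathlib
import Cfsg.Agent.Lib.Helper99.F4F3

/-!
# Tables for `PSU₄(2) ≅ PSp₄(3)`

The 40 points of the unitary space `F4⁴` of norm one, the 40 points of the symplectic space
`F3⁴`, matched so that orthogonality corresponds, and for each of the 45 isotropic points of
`F4⁴` a symplectic matrix inducing the same permutation as the unitary transvection.
All facts are checked by kernel evaluation.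
-/

set_option autoImplicit false
set_option maxRecDepth 100000

namespace Cfsg.Agent.Lib.Helper99.U42

/-- the forty points -/
inductive Pt : Type
  | p0 | p1 | p2 | p3 | p4 | p5 | p6 | p7 | p8 | p9 | p10 | p11 | p12 | p13 | p14 | p15 | p16 | p17 | p18 | p19 | p20 | p21 | p22 | p23 | p24 | p25 | p26 | p27 | p28 | p29 | p30 | p31 | p32 | p33 | p34 | p35 | p36 | p37 | p38 | p39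
  deriving DecidableEq

instance : Fintype Pt where
  elems := ⟨↑[Pt.p0, Pt.p1, Pt.p2, Pt.p3, Pt.p4, Pt.p5, Pt.p6, Pt.p7, Pt.p8, Pt.p9, Pt.p10, Pt.p11, Pt.p12, Pt.p13, Pt.p14, Pt.p15, Pt.p16, Pt.p17, Pt.p18, Pt.p19, Pt.p20, Pt.p21, Pt.p22, Pt.p23, Pt.p24, Pt.p25, Pt.p26, Pt.p27, Pt.p28, Pt.p29, Pt.p30, Pt.p31, Pt.p32, Pt.p33, Pt.p34, Pt.p35, Pt.p36, Pt.p37, Pt.p38, Pt.p39], by decide⟩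
  complete := fun x => by cases x <;> decide

/-- the zero vector and the forty-five isotropic points -/
inductive Ix : Type
  | k0 | k1 | k2 | k3 | k4 | k5 | k6 | k7 | k8 | k9 | k10 | k11 | k12 | k13 | k14 | k15 | k16 | k17 | k18 | k19 | k20 | k21 | k22 | k23 | k24 | k25 | k26 | k27 | k28 | k29 | k30 | k31 | k32 | k33 | k34 | k35 | k36 | k37 | k38 | k39 | k40 | k41 | k42 | k43 | k44 | k45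
  deriving DecidableEq

instance : Fintype Ix where
  elems := ⟨↑[Ix.k0, Ix.k1, Ix.k2, Ix.k3, Ix.k4, Ix.k5, Ix.k6, Ix.k7, Ix.k8, Ix.k9, Ix.k10, Ix.k11, Ix.k12, Ix.k13, Ix.k14, Ix.k15, Ix.k16, Ix.k17, Ix.k18, Ix.k19, Ix.k20, Ix.k21, Ix.k22, Ix.k23, Ix.k24, Ix.k25, Ix.k26, Ix.k27, Ix.k28, Ix.k29, Ix.k30, Ix.k31, Ix.k32, Ix.k33, Ix.k34, Ix.k35, Ix.k36, Ix.k37, Ix.k38, Ix.k39, Ix.k40, Ix.k41, Ix.k42, Ix.k43, Ix.k44, Ix.k45], by decide⟩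
  complete := fun x => by cases x <;> decide

/-- four coordinates -/
structure Q4 (R : Type) where
  /-- coordinate -/
  x0 : R
  /-- coordinate -/
  x1 : R
  /-- coordinate -/
  x2 : R
  /-- coordinate -/
  x3 : R

/-- selection by an element of `F4` -/
def sel4 {α : Type} : F4 → α → α → α → α → α
  | .o, x, _, _, _ => x
  | .i, _, x, _, _ => x
  | .w, _, _, x, _ => x
  | .v, _, _, _, x => x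

/-- selection by an element of `F3` -/
def sel3 {α : Type} : F3 → α → α → α → α
  | .z, x, _, _ => x
  | .o, _, x, _ => x
  | .t, _, _, x => x

/-- the unitary points -/
def PT4 : Pt → Q4 F4

  | .p0 => ⟨.o, .o, .o, .i⟩
  | .p1 => ⟨.o, .o, .i, .o⟩
  | .p2 => ⟨.o, .i, .o, .o⟩
  | .p3 => ⟨.o, .i, .i, .i⟩
  | .p4 => ⟨.o, .i, .i, .w⟩
  | .p5 => ⟨.o, .i, .i, .v⟩
  | .p6 => ⟨.o, .i, .w, .i⟩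
  | .p7 => ⟨.o, .i, .w, .w⟩
  | .p8 => ⟨.o, .i, .w, .v⟩
  | .p9 => ⟨.o, .i, .v, .i⟩
  | .p10 => ⟨.o, .i, .v, .w⟩
  | .p11 => ⟨.o, .i, .v, .v⟩
  | .p12 => ⟨.i, .o, .o, .o⟩
  | .p13 => ⟨.i, .o, .i, .i⟩
  | .p14 => ⟨.i, .o, .i, .w⟩
  | .p15 => ⟨.i, .o, .i, .v⟩
  | .p16 => ⟨.i, .o, .w, .i⟩
  | .p17 => ⟨.i, .o, .w, .w⟩
  | .p18 => ⟨.i, .o, .w, .v⟩
  | .p19 => ⟨.i, .o, .v, .i⟩
  | .p20 => ⟨.i, .o, .v, .w⟩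
  | .p21 => ⟨.i, .o, .v, .v⟩
  | .p22 => ⟨.i, .i, .o, .i⟩
  | .p23 => ⟨.i, .i, .o, .w⟩
  | .p24 => ⟨.i, .i, .o, .v⟩
  | .p25 => ⟨.i, .i, .i, .o⟩
  | .p26 => ⟨.i, .i, .w, .o⟩
  | .p27 => ⟨.i, .i, .v, .o⟩
  | .p28 => ⟨.i, .w, .o, .i⟩
  | .p29 => ⟨.i, .w, .o, .w⟩
  | .p30 => ⟨.i, .w, .o, .v⟩
  | .p31 => ⟨.i, .w, .i, .o⟩
  | .p32 => ⟨.i, .w, .w, .o⟩
  | .p33 => ⟨.i, .w, .v, .o⟩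
  | .p34 => ⟨.i, .v, .o, .i⟩
  | .p35 => ⟨.i, .v, .o, .w⟩
  | .p36 => ⟨.i, .v, .o, .v⟩
  | .p37 => ⟨.i, .v, .i, .o⟩
  | .p38 => ⟨.i, .v, .w, .o⟩
  | .p39 => ⟨.i, .v, .v, .o⟩

/-- the symplectic points -/
def PT3 : Pt → Q4 F3
  | .p0 => ⟨.z, .z, .z, .o⟩
  | .p1 => ⟨.z, .z, .o, .z⟩
  | .p2 => ⟨.z, .z, .o, .o⟩
  | .p3 => ⟨.o, .o, .z, .z⟩
  | .p4 => ⟨.o, .o, .z, .o⟩
  | .p5 => ⟨.o, .o, .z, .t⟩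
  | .p6 => ⟨.o, .o, .o, .z⟩
  | .p7 => ⟨.o, .o, .o, .o⟩
  | .p8 => ⟨.o, .o, .o, .t⟩
  | .p9 => ⟨.o, .o, .t, .z⟩
  | .p10 => ⟨.o, .o, .t, .o⟩
  | .p11 => ⟨.o, .o, .t, .t⟩
  | .p12 => ⟨.z, .z, .o, .t⟩
  | .p13 => ⟨.o, .t, .z, .z⟩
  | .p14 => ⟨.o, .t, .z, .t⟩
  | .p15 => ⟨.o, .t, .z, .o⟩
  | .p16 => ⟨.o, .t, .o, .z⟩
  | .p17 => ⟨.o, .t, .o, .t⟩
  | .p18 => ⟨.o, .t, .o, .o⟩
  | .p19 => ⟨.o, .t, .t, .z⟩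
  | .p20 => ⟨.o, .t, .t, .t⟩
  | .p21 => ⟨.o, .t, .t, .o⟩
  | .p22 => ⟨.z, .o, .z, .z⟩
  | .p23 => ⟨.z, .o, .z, .o⟩
  | .p24 => ⟨.z, .o, .z, .t⟩
  | .p25 => ⟨.o, .z, .z, .z⟩
  | .p26 => ⟨.o, .z, .o, .z⟩
  | .p27 => ⟨.o, .z, .t, .z⟩
  | .p28 => ⟨.z, .o, .o, .o⟩
  | .p29 => ⟨.z, .o, .o, .t⟩
  | .p30 => ⟨.z, .o, .o, .z⟩
  | .p31 => ⟨.o, .z, .o, .o⟩
  | .p32 => ⟨.o, .z, .t, .o⟩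
  | .p33 => ⟨.o, .z, .z, .o⟩
  | .p34 => ⟨.z, .o, .t, .t⟩
  | .p35 => ⟨.z, .o, .t, .z⟩
  | .p36 => ⟨.z, .o, .t, .o⟩
  | .p37 => ⟨.o, .z, .t, .t⟩
  | .p38 => ⟨.o, .z, .z, .t⟩
  | .p39 => ⟨.o, .z, .o, .t⟩

/-- the index of a unitary vector of norm one -/
def idxT4 (a b c d : F4) : Pt :=
  (sel4 a
  (sel4 b
  (sel4 c
  (sel4 d .p0 .p0 .p0 .p0)
  (sel4 d .p1 .p0 .p0 .p0)
  (sel4 d .p1 .p0 .p0 .p0)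
  (sel4 d .p1 .p0 .p0 .p0))
  (sel4 c
  (sel4 d .p2 .p0 .p0 .p0)
  (sel4 d .p0 .p3 .p4 .p5)
  (sel4 d .p0 .p6 .p7 .p8)
  (sel4 d .p0 .p9 .p10 .p11))
  (sel4 c
  (sel4 d .p2 .p0 .p0 .p0)
  (sel4 d .p0 .p11 .p9 .p10)
  (sel4 d .p0 .p5 .p3 .p4)
  (sel4 d .p0 .p8 .p6 .p7))
  (sel4 c
  (sel4 d .p2 .p0 .p0 .p0)
  (sel4 d .p0 .p7 .p8 .p6)
  (sel4 d .p0 .p10 .p11 .p9)
  (sel4 d .p0 .p4 .p5 .p3)))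
  (sel4 b
  (sel4 c
  (sel4 d .p12 .p0 .p0 .p0)
  (sel4 d .p0 .p13 .p14 .p15)
  (sel4 d .p0 .p16 .p17 .p18)
  (sel4 d .p0 .p19 .p20 .p21))
  (sel4 c
  (sel4 d .p0 .p22 .p23 .p24)
  (sel4 d .p25 .p0 .p0 .p0)
  (sel4 d .p26 .p0 .p0 .p0)
  (sel4 d .p27 .p0 .p0 .p0))
  (sel4 c
  (sel4 d .p0 .p28 .p29 .p30)
  (sel4 d .p31 .p0 .p0 .p0)
  (sel4 d .p32 .p0 .p0 .p0)
  (sel4 d .p33 .p0 .p0 .p0))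
  (sel4 c
  (sel4 d .p0 .p34 .p35 .p36)
  (sel4 d .p37 .p0 .p0 .p0)
  (sel4 d .p38 .p0 .p0 .p0)
  (sel4 d .p39 .p0 .p0 .p0)))
  (sel4 b
  (sel4 c
  (sel4 d .p12 .p0 .p0 .p0)
  (sel4 d .p0 .p21 .p19 .p20)
  (sel4 d .p0 .p15 .p13 .p14)
  (sel4 d .p0 .p18 .p16 .p17))
  (sel4 c
  (sel4 d .p0 .p36 .p34 .p35)
  (sel4 d .p39 .p0 .p0 .p0)
  (sel4 d .p37 .p0 .p0 .p0)
  (sel4 d .p38 .p0 .p0 .p0))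
  (sel4 c
  (sel4 d .p0 .p24 .p22 .p23)
  (sel4 d .p27 .p0 .p0 .p0)
  (sel4 d .p25 .p0 .p0 .p0)
  (sel4 d .p26 .p0 .p0 .p0))
  (sel4 c
  (sel4 d .p0 .p30 .p28 .p29)
  (sel4 d .p33 .p0 .p0 .p0)
  (sel4 d .p31 .p0 .p0 .p0)
  (sel4 d .p32 .p0 .p0 .p0)))
  (sel4 b
  (sel4 c
  (sel4 d .p12 .p0 .p0 .p0)
  (sel4 d .p0 .p17 .p18 .p16)
  (sel4 d .p0 .p20 .p21 .p19)
  (sel4 d .p0 .p14 .p15 .p13))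
  (sel4 c
  (sel4 d .p0 .p29 .p30 .p28)
  (sel4 d .p32 .p0 .p0 .p0)
  (sel4 d .p33 .p0 .p0 .p0)
  (sel4 d .p31 .p0 .p0 .p0))
  (sel4 c
  (sel4 d .p0 .p35 .p36 .p34)
  (sel4 d .p38 .p0 .p0 .p0)
  (sel4 d .p39 .p0 .p0 .p0)
  (sel4 d .p37 .p0 .p0 .p0))
  (sel4 c
  (sel4 d .p0 .p23 .p24 .p22)
  (sel4 d .p26 .p0 .p0 .p0)
  (sel4 d .p27 .p0 .p0 .p0)
  (sel4 d .p25 .p0 .p0 .p0))))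

/-- the index of a nonzero symplectic vector -/
def idxT3 (a b c d : F3) : Pt :=
  (sel3 a
  (sel3 b
  (sel3 c
  (sel3 d .p0 .p0 .p0)
  (sel3 d .p1 .p2 .p12)
  (sel3 d .p1 .p12 .p2))
  (sel3 c
  (sel3 d .p22 .p23 .p24)
  (sel3 d .p30 .p28 .p29)
  (sel3 d .p35 .p36 .p34))
  (sel3 c
  (sel3 d .p22 .p24 .p23)
  (sel3 d .p35 .p34 .p36)
  (sel3 d .p30 .p29 .p28)))
  (sel3 b
  (sel3 c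
  (sel3 d .p25 .p33 .p38)
  (sel3 d .p26 .p31 .p39)
  (sel3 d .p27 .p32 .p37))
  (sel3 c
  (sel3 d .p3 .p4 .p5)
  (sel3 d .p6 .p7 .p8)
  (sel3 d .p9 .p10 .p11))
  (sel3 c
  (sel3 d .p13 .p15 .p14)
  (sel3 d .p16 .p18 .p17)
  (sel3 d .p19 .p21 .p20)))
  (sel3 b
  (sel3 c
  (sel3 d .p25 .p38 .p33)
  (sel3 d .p27 .p37 .p32)
  (sel3 d .p26 .p39 .p31))
  (sel3 c
  (sel3 d .p13 .p14 .p15)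
  (sel3 d .p19 .p20 .p21)
  (sel3 d .p16 .p17 .p18))
  (sel3 c
  (sel3 d .p3 .p5 .p4)
  (sel3 d .p9 .p11 .p10)
  (sel3 d .p6 .p8 .p7))))

/-- the index of an isotropic vector -/
def isoIdx (a b c d : F4) : Ix :=
  (sel4 a
  (sel4 b
  (sel4 c
  (sel4 d .k0 .k0 .k0 .k0)
  (sel4 d .k0 .k1 .k2 .k3)
  (sel4 d .k0 .k3 .k1 .k2)
  (sel4 d .k0 .k2 .k3 .k1))
  (sel4 c
  (sel4 d .k0 .k4 .k5 .k6)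
  (sel4 d .k7 .k0 .k0 .k0)
  (sel4 d .k8 .k0 .k0 .k0)
  (sel4 d .k9 .k0 .k0 .k0))
  (sel4 c
  (sel4 d .k0 .k6 .k4 .k5)
  (sel4 d .k9 .k0 .k0 .k0)
  (sel4 d .k7 .k0 .k0 .k0)
  (sel4 d .k8 .k0 .k0 .k0))
  (sel4 c
  (sel4 d .k0 .k5 .k6 .k4)
  (sel4 d .k8 .k0 .k0 .k0)
  (sel4 d .k9 .k0 .k0 .k0)
  (sel4 d .k7 .k0 .k0 .k0)))
  (sel4 b
  (sel4 c
  (sel4 d .k0 .k10 .k11 .k12)
  (sel4 d .k13 .k0 .k0 .k0)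
  (sel4 d .k14 .k0 .k0 .k0)
  (sel4 d .k15 .k0 .k0 .k0))
  (sel4 c
  (sel4 d .k16 .k0 .k0 .k0)
  (sel4 d .k0 .k17 .k18 .k19)
  (sel4 d .k0 .k20 .k21 .k22)
  (sel4 d .k0 .k23 .k24 .k25))
  (sel4 c
  (sel4 d .k26 .k0 .k0 .k0)
  (sel4 d .k0 .k27 .k28 .k29)
  (sel4 d .k0 .k30 .k31 .k32)
  (sel4 d .k0 .k33 .k34 .k35))
  (sel4 c
  (sel4 d .k36 .k0 .k0 .k0)
  (sel4 d .k0 .k37 .k38 .k39)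
  (sel4 d .k0 .k40 .k41 .k42)
  (sel4 d .k0 .k43 .k44 .k45)))
  (sel4 b
  (sel4 c
  (sel4 d .k0 .k12 .k10 .k11)
  (sel4 d .k15 .k0 .k0 .k0)
  (sel4 d .k13 .k0 .k0 .k0)
  (sel4 d .k14 .k0 .k0 .k0))
  (sel4 c
  (sel4 d .k36 .k0 .k0 .k0)
  (sel4 d .k0 .k45 .k43 .k44)
  (sel4 d .k0 .k39 .k37 .k38)
  (sel4 d .k0 .k42 .k40 .k41))
  (sel4 c
  (sel4 d .k16 .k0 .k0 .k0)
  (sel4 d .k0 .k25 .k23 .k24)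
  (sel4 d .k0 .k19 .k17 .k18)
  (sel4 d .k0 .k22 .k20 .k21))
  (sel4 c
  (sel4 d .k26 .k0 .k0 .k0)
  (sel4 d .k0 .k35 .k33 .k34)
  (sel4 d .k0 .k29 .k27 .k28)
  (sel4 d .k0 .k32 .k30 .k31)))
  (sel4 b
  (sel4 c
  (sel4 d .k0 .k11 .k12 .k10)
  (sel4 d .k14 .k0 .k0 .k0)
  (sel4 d .k15 .k0 .k0 .k0)
  (sel4 d .k13 .k0 .k0 .k0))
  (sel4 c
  (sel4 d .k26 .k0 .k0 .k0)
  (sel4 d .k0 .k31 .k32 .k30)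
  (sel4 d .k0 .k34 .k35 .k33)
  (sel4 d .k0 .k28 .k29 .k27))
  (sel4 c
  (sel4 d .k36 .k0 .k0 .k0)
  (sel4 d .k0 .k41 .k42 .k40)
  (sel4 d .k0 .k44 .k45 .k43)
  (sel4 d .k0 .k38 .k39 .k37))
  (sel4 c
  (sel4 d .k16 .k0 .k0 .k0)
  (sel4 d .k0 .k21 .k22 .k20)
  (sel4 d .k0 .k24 .k25 .k23)
  (sel4 d .k0 .k18 .k19 .k17))))

/-- row 0 of the symplectic matrix -/
def R0 : Ix → Q4 F3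
  | .k0 => ⟨.o, .z, .z, .z⟩
  | .k1 => ⟨.z, .o, .z, .z⟩
  | .k2 => ⟨.z, .o, .z, .z⟩
  | .k3 => ⟨.z, .o, .z, .z⟩
  | .k4 => ⟨.o, .z, .z, .z⟩
  | .k5 => ⟨.o, .z, .z, .z⟩
  | .k6 => ⟨.o, .z, .z, .z⟩
  | .k7 => ⟨.o, .o, .z, .z⟩
  | .k8 => ⟨.o, .o, .z, .z⟩
  | .k9 => ⟨.o, .o, .z, .z⟩
  | .k10 => ⟨.o, .z, .z, .z⟩
  | .k11 => ⟨.o, .z, .z, .z⟩
  | .k12 => ⟨.o, .z, .z, .z⟩
  | .k13 => ⟨.o, .t, .z, .z⟩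
  | .k14 => ⟨.o, .t, .z, .z⟩
  | .k15 => ⟨.o, .t, .z, .z⟩
  | .k16 => ⟨.o, .z, .z, .z⟩
  | .k17 => ⟨.z, .z, .z, .o⟩
  | .k18 => ⟨.z, .t, .z, .o⟩
  | .k19 => ⟨.z, .o, .z, .o⟩
  | .k20 => ⟨.z, .z, .z, .o⟩
  | .k21 => ⟨.z, .t, .z, .o⟩
  | .k22 => ⟨.z, .o, .z, .o⟩
  | .k23 => ⟨.z, .z, .z, .t⟩
  | .k24 => ⟨.z, .o, .z, .t⟩
  | .k25 => ⟨.z, .t, .z, .t⟩
  | .k26 => ⟨.o, .z, .z, .z⟩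
  | .k27 => ⟨.o, .o, .z, .t⟩
  | .k28 => ⟨.o, .t, .z, .t⟩
  | .k29 => ⟨.o, .z, .z, .t⟩
  | .k30 => ⟨.o, .o, .z, .t⟩
  | .k31 => ⟨.o, .t, .z, .t⟩
  | .k32 => ⟨.o, .z, .z, .t⟩
  | .k33 => ⟨.o, .o, .z, .t⟩
  | .k34 => ⟨.o, .t, .z, .t⟩
  | .k35 => ⟨.o, .z, .z, .t⟩
  | .k36 => ⟨.o, .z, .z, .z⟩
  | .k37 => ⟨.o, .o, .z, .o⟩
  | .k38 => ⟨.o, .z, .z, .o⟩
  | .k39 => ⟨.o, .t, .z, .o⟩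
  | .k40 => ⟨.o, .o, .z, .o⟩
  | .k41 => ⟨.o, .z, .z, .o⟩
  | .k42 => ⟨.o, .t, .z, .o⟩
  | .k43 => ⟨.o, .o, .z, .o⟩
  | .k44 => ⟨.o, .z, .z, .o⟩
  | .k45 => ⟨.o, .t, .z, .o⟩

/-- row 1 of the symplectic matrix -/
def R1 : Ix → Q4 F3
  | .k0 => ⟨.z, .o, .z, .z⟩
  | .k1 => ⟨.o, .z, .z, .z⟩
  | .k2 => ⟨.o, .z, .z, .z⟩
  | .k3 => ⟨.o, .z, .z, .z⟩
  | .k4 => ⟨.t, .t, .z, .z⟩
  | .k5 => ⟨.t, .t, .z, .z⟩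
  | .k6 => ⟨.t, .t, .z, .z⟩
  | .k7 => ⟨.z, .t, .z, .z⟩
  | .k8 => ⟨.z, .t, .z, .z⟩
  | .k9 => ⟨.z, .t, .z, .z⟩
  | .k10 => ⟨.o, .t, .z, .z⟩
  | .k11 => ⟨.o, .t, .z, .z⟩
  | .k12 => ⟨.o, .t, .z, .z⟩
  | .k13 => ⟨.z, .t, .z, .z⟩
  | .k14 => ⟨.z, .t, .z, .z⟩
  | .k15 => ⟨.z, .t, .z, .z⟩
  | .k16 => ⟨.z, .t, .z, .z⟩
  | .k17 => ⟨.z, .z, .t, .z⟩
  | .k18 => ⟨.z, .z, .t, .z⟩
  | .k19 => ⟨.z, .z, .t, .z⟩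
  | .k20 => ⟨.o, .z, .t, .z⟩
  | .k21 => ⟨.o, .z, .t, .z⟩
  | .k22 => ⟨.o, .z, .t, .z⟩
  | .k23 => ⟨.o, .z, .o, .z⟩
  | .k24 => ⟨.o, .z, .o, .z⟩
  | .k25 => ⟨.o, .z, .o, .z⟩
  | .k26 => ⟨.z, .t, .z, .z⟩
  | .k27 => ⟨.t, .t, .o, .z⟩
  | .k28 => ⟨.t, .t, .o, .z⟩
  | .k29 => ⟨.t, .t, .o, .z⟩
  | .k30 => ⟨.o, .t, .o, .z⟩
  | .k31 => ⟨.o, .t, .o, .z⟩
  | .k32 => ⟨.o, .t, .o, .z⟩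
  | .k33 => ⟨.z, .t, .o, .z⟩
  | .k34 => ⟨.z, .t, .o, .z⟩
  | .k35 => ⟨.z, .t, .o, .z⟩
  | .k36 => ⟨.z, .t, .z, .z⟩
  | .k37 => ⟨.t, .t, .t, .z⟩
  | .k38 => ⟨.t, .t, .t, .z⟩
  | .k39 => ⟨.t, .t, .t, .z⟩
  | .k40 => ⟨.z, .t, .t, .z⟩
  | .k41 => ⟨.z, .t, .t, .z⟩
  | .k42 => ⟨.z, .t, .t, .z⟩
  | .k43 => ⟨.o, .t, .t, .z⟩
  | .k44 => ⟨.o, .t, .t, .z⟩
  | .k45 => ⟨.o, .t, .t, .z⟩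

/-- row 2 of the symplectic matrix -/
def R2 : Ix → Q4 F3
  | .k0 => ⟨.z, .z, .o, .z⟩
  | .k1 => ⟨.z, .z, .z, .o⟩
  | .k2 => ⟨.z, .t, .z, .o⟩
  | .k3 => ⟨.z, .o, .z, .o⟩
  | .k4 => ⟨.z, .z, .o, .t⟩
  | .k5 => ⟨.z, .o, .o, .t⟩
  | .k6 => ⟨.z, .t, .o, .t⟩
  | .k7 => ⟨.z, .z, .o, .z⟩
  | .k8 => ⟨.z, .o, .o, .z⟩
  | .k9 => ⟨.z, .t, .o, .z⟩
  | .k10 => ⟨.z, .z, .o, .o⟩
  | .k11 => ⟨.z, .t, .o, .o⟩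
  | .k12 => ⟨.z, .o, .o, .o⟩
  | .k13 => ⟨.z, .z, .o, .z⟩
  | .k14 => ⟨.z, .t, .o, .z⟩
  | .k15 => ⟨.z, .o, .o, .z⟩
  | .k16 => ⟨.z, .z, .o, .z⟩
  | .k17 => ⟨.z, .t, .z, .z⟩
  | .k18 => ⟨.z, .t, .z, .z⟩
  | .k19 => ⟨.z, .t, .z, .z⟩
  | .k20 => ⟨.z, .t, .z, .o⟩
  | .k21 => ⟨.z, .o, .z, .o⟩
  | .k22 => ⟨.z, .z, .z, .o⟩
  | .k23 => ⟨.z, .o, .z, .o⟩
  | .k24 => ⟨.z, .z, .z, .o⟩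
  | .k25 => ⟨.z, .t, .z, .o⟩
  | .k26 => ⟨.z, .o, .o, .z⟩
  | .k27 => ⟨.z, .o, .o, .t⟩
  | .k28 => ⟨.z, .t, .o, .t⟩
  | .k29 => ⟨.z, .z, .o, .t⟩
  | .k30 => ⟨.z, .t, .o, .o⟩
  | .k31 => ⟨.z, .o, .o, .o⟩
  | .k32 => ⟨.z, .z, .o, .o⟩
  | .k33 => ⟨.z, .z, .o, .z⟩
  | .k34 => ⟨.z, .z, .o, .z⟩
  | .k35 => ⟨.z, .z, .o, .z⟩
  | .k36 => ⟨.z, .t, .o, .z⟩
  | .k37 => ⟨.z, .t, .o, .t⟩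
  | .k38 => ⟨.z, .z, .o, .t⟩
  | .k39 => ⟨.z, .o, .o, .t⟩
  | .k40 => ⟨.z, .z, .o, .z⟩
  | .k41 => ⟨.z, .z, .o, .z⟩
  | .k42 => ⟨.z, .z, .o, .z⟩
  | .k43 => ⟨.z, .o, .o, .o⟩
  | .k44 => ⟨.z, .z, .o, .o⟩
  | .k45 => ⟨.z, .t, .o, .o⟩

/-- row 3 of the symplectic matrix -/
def R3 : Ix → Q4 F3
  | .k0 => ⟨.z, .z, .z, .o⟩
  | .k1 => ⟨.z, .z, .o, .z⟩
  | .k2 => ⟨.o, .z, .o, .z⟩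
  | .k3 => ⟨.t, .z, .o, .z⟩
  | .k4 => ⟨.z, .z, .z, .t⟩
  | .k5 => ⟨.t, .z, .z, .t⟩
  | .k6 => ⟨.o, .z, .z, .t⟩
  | .k7 => ⟨.z, .z, .o, .t⟩
  | .k8 => ⟨.t, .z, .o, .t⟩
  | .k9 => ⟨.o, .z, .o, .t⟩
  | .k10 => ⟨.z, .z, .z, .t⟩
  | .k11 => ⟨.o, .z, .z, .t⟩
  | .k12 => ⟨.t, .z, .z, .t⟩
  | .k13 => ⟨.z, .z, .t, .t⟩
  | .k14 => ⟨.o, .z, .t, .t⟩
  | .k15 => ⟨.t, .z, .t, .t⟩
  | .k16 => ⟨.z, .z, .z, .t⟩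
  | .k17 => ⟨.o, .z, .z, .z⟩
  | .k18 => ⟨.o, .z, .t, .z⟩
  | .k19 => ⟨.o, .z, .o, .z⟩
  | .k20 => ⟨.o, .z, .z, .z⟩
  | .k21 => ⟨.t, .z, .t, .z⟩
  | .k22 => ⟨.z, .z, .o, .z⟩
  | .k23 => ⟨.t, .z, .z, .z⟩
  | .k24 => ⟨.z, .z, .o, .z⟩
  | .k25 => ⟨.o, .z, .t, .z⟩
  | .k26 => ⟨.t, .z, .z, .t⟩
  | .k27 => ⟨.t, .z, .o, .t⟩
  | .k28 => ⟨.o, .z, .t, .t⟩
  | .k29 => ⟨.z, .z, .z, .t⟩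
  | .k30 => ⟨.o, .z, .o, .t⟩
  | .k31 => ⟨.t, .z, .t, .t⟩
  | .k32 => ⟨.z, .z, .z, .t⟩
  | .k33 => ⟨.z, .z, .o, .t⟩
  | .k34 => ⟨.z, .z, .t, .t⟩
  | .k35 => ⟨.z, .z, .z, .t⟩
  | .k36 => ⟨.o, .z, .z, .t⟩
  | .k37 => ⟨.o, .z, .o, .t⟩
  | .k38 => ⟨.z, .z, .z, .t⟩
  | .k39 => ⟨.t, .z, .t, .t⟩
  | .k40 => ⟨.z, .z, .o, .t⟩
  | .k41 => ⟨.z, .z, .z, .t⟩
  | .k42 => ⟨.z, .z, .t, .t⟩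
  | .k43 => ⟨.t, .z, .o, .t⟩
  | .k44 => ⟨.z, .z, .z, .t⟩
  | .k45 => ⟨.o, .z, .t, .t⟩

/-- the first nonzero coordinate -/
def first4 (a b c d : F4) : F4 := sel4 a (sel4 b (sel4 c d c c c) b b b) a a a

/-- the first nonzero coordinate -/
def first3 (a b c d : F3) : F3 := sel3 a (sel3 b (sel3 c d c c) b b) a a

/-- the Hermitian form in coordinates -/
def hfR (a b c d a' b' c' d' : F4) : F4 :=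
  F4.add (F4.add (F4.add (F4.mul a (F4.mul a' a')) (F4.mul b (F4.mul b' b')))
    (F4.mul c (F4.mul c' c'))) (F4.mul d (F4.mul d' d'))

/-- the unitary transvection in coordinates -/
def tvR (a b c d : F4) (x : Q4 F4) : Q4 F4 :=
  ⟨F4.add x.x0 (F4.mul (hfR x.x0 x.x1 x.x2 x.x3 a b c d) a),
   F4.add x.x1 (F4.mul (hfR x.x0 x.x1 x.x2 x.x3 a b c d) b),
   F4.add x.x2 (F4.mul (hfR x.x0 x.x1 x.x2 x.x3 a b c d) c),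
   F4.add x.x3 (F4.mul (hfR x.x0 x.x1 x.x2 x.x3 a b c d) d)⟩

/-- the index of a vector -/
def idxQ4 (x : Q4 F4) : Pt := idxT4 x.x0 x.x1 x.x2 x.x3

/-- the index of a vector -/
def idxQ3 (x : Q4 F3) : Pt := idxT3 x.x0 x.x1 x.x2 x.x3

/-- a row times a vector -/
def dot3 (r y : Q4 F3) : F3 :=
  F3.add (F3.add (F3.mul r.x0 y.x0) (F3.mul r.x1 y.x1)) (F3.add (F3.mul r.x2 y.x2) (F3.mul r.x3 y.x3))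

/-- the symplectic matrix times a vector -/
def mulR (k : Ix) (y : Q4 F3) : Q4 F3 :=
  ⟨dot3 (R0 k) y, dot3 (R1 k) y, dot3 (R2 k) y, dot3 (R3 k) y⟩

/-- the symplectic form on rows -/
def om3 (u v : Q4 F3) : F3 :=
  F3.add (F3.add (F3.add (F3.neg (F3.mul u.x0 v.x2)) (F3.neg (F3.mul u.x1 v.x3))) (F3.mul u.x2 v.x0))
    (F3.mul u.x3 v.x1)

theorem goodP4 : ∀ x : Pt, hfR (PT4 x).x0 (PT4 x).x1 (PT4 x).x2 (PT4 x).x3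
    (PT4 x).x0 (PT4 x).x1 (PT4 x).x2 (PT4 x).x3 = F4.i := by decide +kernel

theorem spec4 : ∀ a b c d : F4, hfR a b c d a b c d = F4.i →
    (a = F4.mul (first4 a b c d) (PT4 (idxT4 a b c d)).x0 ∧
     b = F4.mul (first4 a b c d) (PT4 (idxT4 a b c d)).x1 ∧
     c = F4.mul (first4 a b c d) (PT4 (idxT4 a b c d)).x2 ∧
     d = F4.mul (first4 a b c d) (PT4 (idxT4 a b c d)).x3) := by decide +kernel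

theorem uniq4 : ∀ (x : Pt) (s : F4), s ≠ F4.o →
    idxT4 (F4.mul s (PT4 x).x0) (F4.mul s (PT4 x).x1) (F4.mul s (PT4 x).x2)
      (F4.mul s (PT4 x).x3) = x := by decide +kernel

theorem goodP3 : ∀ x : Pt, ¬ ((PT3 x).x0 = F3.z ∧ (PT3 x).x1 = F3.z ∧ (PT3 x).x2 = F3.z ∧
    (PT3 x).x3 = F3.z) := by decide +kernel

theorem spec3 : ∀ a b c d : F3, ¬ (a = F3.z ∧ b = F3.z ∧ c = F3.z ∧ d = F3.z) →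
    (a = F3.mul (first3 a b c d) (PT3 (idxT3 a b c d)).x0 ∧
     b = F3.mul (first3 a b c d) (PT3 (idxT3 a b c d)).x1 ∧
     c = F3.mul (first3 a b c d) (PT3 (idxT3 a b c d)).x2 ∧
     d = F3.mul (first3 a b c d) (PT3 (idxT3 a b c d)).x3) := by decide +kernel

theorem uniq3 : ∀ (x : Pt) (s : F3), s ≠ F3.z →
    idxT3 (F3.mul s (PT3 x).x0) (F3.mul s (PT3 x).x1) (F3.mul s (PT3 x).x2)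
      (F3.mul s (PT3 x).x3) = x := by decide +kernel

theorem symp3 : ∀ k : Ix, om3 (R0 k) (R1 k) = F3.z ∧ om3 (R0 k) (R2 k) = F3.t ∧
    om3 (R0 k) (R3 k) = F3.z ∧ om3 (R1 k) (R2 k) = F3.z ∧ om3 (R1 k) (R3 k) = F3.t ∧
    om3 (R2 k) (R3 k) = F3.z := by decide +kernel

theorem tab : ∀ a b c d : F4, hfR a b c d a b c d = F4.o → ∀ x : Pt,
    idxQ4 (tvR a b c d (PT4 x)) = idxQ3 (mulR (isoIdx a b c d) (PT3 x)) := by decide +kernel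

end Cfsg.Agent.Lib.Helper99.U42
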