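import Mathlib
import Cfsg.Agent.Lib.Helper99.F9F2

/-!
# Tables for `G₂(2)′ ≅ PSU₃(3)`: the unitary side

The 63 points of norm one of the unitary space `F9³`, and the permutations of these points
induced by the 56 unitary transvections.  All facts are checked by kernel evaluation.
-/

set_option autoImplicit false
set_option maxRecDepth 100000

namespace Cfsg.Agent.Lib.Helper99.G22


/-- the sixty-three points -/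
inductive Pt63 : Type
  | q0 | q1 | q2 | q3 | q4 | q5 | q6 | q7 | q8 | q9 | q10 | q11 | q12 | q13 | q14 | q15
  | q16 | q17 | q18 | q19 | q20 | q21 | q22 | q23 | q24 | q25 | q26 | q27 | q28 | q29 | q30 | q31
  | q32 | q33 | q34 | q35 | q36 | q37 | q38 | q39 | q40 | q41 | q42 | q43 | q44 | q45 | q46 | q47
  | q48 | q49 | q50 | q51 | q52 | q53 | q54 | q55 | q56 | q57 | q58 | q59 | q60 | q61 | q62
  deriving DecidableEq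

instance : Fintype Pt63 where
  elems := ⟨↑[Pt63.q0, Pt63.q1, Pt63.q2, Pt63.q3, Pt63.q4, Pt63.q5, Pt63.q6, Pt63.q7,
    Pt63.q8, Pt63.q9, Pt63.q10, Pt63.q11, Pt63.q12, Pt63.q13, Pt63.q14, Pt63.q15,
    Pt63.q16, Pt63.q17, Pt63.q18, Pt63.q19, Pt63.q20, Pt63.q21, Pt63.q22, Pt63.q23,
    Pt63.q24, Pt63.q25, Pt63.q26, Pt63.q27, Pt63.q28, Pt63.q29, Pt63.q30, Pt63.q31,
    Pt63.q32, Pt63.q33, Pt63.q34, Pt63.q35, Pt63.q36, Pt63.q37, Pt63.q38, Pt63.q39,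
    Pt63.q40, Pt63.q41, Pt63.q42, Pt63.q43, Pt63.q44, Pt63.q45, Pt63.q46, Pt63.q47,
    Pt63.q48, Pt63.q49, Pt63.q50, Pt63.q51, Pt63.q52, Pt63.q53, Pt63.q54, Pt63.q55,
    Pt63.q56, Pt63.q57, Pt63.q58, Pt63.q59, Pt63.q60, Pt63.q61, Pt63.q62], by decide⟩
  complete := fun x => by cases x <;> decide

/-- the identity and the fifty-six unitary transvections -/
inductive Ix57 : Type
  | k0 | k1 | k2 | k3 | k4 | k5 | k6 | k7 | k8 | k9 | k10 | k11 | k12 | k13 | k14 | k15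
  | k16 | k17 | k18 | k19 | k20 | k21 | k22 | k23 | k24 | k25 | k26 | k27 | k28 | k29 | k30 | k31
  | k32 | k33 | k34 | k35 | k36 | k37 | k38 | k39 | k40 | k41 | k42 | k43 | k44 | k45 | k46 | k47
  | k48 | k49 | k50 | k51 | k52 | k53 | k54 | k55 | k56
  deriving DecidableEq

instance : Fintype Ix57 where
  elems := ⟨↑[Ix57.k0, Ix57.k1, Ix57.k2, Ix57.k3, Ix57.k4, Ix57.k5, Ix57.k6, Ix57.k7,
    Ix57.k8, Ix57.k9, Ix57.k10, Ix57.k11, Ix57.k12, Ix57.k13, Ix57.k14, Ix57.k15,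
    Ix57.k16, Ix57.k17, Ix57.k18, Ix57.k19, Ix57.k20, Ix57.k21, Ix57.k22, Ix57.k23,
    Ix57.k24, Ix57.k25, Ix57.k26, Ix57.k27, Ix57.k28, Ix57.k29, Ix57.k30, Ix57.k31,
    Ix57.k32, Ix57.k33, Ix57.k34, Ix57.k35, Ix57.k36, Ix57.k37, Ix57.k38, Ix57.k39,
    Ix57.k40, Ix57.k41, Ix57.k42, Ix57.k43, Ix57.k44, Ix57.k45, Ix57.k46, Ix57.k47,
    Ix57.k48, Ix57.k49, Ix57.k50, Ix57.k51, Ix57.k52, Ix57.k53, Ix57.k54, Ix57.k55,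
    Ix57.k56], by decide⟩
  complete := fun x => by cases x <;> decide


/-- three coordinates -/
structure Q3 (R : Type) where
  /-- coordinate -/
  x0 : R
  /-- coordinate -/
  x1 : R
  /-- coordinate -/
  x2 : R

/-- selection by an element of `F9` -/
def sel9 {α : Type} : F9 → α → α → α → α → α → α → α → α → α → α
  | .f0, x, _, _, _, _, _, _, _, _ => x
  | .f1, _, x, _, _, _, _, _, _, _ => x
  | .f2, _, _, x, _, _, _, _, _, _ => x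
  | .f3, _, _, _, x, _, _, _, _, _ => x
  | .f4, _, _, _, _, x, _, _, _, _ => x
  | .f5, _, _, _, _, _, x, _, _, _ => x
  | .f6, _, _, _, _, _, _, x, _, _ => x
  | .f7, _, _, _, _, _, _, _, x, _ => x
  | .f8, _, _, _, _, _, _, _, _, x => x

/-- the unitary points -/
def PT9 : Pt63 → Q3 F9
  | .q0 => ⟨.f0, .f0, .f1⟩
  | .q1 => ⟨.f0, .f1, .f0⟩
  | .q2 => ⟨.f0, .f4, .f4⟩
  | .q3 => ⟨.f0, .f4, .f8⟩
  | .q4 => ⟨.f0, .f4, .f5⟩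
  | .q5 => ⟨.f0, .f4, .f7⟩
  | .q6 => ⟨.f1, .f0, .f0⟩
  | .q7 => ⟨.f4, .f0, .f4⟩
  | .q8 => ⟨.f4, .f0, .f8⟩
  | .q9 => ⟨.f4, .f0, .f5⟩
  | .q10 => ⟨.f4, .f0, .f7⟩
  | .q11 => ⟨.f4, .f4, .f0⟩
  | .q12 => ⟨.f1, .f1, .f4⟩
  | .q13 => ⟨.f1, .f1, .f5⟩
  | .q14 => ⟨.f1, .f1, .f7⟩
  | .q15 => ⟨.f1, .f1, .f8⟩
  | .q16 => ⟨.f4, .f8, .f0⟩
  | .q17 => ⟨.f1, .f2, .f4⟩
  | .q18 => ⟨.f1, .f2, .f5⟩
  | .q19 => ⟨.f1, .f2, .f7⟩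
  | .q20 => ⟨.f1, .f2, .f8⟩
  | .q21 => ⟨.f4, .f5, .f0⟩
  | .q22 => ⟨.f1, .f3, .f4⟩
  | .q23 => ⟨.f1, .f3, .f5⟩
  | .q24 => ⟨.f1, .f3, .f7⟩
  | .q25 => ⟨.f1, .f3, .f8⟩
  | .q26 => ⟨.f1, .f4, .f1⟩
  | .q27 => ⟨.f1, .f4, .f2⟩
  | .q28 => ⟨.f1, .f4, .f3⟩
  | .q29 => ⟨.f4, .f6, .f6⟩
  | .q30 => ⟨.f4, .f6, .f1⟩
  | .q31 => ⟨.f1, .f4, .f6⟩
  | .q32 => ⟨.f4, .f6, .f2⟩
  | .q33 => ⟨.f4, .f6, .f3⟩
  | .q34 => ⟨.f1, .f5, .f1⟩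
  | .q35 => ⟨.f1, .f5, .f2⟩
  | .q36 => ⟨.f1, .f5, .f3⟩
  | .q37 => ⟨.f4, .f1, .f6⟩
  | .q38 => ⟨.f4, .f1, .f1⟩
  | .q39 => ⟨.f1, .f5, .f6⟩
  | .q40 => ⟨.f4, .f1, .f2⟩
  | .q41 => ⟨.f4, .f1, .f3⟩
  | .q42 => ⟨.f4, .f7, .f0⟩
  | .q43 => ⟨.f1, .f6, .f4⟩
  | .q44 => ⟨.f1, .f6, .f5⟩
  | .q45 => ⟨.f1, .f6, .f7⟩
  | .q46 => ⟨.f1, .f6, .f8⟩
  | .q47 => ⟨.f1, .f7, .f1⟩
  | .q48 => ⟨.f1, .f7, .f2⟩
  | .q49 => ⟨.f1, .f7, .f3⟩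
  | .q50 => ⟨.f4, .f2, .f6⟩
  | .q51 => ⟨.f4, .f2, .f1⟩
  | .q52 => ⟨.f1, .f7, .f6⟩
  | .q53 => ⟨.f4, .f2, .f2⟩
  | .q54 => ⟨.f4, .f2, .f3⟩
  | .q55 => ⟨.f1, .f8, .f1⟩
  | .q56 => ⟨.f1, .f8, .f2⟩
  | .q57 => ⟨.f1, .f8, .f3⟩
  | .q58 => ⟨.f4, .f3, .f6⟩
  | .q59 => ⟨.f4, .f3, .f1⟩
  | .q60 => ⟨.f1, .f8, .f6⟩
  | .q61 => ⟨.f4, .f3, .f2⟩
  | .q62 => ⟨.f4, .f3, .f3⟩

/-- the index of a non-isotropic vector -/
def idxT9 (a b c : F9) : Pt63 :=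
  (sel9 a
  (sel9 b
  (sel9 c .q0 .q0 .q0 .q0 .q0 .q0 .q0 .q0 .q0)
  (sel9 c .q1 .q2 .q3 .q4 .q0 .q0 .q5 .q0 .q0)
  (sel9 c .q1 .q3 .q2 .q5 .q0 .q0 .q4 .q0 .q0)
  (sel9 c .q1 .q5 .q4 .q2 .q0 .q0 .q3 .q0 .q0)
  (sel9 c .q1 .q0 .q0 .q0 .q2 .q4 .q0 .q5 .q3)
  (sel9 c .q1 .q0 .q0 .q0 .q5 .q2 .q0 .q3 .q4)
  (sel9 c .q1 .q4 .q5 .q3 .q0 .q0 .q2 .q0 .q0)
  (sel9 c .q1 .q0 .q0 .q0 .q4 .q3 .q0 .q2 .q5)
  (sel9 c .q1 .q0 .q0 .q0 .q3 .q5 .q0 .q4 .q2))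
  (sel9 b
  (sel9 c .q6 .q7 .q8 .q9 .q0 .q0 .q10 .q0 .q0)
  (sel9 c .q11 .q0 .q0 .q0 .q12 .q13 .q0 .q14 .q15)
  (sel9 c .q16 .q0 .q0 .q0 .q17 .q18 .q0 .q19 .q20)
  (sel9 c .q21 .q0 .q0 .q0 .q22 .q23 .q0 .q24 .q25)
  (sel9 c .q0 .q26 .q27 .q28 .q29 .q30 .q31 .q32 .q33)
  (sel9 c .q0 .q34 .q35 .q36 .q37 .q38 .q39 .q40 .q41)
  (sel9 c .q42 .q0 .q0 .q0 .q43 .q44 .q0 .q45 .q46)
  (sel9 c .q0 .q47 .q48 .q49 .q50 .q51 .q52 .q53 .q54)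
  (sel9 c .q0 .q55 .q56 .q57 .q58 .q59 .q60 .q61 .q62))
  (sel9 b
  (sel9 c .q6 .q8 .q7 .q10 .q0 .q0 .q9 .q0 .q0)
  (sel9 c .q16 .q0 .q0 .q0 .q20 .q19 .q0 .q18 .q17)
  (sel9 c .q11 .q0 .q0 .q0 .q15 .q14 .q0 .q13 .q12)
  (sel9 c .q42 .q0 .q0 .q0 .q46 .q45 .q0 .q44 .q43)
  (sel9 c .q0 .q56 .q55 .q60 .q62 .q61 .q57 .q59 .q58)
  (sel9 c .q0 .q48 .q47 .q52 .q54 .q53 .q49 .q51 .q50)
  (sel9 c .q21 .q0 .q0 .q0 .q25 .q24 .q0 .q23 .q22)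
  (sel9 c .q0 .q35 .q34 .q39 .q41 .q40 .q36 .q38 .q37)
  (sel9 c .q0 .q27 .q26 .q31 .q33 .q32 .q28 .q30 .q29))
  (sel9 b
  (sel9 c .q6 .q10 .q9 .q7 .q0 .q0 .q8 .q0 .q0)
  (sel9 c .q42 .q0 .q0 .q0 .q45 .q43 .q0 .q46 .q44)
  (sel9 c .q21 .q0 .q0 .q0 .q24 .q22 .q0 .q25 .q23)
  (sel9 c .q11 .q0 .q0 .q0 .q14 .q12 .q0 .q15 .q13)
  (sel9 c .q0 .q52 .q49 .q47 .q53 .q50 .q48 .q54 .q51)
  (sel9 c .q0 .q31 .q28 .q26 .q32 .q29 .q27 .q33 .q30)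
  (sel9 c .q16 .q0 .q0 .q0 .q19 .q17 .q0 .q20 .q18)
  (sel9 c .q0 .q60 .q57 .q55 .q61 .q58 .q56 .q62 .q59)
  (sel9 c .q0 .q39 .q36 .q34 .q40 .q37 .q35 .q41 .q38))
  (sel9 b
  (sel9 c .q6 .q0 .q0 .q0 .q7 .q9 .q0 .q10 .q8)
  (sel9 c .q0 .q38 .q40 .q41 .q34 .q36 .q37 .q39 .q35)
  (sel9 c .q0 .q51 .q53 .q54 .q47 .q49 .q50 .q52 .q48)
  (sel9 c .q0 .q59 .q61 .q62 .q55 .q57 .q58 .q60 .q56)
  (sel9 c .q11 .q13 .q14 .q15 .q0 .q0 .q12 .q0 .q0)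
  (sel9 c .q21 .q23 .q24 .q25 .q0 .q0 .q22 .q0 .q0)
  (sel9 c .q0 .q30 .q32 .q33 .q26 .q28 .q29 .q31 .q27)
  (sel9 c .q42 .q44 .q45 .q46 .q0 .q0 .q43 .q0 .q0)
  (sel9 c .q16 .q18 .q19 .q20 .q0 .q0 .q17 .q0 .q0))
  (sel9 b
  (sel9 c .q6 .q0 .q0 .q0 .q10 .q7 .q0 .q8 .q9)
  (sel9 c .q0 .q29 .q33 .q30 .q31 .q26 .q32 .q27 .q28)
  (sel9 c .q0 .q58 .q62 .q59 .q60 .q55 .q61 .q56 .q57)
  (sel9 c .q0 .q37 .q41 .q38 .q39 .q34 .q40 .q35 .q36)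
  (sel9 c .q42 .q43 .q46 .q44 .q0 .q0 .q45 .q0 .q0)
  (sel9 c .q11 .q12 .q15 .q13 .q0 .q0 .q14 .q0 .q0)
  (sel9 c .q0 .q50 .q54 .q51 .q52 .q47 .q53 .q48 .q49)
  (sel9 c .q16 .q17 .q20 .q18 .q0 .q0 .q19 .q0 .q0)
  (sel9 c .q21 .q22 .q25 .q23 .q0 .q0 .q24 .q0 .q0))
  (sel9 b
  (sel9 c .q6 .q9 .q10 .q8 .q0 .q0 .q7 .q0 .q0)
  (sel9 c .q21 .q0 .q0 .q0 .q23 .q25 .q0 .q22 .q24)
  (sel9 c .q42 .q0 .q0 .q0 .q44 .q46 .q0 .q43 .q45)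
  (sel9 c .q16 .q0 .q0 .q0 .q18 .q20 .q0 .q17 .q19)
  (sel9 c .q0 .q36 .q39 .q35 .q38 .q41 .q34 .q37 .q40)
  (sel9 c .q0 .q57 .q60 .q56 .q59 .q62 .q55 .q58 .q61)
  (sel9 c .q11 .q0 .q0 .q0 .q13 .q15 .q0 .q12 .q14)
  (sel9 c .q0 .q28 .q31 .q27 .q30 .q33 .q26 .q29 .q32)
  (sel9 c .q0 .q49 .q52 .q48 .q51 .q54 .q47 .q50 .q53))
  (sel9 b
  (sel9 c .q6 .q0 .q0 .q0 .q9 .q8 .q0 .q7 .q10)
  (sel9 c .q0 .q62 .q58 .q61 .q57 .q56 .q59 .q55 .q60)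
  (sel9 c .q0 .q33 .q29 .q32 .q28 .q27 .q30 .q26 .q31)
  (sel9 c .q0 .q54 .q50 .q53 .q49 .q48 .q51 .q47 .q52)
  (sel9 c .q21 .q25 .q22 .q24 .q0 .q0 .q23 .q0 .q0)
  (sel9 c .q16 .q20 .q17 .q19 .q0 .q0 .q18 .q0 .q0)
  (sel9 c .q0 .q41 .q37 .q40 .q36 .q35 .q38 .q34 .q39)
  (sel9 c .q11 .q15 .q12 .q14 .q0 .q0 .q13 .q0 .q0)
  (sel9 c .q42 .q46 .q43 .q45 .q0 .q0 .q44 .q0 .q0))
  (sel9 b
  (sel9 c .q6 .q0 .q0 .q0 .q8 .q10 .q0 .q9 .q7)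
  (sel9 c .q0 .q53 .q51 .q50 .q48 .q52 .q54 .q49 .q47)
  (sel9 c .q0 .q40 .q38 .q37 .q35 .q39 .q41 .q36 .q34)
  (sel9 c .q0 .q32 .q30 .q29 .q27 .q31 .q33 .q28 .q26)
  (sel9 c .q16 .q19 .q18 .q17 .q0 .q0 .q20 .q0 .q0)
  (sel9 c .q42 .q45 .q44 .q43 .q0 .q0 .q46 .q0 .q0)
  (sel9 c .q0 .q61 .q59 .q58 .q56 .q60 .q62 .q57 .q55)
  (sel9 c .q21 .q24 .q23 .q22 .q0 .q0 .q25 .q0 .q0)
  (sel9 c .q11 .q14 .q13 .q12 .q0 .q0 .q15 .q0 .q0)))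

/-- the scalar of a vector of norm one -/
def scT9 (a b c : F9) : F9 :=
  (sel9 a
  (sel9 b
  (sel9 c .f0 .f1 .f2 .f3 .f0 .f0 .f6 .f0 .f0)
  (sel9 c .f1 .f0 .f0 .f0 .f0 .f0 .f0 .f0 .f0)
  (sel9 c .f2 .f0 .f0 .f0 .f0 .f0 .f0 .f0 .f0)
  (sel9 c .f3 .f0 .f0 .f0 .f0 .f0 .f0 .f0 .f0)
  (sel9 c .f0 .f0 .f0 .f0 .f1 .f1 .f0 .f1 .f1)
  (sel9 c .f0 .f0 .f0 .f0 .f3 .f3 .f0 .f3 .f3)
  (sel9 c .f6 .f0 .f0 .f0 .f0 .f0 .f0 .f0 .f0)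
  (sel9 c .f0 .f0 .f0 .f0 .f6 .f6 .f0 .f6 .f6)
  (sel9 c .f0 .f0 .f0 .f0 .f2 .f2 .f0 .f2 .f2))
  (sel9 b
  (sel9 c .f1 .f0 .f0 .f0 .f0 .f0 .f0 .f0 .f0)
  (sel9 c .f0 .f0 .f0 .f0 .f1 .f1 .f0 .f1 .f1)
  (sel9 c .f0 .f0 .f0 .f0 .f1 .f1 .f0 .f1 .f1)
  (sel9 c .f0 .f0 .f0 .f0 .f1 .f1 .f0 .f1 .f1)
  (sel9 c .f0 .f1 .f1 .f1 .f0 .f0 .f1 .f0 .f0)
  (sel9 c .f0 .f1 .f1 .f1 .f0 .f0 .f1 .f0 .f0)
  (sel9 c .f0 .f0 .f0 .f0 .f1 .f1 .f0 .f1 .f1)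
  (sel9 c .f0 .f1 .f1 .f1 .f0 .f0 .f1 .f0 .f0)
  (sel9 c .f0 .f1 .f1 .f1 .f0 .f0 .f1 .f0 .f0))
  (sel9 b
  (sel9 c .f2 .f0 .f0 .f0 .f0 .f0 .f0 .f0 .f0)
  (sel9 c .f0 .f0 .f0 .f0 .f2 .f2 .f0 .f2 .f2)
  (sel9 c .f0 .f0 .f0 .f0 .f2 .f2 .f0 .f2 .f2)
  (sel9 c .f0 .f0 .f0 .f0 .f2 .f2 .f0 .f2 .f2)
  (sel9 c .f0 .f2 .f2 .f2 .f0 .f0 .f2 .f0 .f0)
  (sel9 c .f0 .f2 .f2 .f2 .f0 .f0 .f2 .f0 .f0)
  (sel9 c .f0 .f0 .f0 .f0 .f2 .f2 .f0 .f2 .f2)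
  (sel9 c .f0 .f2 .f2 .f2 .f0 .f0 .f2 .f0 .f0)
  (sel9 c .f0 .f2 .f2 .f2 .f0 .f0 .f2 .f0 .f0))
  (sel9 b
  (sel9 c .f3 .f0 .f0 .f0 .f0 .f0 .f0 .f0 .f0)
  (sel9 c .f0 .f0 .f0 .f0 .f3 .f3 .f0 .f3 .f3)
  (sel9 c .f0 .f0 .f0 .f0 .f3 .f3 .f0 .f3 .f3)
  (sel9 c .f0 .f0 .f0 .f0 .f3 .f3 .f0 .f3 .f3)
  (sel9 c .f0 .f3 .f3 .f3 .f0 .f0 .f3 .f0 .f0)
  (sel9 c .f0 .f3 .f3 .f3 .f0 .f0 .f3 .f0 .f0)
  (sel9 c .f0 .f0 .f0 .f0 .f3 .f3 .f0 .f3 .f3)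
  (sel9 c .f0 .f3 .f3 .f3 .f0 .f0 .f3 .f0 .f0)
  (sel9 c .f0 .f3 .f3 .f3 .f0 .f0 .f3 .f0 .f0))
  (sel9 b
  (sel9 c .f0 .f0 .f0 .f0 .f1 .f1 .f0 .f1 .f1)
  (sel9 c .f0 .f1 .f1 .f1 .f0 .f0 .f1 .f0 .f0)
  (sel9 c .f0 .f1 .f1 .f1 .f0 .f0 .f1 .f0 .f0)
  (sel9 c .f0 .f1 .f1 .f1 .f0 .f0 .f1 .f0 .f0)
  (sel9 c .f1 .f0 .f0 .f0 .f0 .f0 .f0 .f0 .f0)
  (sel9 c .f1 .f0 .f0 .f0 .f0 .f0 .f0 .f0 .f0)
  (sel9 c .f0 .f1 .f1 .f1 .f0 .f0 .f1 .f0 .f0)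
  (sel9 c .f1 .f0 .f0 .f0 .f0 .f0 .f0 .f0 .f0)
  (sel9 c .f1 .f0 .f0 .f0 .f0 .f0 .f0 .f0 .f0))
  (sel9 b
  (sel9 c .f0 .f0 .f0 .f0 .f3 .f3 .f0 .f3 .f3)
  (sel9 c .f0 .f3 .f3 .f3 .f0 .f0 .f3 .f0 .f0)
  (sel9 c .f0 .f3 .f3 .f3 .f0 .f0 .f3 .f0 .f0)
  (sel9 c .f0 .f3 .f3 .f3 .f0 .f0 .f3 .f0 .f0)
  (sel9 c .f3 .f0 .f0 .f0 .f0 .f0 .f0 .f0 .f0)
  (sel9 c .f3 .f0 .f0 .f0 .f0 .f0 .f0 .f0 .f0)
  (sel9 c .f0 .f3 .f3 .f3 .f0 .f0 .f3 .f0 .f0)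
  (sel9 c .f3 .f0 .f0 .f0 .f0 .f0 .f0 .f0 .f0)
  (sel9 c .f3 .f0 .f0 .f0 .f0 .f0 .f0 .f0 .f0))
  (sel9 b
  (sel9 c .f6 .f0 .f0 .f0 .f0 .f0 .f0 .f0 .f0)
  (sel9 c .f0 .f0 .f0 .f0 .f6 .f6 .f0 .f6 .f6)
  (sel9 c .f0 .f0 .f0 .f0 .f6 .f6 .f0 .f6 .f6)
  (sel9 c .f0 .f0 .f0 .f0 .f6 .f6 .f0 .f6 .f6)
  (sel9 c .f0 .f6 .f6 .f6 .f0 .f0 .f6 .f0 .f0)
  (sel9 c .f0 .f6 .f6 .f6 .f0 .f0 .f6 .f0 .f0)
  (sel9 c .f0 .f0 .f0 .f0 .f6 .f6 .f0 .f6 .f6)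
  (sel9 c .f0 .f6 .f6 .f6 .f0 .f0 .f6 .f0 .f0)
  (sel9 c .f0 .f6 .f6 .f6 .f0 .f0 .f6 .f0 .f0))
  (sel9 b
  (sel9 c .f0 .f0 .f0 .f0 .f6 .f6 .f0 .f6 .f6)
  (sel9 c .f0 .f6 .f6 .f6 .f0 .f0 .f6 .f0 .f0)
  (sel9 c .f0 .f6 .f6 .f6 .f0 .f0 .f6 .f0 .f0)
  (sel9 c .f0 .f6 .f6 .f6 .f0 .f0 .f6 .f0 .f0)
  (sel9 c .f6 .f0 .f0 .f0 .f0 .f0 .f0 .f0 .f0)
  (sel9 c .f6 .f0 .f0 .f0 .f0 .f0 .f0 .f0 .f0)
  (sel9 c .f0 .f6 .f6 .f6 .f0 .f0 .f6 .f0 .f0)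
  (sel9 c .f6 .f0 .f0 .f0 .f0 .f0 .f0 .f0 .f0)
  (sel9 c .f6 .f0 .f0 .f0 .f0 .f0 .f0 .f0 .f0))
  (sel9 b
  (sel9 c .f0 .f0 .f0 .f0 .f2 .f2 .f0 .f2 .f2)
  (sel9 c .f0 .f2 .f2 .f2 .f0 .f0 .f2 .f0 .f0)
  (sel9 c .f0 .f2 .f2 .f2 .f0 .f0 .f2 .f0 .f0)
  (sel9 c .f0 .f2 .f2 .f2 .f0 .f0 .f2 .f0 .f0)
  (sel9 c .f2 .f0 .f0 .f0 .f0 .f0 .f0 .f0 .f0)
  (sel9 c .f2 .f0 .f0 .f0 .f0 .f0 .f0 .f0 .f0)
  (sel9 c .f0 .f2 .f2 .f2 .f0 .f0 .f2 .f0 .f0)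
  (sel9 c .f2 .f0 .f0 .f0 .f0 .f0 .f0 .f0 .f0)
  (sel9 c .f2 .f0 .f0 .f0 .f0 .f0 .f0 .f0 .f0)))

/-- the index of the transvection with vector `(a, b, c)` and scalar `i` -/
def isoIdxI (a b c : F9) : Ix57 :=
  (sel9 a
  (sel9 b
  (sel9 c .k0 .k0 .k0 .k0 .k0 .k0 .k0 .k0 .k0)
  (sel9 c .k0 .k0 .k0 .k0 .k1 .k3 .k0 .k5 .k7)
  (sel9 c .k0 .k0 .k0 .k0 .k7 .k5 .k0 .k3 .k1)
  (sel9 c .k0 .k0 .k0 .k0 .k5 .k1 .k0 .k7 .k3)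
  (sel9 c .k0 .k4 .k6 .k8 .k0 .k0 .k2 .k0 .k0)
  (sel9 c .k0 .k2 .k8 .k4 .k0 .k0 .k6 .k0 .k0)
  (sel9 c .k0 .k0 .k0 .k0 .k3 .k7 .k0 .k1 .k5)
  (sel9 c .k0 .k8 .k2 .k6 .k0 .k0 .k4 .k0 .k0)
  (sel9 c .k0 .k6 .k4 .k2 .k0 .k0 .k8 .k0 .k0))
  (sel9 b
  (sel9 c .k0 .k0 .k0 .k0 .k9 .k11 .k0 .k13 .k15)
  (sel9 c .k0 .k17 .k19 .k21 .k0 .k0 .k23 .k0 .k0)
  (sel9 c .k0 .k25 .k27 .k29 .k0 .k0 .k31 .k0 .k0)
  (sel9 c .k0 .k33 .k35 .k37 .k0 .k0 .k39 .k0 .k0)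
  (sel9 c .k41 .k0 .k0 .k0 .k0 .k0 .k0 .k0 .k0)
  (sel9 c .k43 .k0 .k0 .k0 .k0 .k0 .k0 .k0 .k0)
  (sel9 c .k0 .k45 .k47 .k49 .k0 .k0 .k51 .k0 .k0)
  (sel9 c .k53 .k0 .k0 .k0 .k0 .k0 .k0 .k0 .k0)
  (sel9 c .k55 .k0 .k0 .k0 .k0 .k0 .k0 .k0 .k0))
  (sel9 b
  (sel9 c .k0 .k0 .k0 .k0 .k15 .k13 .k0 .k11 .k9)
  (sel9 c .k0 .k27 .k25 .k31 .k0 .k0 .k29 .k0 .k0)
  (sel9 c .k0 .k19 .k17 .k23 .k0 .k0 .k21 .k0 .k0)
  (sel9 c .k0 .k47 .k45 .k51 .k0 .k0 .k49 .k0 .k0)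
  (sel9 c .k55 .k0 .k0 .k0 .k0 .k0 .k0 .k0 .k0)
  (sel9 c .k53 .k0 .k0 .k0 .k0 .k0 .k0 .k0 .k0)
  (sel9 c .k0 .k35 .k33 .k39 .k0 .k0 .k37 .k0 .k0)
  (sel9 c .k43 .k0 .k0 .k0 .k0 .k0 .k0 .k0 .k0)
  (sel9 c .k41 .k0 .k0 .k0 .k0 .k0 .k0 .k0 .k0))
  (sel9 b
  (sel9 c .k0 .k0 .k0 .k0 .k13 .k9 .k0 .k15 .k11)
  (sel9 c .k0 .k51 .k49 .k45 .k0 .k0 .k47 .k0 .k0)
  (sel9 c .k0 .k39 .k37 .k33 .k0 .k0 .k35 .k0 .k0)
  (sel9 c .k0 .k23 .k21 .k17 .k0 .k0 .k19 .k0 .k0)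
  (sel9 c .k53 .k0 .k0 .k0 .k0 .k0 .k0 .k0 .k0)
  (sel9 c .k41 .k0 .k0 .k0 .k0 .k0 .k0 .k0 .k0)
  (sel9 c .k0 .k31 .k29 .k25 .k0 .k0 .k27 .k0 .k0)
  (sel9 c .k55 .k0 .k0 .k0 .k0 .k0 .k0 .k0 .k0)
  (sel9 c .k43 .k0 .k0 .k0 .k0 .k0 .k0 .k0 .k0))
  (sel9 b
  (sel9 c .k0 .k12 .k14 .k16 .k0 .k0 .k10 .k0 .k0)
  (sel9 c .k44 .k0 .k0 .k0 .k0 .k0 .k0 .k0 .k0)
  (sel9 c .k54 .k0 .k0 .k0 .k0 .k0 .k0 .k0 .k0)
  (sel9 c .k56 .k0 .k0 .k0 .k0 .k0 .k0 .k0 .k0)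
  (sel9 c .k0 .k0 .k0 .k0 .k18 .k22 .k0 .k24 .k20)
  (sel9 c .k0 .k0 .k0 .k0 .k34 .k38 .k0 .k40 .k36)
  (sel9 c .k42 .k0 .k0 .k0 .k0 .k0 .k0 .k0 .k0)
  (sel9 c .k0 .k0 .k0 .k0 .k46 .k50 .k0 .k52 .k48)
  (sel9 c .k0 .k0 .k0 .k0 .k26 .k30 .k0 .k32 .k28))
  (sel9 b
  (sel9 c .k0 .k10 .k16 .k12 .k0 .k0 .k14 .k0 .k0)
  (sel9 c .k42 .k0 .k0 .k0 .k0 .k0 .k0 .k0 .k0)
  (sel9 c .k56 .k0 .k0 .k0 .k0 .k0 .k0 .k0 .k0)
  (sel9 c .k44 .k0 .k0 .k0 .k0 .k0 .k0 .k0 .k0)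
  (sel9 c .k0 .k0 .k0 .k0 .k52 .k46 .k0 .k48 .k50)
  (sel9 c .k0 .k0 .k0 .k0 .k24 .k18 .k0 .k20 .k22)
  (sel9 c .k54 .k0 .k0 .k0 .k0 .k0 .k0 .k0 .k0)
  (sel9 c .k0 .k0 .k0 .k0 .k32 .k26 .k0 .k28 .k30)
  (sel9 c .k0 .k0 .k0 .k0 .k40 .k34 .k0 .k36 .k38))
  (sel9 b
  (sel9 c .k0 .k0 .k0 .k0 .k11 .k15 .k0 .k9 .k13)
  (sel9 c .k0 .k37 .k39 .k35 .k0 .k0 .k33 .k0 .k0)
  (sel9 c .k0 .k49 .k51 .k47 .k0 .k0 .k45 .k0 .k0)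
  (sel9 c .k0 .k29 .k31 .k27 .k0 .k0 .k25 .k0 .k0)
  (sel9 c .k43 .k0 .k0 .k0 .k0 .k0 .k0 .k0 .k0)
  (sel9 c .k55 .k0 .k0 .k0 .k0 .k0 .k0 .k0 .k0)
  (sel9 c .k0 .k21 .k23 .k19 .k0 .k0 .k17 .k0 .k0)
  (sel9 c .k41 .k0 .k0 .k0 .k0 .k0 .k0 .k0 .k0)
  (sel9 c .k53 .k0 .k0 .k0 .k0 .k0 .k0 .k0 .k0))
  (sel9 b
  (sel9 c .k0 .k16 .k10 .k14 .k0 .k0 .k12 .k0 .k0)
  (sel9 c .k56 .k0 .k0 .k0 .k0 .k0 .k0 .k0 .k0)
  (sel9 c .k42 .k0 .k0 .k0 .k0 .k0 .k0 .k0 .k0)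
  (sel9 c .k54 .k0 .k0 .k0 .k0 .k0 .k0 .k0 .k0)
  (sel9 c .k0 .k0 .k0 .k0 .k38 .k36 .k0 .k34 .k40)
  (sel9 c .k0 .k0 .k0 .k0 .k30 .k28 .k0 .k26 .k32)
  (sel9 c .k44 .k0 .k0 .k0 .k0 .k0 .k0 .k0 .k0)
  (sel9 c .k0 .k0 .k0 .k0 .k22 .k20 .k0 .k18 .k24)
  (sel9 c .k0 .k0 .k0 .k0 .k50 .k48 .k0 .k46 .k52))
  (sel9 b
  (sel9 c .k0 .k14 .k12 .k10 .k0 .k0 .k16 .k0 .k0)
  (sel9 c .k54 .k0 .k0 .k0 .k0 .k0 .k0 .k0 .k0)
  (sel9 c .k44 .k0 .k0 .k0 .k0 .k0 .k0 .k0 .k0)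
  (sel9 c .k42 .k0 .k0 .k0 .k0 .k0 .k0 .k0 .k0)
  (sel9 c .k0 .k0 .k0 .k0 .k28 .k32 .k0 .k30 .k26)
  (sel9 c .k0 .k0 .k0 .k0 .k48 .k52 .k0 .k50 .k46)
  (sel9 c .k56 .k0 .k0 .k0 .k0 .k0 .k0 .k0 .k0)
  (sel9 c .k0 .k0 .k0 .k0 .k36 .k40 .k0 .k38 .k34)
  (sel9 c .k0 .k0 .k0 .k0 .k20 .k24 .k0 .k22 .k18)))

/-- the index of the transvection with vector `(a, b, c)` and scalar `-i` -/
def isoIdxM (a b c : F9) : Ix57 :=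
  (sel9 a
  (sel9 b
  (sel9 c .k0 .k0 .k0 .k0 .k0 .k0 .k0 .k0 .k0)
  (sel9 c .k0 .k0 .k0 .k0 .k2 .k4 .k0 .k6 .k8)
  (sel9 c .k0 .k0 .k0 .k0 .k8 .k6 .k0 .k4 .k2)
  (sel9 c .k0 .k0 .k0 .k0 .k6 .k2 .k0 .k8 .k4)
  (sel9 c .k0 .k3 .k5 .k7 .k0 .k0 .k1 .k0 .k0)
  (sel9 c .k0 .k1 .k7 .k3 .k0 .k0 .k5 .k0 .k0)
  (sel9 c .k0 .k0 .k0 .k0 .k4 .k8 .k0 .k2 .k6)
  (sel9 c .k0 .k7 .k1 .k5 .k0 .k0 .k3 .k0 .k0)
  (sel9 c .k0 .k5 .k3 .k1 .k0 .k0 .k7 .k0 .k0))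
  (sel9 b
  (sel9 c .k0 .k0 .k0 .k0 .k10 .k12 .k0 .k14 .k16)
  (sel9 c .k0 .k18 .k20 .k22 .k0 .k0 .k24 .k0 .k0)
  (sel9 c .k0 .k26 .k28 .k30 .k0 .k0 .k32 .k0 .k0)
  (sel9 c .k0 .k34 .k36 .k38 .k0 .k0 .k40 .k0 .k0)
  (sel9 c .k42 .k0 .k0 .k0 .k0 .k0 .k0 .k0 .k0)
  (sel9 c .k44 .k0 .k0 .k0 .k0 .k0 .k0 .k0 .k0)
  (sel9 c .k0 .k46 .k48 .k50 .k0 .k0 .k52 .k0 .k0)
  (sel9 c .k54 .k0 .k0 .k0 .k0 .k0 .k0 .k0 .k0)
  (sel9 c .k56 .k0 .k0 .k0 .k0 .k0 .k0 .k0 .k0))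
  (sel9 b
  (sel9 c .k0 .k0 .k0 .k0 .k16 .k14 .k0 .k12 .k10)
  (sel9 c .k0 .k28 .k26 .k32 .k0 .k0 .k30 .k0 .k0)
  (sel9 c .k0 .k20 .k18 .k24 .k0 .k0 .k22 .k0 .k0)
  (sel9 c .k0 .k48 .k46 .k52 .k0 .k0 .k50 .k0 .k0)
  (sel9 c .k56 .k0 .k0 .k0 .k0 .k0 .k0 .k0 .k0)
  (sel9 c .k54 .k0 .k0 .k0 .k0 .k0 .k0 .k0 .k0)
  (sel9 c .k0 .k36 .k34 .k40 .k0 .k0 .k38 .k0 .k0)
  (sel9 c .k44 .k0 .k0 .k0 .k0 .k0 .k0 .k0 .k0)
  (sel9 c .k42 .k0 .k0 .k0 .k0 .k0 .k0 .k0 .k0))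
  (sel9 b
  (sel9 c .k0 .k0 .k0 .k0 .k14 .k10 .k0 .k16 .k12)
  (sel9 c .k0 .k52 .k50 .k46 .k0 .k0 .k48 .k0 .k0)
  (sel9 c .k0 .k40 .k38 .k34 .k0 .k0 .k36 .k0 .k0)
  (sel9 c .k0 .k24 .k22 .k18 .k0 .k0 .k20 .k0 .k0)
  (sel9 c .k54 .k0 .k0 .k0 .k0 .k0 .k0 .k0 .k0)
  (sel9 c .k42 .k0 .k0 .k0 .k0 .k0 .k0 .k0 .k0)
  (sel9 c .k0 .k32 .k30 .k26 .k0 .k0 .k28 .k0 .k0)
  (sel9 c .k56 .k0 .k0 .k0 .k0 .k0 .k0 .k0 .k0)
  (sel9 c .k44 .k0 .k0 .k0 .k0 .k0 .k0 .k0 .k0))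
  (sel9 b
  (sel9 c .k0 .k11 .k13 .k15 .k0 .k0 .k9 .k0 .k0)
  (sel9 c .k43 .k0 .k0 .k0 .k0 .k0 .k0 .k0 .k0)
  (sel9 c .k53 .k0 .k0 .k0 .k0 .k0 .k0 .k0 .k0)
  (sel9 c .k55 .k0 .k0 .k0 .k0 .k0 .k0 .k0 .k0)
  (sel9 c .k0 .k0 .k0 .k0 .k17 .k21 .k0 .k23 .k19)
  (sel9 c .k0 .k0 .k0 .k0 .k33 .k37 .k0 .k39 .k35)
  (sel9 c .k41 .k0 .k0 .k0 .k0 .k0 .k0 .k0 .k0)
  (sel9 c .k0 .k0 .k0 .k0 .k45 .k49 .k0 .k51 .k47)
  (sel9 c .k0 .k0 .k0 .k0 .k25 .k29 .k0 .k31 .k27))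
  (sel9 b
  (sel9 c .k0 .k9 .k15 .k11 .k0 .k0 .k13 .k0 .k0)
  (sel9 c .k41 .k0 .k0 .k0 .k0 .k0 .k0 .k0 .k0)
  (sel9 c .k55 .k0 .k0 .k0 .k0 .k0 .k0 .k0 .k0)
  (sel9 c .k43 .k0 .k0 .k0 .k0 .k0 .k0 .k0 .k0)
  (sel9 c .k0 .k0 .k0 .k0 .k51 .k45 .k0 .k47 .k49)
  (sel9 c .k0 .k0 .k0 .k0 .k23 .k17 .k0 .k19 .k21)
  (sel9 c .k53 .k0 .k0 .k0 .k0 .k0 .k0 .k0 .k0)
  (sel9 c .k0 .k0 .k0 .k0 .k31 .k25 .k0 .k27 .k29)
  (sel9 c .k0 .k0 .k0 .k0 .k39 .k33 .k0 .k35 .k37))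
  (sel9 b
  (sel9 c .k0 .k0 .k0 .k0 .k12 .k16 .k0 .k10 .k14)
  (sel9 c .k0 .k38 .k40 .k36 .k0 .k0 .k34 .k0 .k0)
  (sel9 c .k0 .k50 .k52 .k48 .k0 .k0 .k46 .k0 .k0)
  (sel9 c .k0 .k30 .k32 .k28 .k0 .k0 .k26 .k0 .k0)
  (sel9 c .k44 .k0 .k0 .k0 .k0 .k0 .k0 .k0 .k0)
  (sel9 c .k56 .k0 .k0 .k0 .k0 .k0 .k0 .k0 .k0)
  (sel9 c .k0 .k22 .k24 .k20 .k0 .k0 .k18 .k0 .k0)
  (sel9 c .k42 .k0 .k0 .k0 .k0 .k0 .k0 .k0 .k0)
  (sel9 c .k54 .k0 .k0 .k0 .k0 .k0 .k0 .k0 .k0))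
  (sel9 b
  (sel9 c .k0 .k15 .k9 .k13 .k0 .k0 .k11 .k0 .k0)
  (sel9 c .k55 .k0 .k0 .k0 .k0 .k0 .k0 .k0 .k0)
  (sel9 c .k41 .k0 .k0 .k0 .k0 .k0 .k0 .k0 .k0)
  (sel9 c .k53 .k0 .k0 .k0 .k0 .k0 .k0 .k0 .k0)
  (sel9 c .k0 .k0 .k0 .k0 .k37 .k35 .k0 .k33 .k39)
  (sel9 c .k0 .k0 .k0 .k0 .k29 .k27 .k0 .k25 .k31)
  (sel9 c .k43 .k0 .k0 .k0 .k0 .k0 .k0 .k0 .k0)
  (sel9 c .k0 .k0 .k0 .k0 .k21 .k19 .k0 .k17 .k23)
  (sel9 c .k0 .k0 .k0 .k0 .k49 .k47 .k0 .k45 .k51))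
  (sel9 b
  (sel9 c .k0 .k13 .k11 .k9 .k0 .k0 .k15 .k0 .k0)
  (sel9 c .k53 .k0 .k0 .k0 .k0 .k0 .k0 .k0 .k0)
  (sel9 c .k43 .k0 .k0 .k0 .k0 .k0 .k0 .k0 .k0)
  (sel9 c .k41 .k0 .k0 .k0 .k0 .k0 .k0 .k0 .k0)
  (sel9 c .k0 .k0 .k0 .k0 .k27 .k31 .k0 .k29 .k25)
  (sel9 c .k0 .k0 .k0 .k0 .k47 .k51 .k0 .k49 .k45)
  (sel9 c .k55 .k0 .k0 .k0 .k0 .k0 .k0 .k0 .k0)
  (sel9 c .k0 .k0 .k0 .k0 .k35 .k39 .k0 .k37 .k33)
  (sel9 c .k0 .k0 .k0 .k0 .k19 .k23 .k0 .k21 .k17)))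

/-- the vector of a transvection -/
def vT : Ix57 → Q3 F9
  | .k0 => ⟨.f0, .f0, .f0⟩
  | .k1 => ⟨.f0, .f1, .f4⟩
  | .k2 => ⟨.f0, .f1, .f4⟩
  | .k3 => ⟨.f0, .f1, .f5⟩
  | .k4 => ⟨.f0, .f1, .f5⟩
  | .k5 => ⟨.f0, .f1, .f7⟩
  | .k6 => ⟨.f0, .f1, .f7⟩
  | .k7 => ⟨.f0, .f1, .f8⟩
  | .k8 => ⟨.f0, .f1, .f8⟩
  | .k9 => ⟨.f1, .f0, .f4⟩
  | .k10 => ⟨.f1, .f0, .f4⟩
  | .k11 => ⟨.f1, .f0, .f5⟩
  | .k12 => ⟨.f1, .f0, .f5⟩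
  | .k13 => ⟨.f1, .f0, .f7⟩
  | .k14 => ⟨.f1, .f0, .f7⟩
  | .k15 => ⟨.f1, .f0, .f8⟩
  | .k16 => ⟨.f1, .f0, .f8⟩
  | .k17 => ⟨.f1, .f1, .f1⟩
  | .k18 => ⟨.f1, .f1, .f1⟩
  | .k19 => ⟨.f1, .f1, .f2⟩
  | .k20 => ⟨.f1, .f1, .f2⟩
  | .k21 => ⟨.f1, .f1, .f3⟩
  | .k22 => ⟨.f1, .f1, .f3⟩
  | .k23 => ⟨.f1, .f1, .f6⟩
  | .k24 => ⟨.f1, .f1, .f6⟩
  | .k25 => ⟨.f1, .f2, .f1⟩
  | .k26 => ⟨.f1, .f2, .f1⟩
  | .k27 => ⟨.f1, .f2, .f2⟩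
  | .k28 => ⟨.f1, .f2, .f2⟩
  | .k29 => ⟨.f1, .f2, .f3⟩
  | .k30 => ⟨.f1, .f2, .f3⟩
  | .k31 => ⟨.f1, .f2, .f6⟩
  | .k32 => ⟨.f1, .f2, .f6⟩
  | .k33 => ⟨.f1, .f3, .f1⟩
  | .k34 => ⟨.f1, .f3, .f1⟩
  | .k35 => ⟨.f1, .f3, .f2⟩
  | .k36 => ⟨.f1, .f3, .f2⟩
  | .k37 => ⟨.f1, .f3, .f3⟩
  | .k38 => ⟨.f1, .f3, .f3⟩
  | .k39 => ⟨.f1, .f3, .f6⟩
  | .k40 => ⟨.f1, .f3, .f6⟩
  | .k41 => ⟨.f1, .f4, .f0⟩
  | .k42 => ⟨.f1, .f4, .f0⟩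
  | .k43 => ⟨.f1, .f5, .f0⟩
  | .k44 => ⟨.f1, .f5, .f0⟩
  | .k45 => ⟨.f1, .f6, .f1⟩
  | .k46 => ⟨.f1, .f6, .f1⟩
  | .k47 => ⟨.f1, .f6, .f2⟩
  | .k48 => ⟨.f1, .f6, .f2⟩
  | .k49 => ⟨.f1, .f6, .f3⟩
  | .k50 => ⟨.f1, .f6, .f3⟩
  | .k51 => ⟨.f1, .f6, .f6⟩
  | .k52 => ⟨.f1, .f6, .f6⟩
  | .k53 => ⟨.f1, .f7, .f0⟩
  | .k54 => ⟨.f1, .f7, .f0⟩
  | .k55 => ⟨.f1, .f8, .f0⟩
  | .k56 => ⟨.f1, .f8, .f0⟩

/-- the scalar of a transvection -/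
def cT : Ix57 → F9
  | .k0 => .f3
  | .k1 => .f3
  | .k2 => .f6
  | .k3 => .f3
  | .k4 => .f6
  | .k5 => .f3
  | .k6 => .f6
  | .k7 => .f3
  | .k8 => .f6
  | .k9 => .f3
  | .k10 => .f6
  | .k11 => .f3
  | .k12 => .f6
  | .k13 => .f3
  | .k14 => .f6
  | .k15 => .f3
  | .k16 => .f6
  | .k17 => .f3
  | .k18 => .f6
  | .k19 => .f3
  | .k20 => .f6
  | .k21 => .f3
  | .k22 => .f6
  | .k23 => .f3
  | .k24 => .f6
  | .k25 => .f3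
  | .k26 => .f6
  | .k27 => .f3
  | .k28 => .f6
  | .k29 => .f3
  | .k30 => .f6
  | .k31 => .f3
  | .k32 => .f6
  | .k33 => .f3
  | .k34 => .f6
  | .k35 => .f3
  | .k36 => .f6
  | .k37 => .f3
  | .k38 => .f6
  | .k39 => .f3
  | .k40 => .f6
  | .k41 => .f3
  | .k42 => .f6
  | .k43 => .f3
  | .k44 => .f6
  | .k45 => .f3
  | .k46 => .f6
  | .k47 => .f3
  | .k48 => .f6
  | .k49 => .f3
  | .k50 => .f6
  | .k51 => .f3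
  | .k52 => .f6
  | .k53 => .f3
  | .k54 => .f6
  | .k55 => .f3
  | .k56 => .f6

/-- table -/
def pT1 : Pt63 → Pt63
  | .q0 => .q5 | .q1 => .q4 | .q2 => .q1 | .q3 => .q0 | .q4 => .q2 | .q5 => .q3 | .q6 => .q6 | .q7 => .q32
  | .q8 => .q59 | .q9 => .q37 | .q10 => .q54 | .q11 => .q30 | .q12 => .q12 | .q13 => .q35 | .q14 => .q25 | .q15 => .q49
  | .q16 => .q61 | .q17 => .q39 | .q18 => .q43 | .q19 => .q47 | .q20 => .q20 | .q21 => .q41 | .q22 => .q19 | .q23 => .q23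
  | .q24 => .q27 | .q25 => .q60 | .q26 => .q15 | .q27 => .q36 | .q28 => .q18 | .q29 => .q21 | .q30 => .q53 | .q31 => .q31
  | .q32 => .q58 | .q33 => .q8 | .q34 => .q34 | .q35 => .q46 | .q36 => .q24 | .q37 => .q51 | .q38 => .q16 | .q39 => .q56
  | .q40 => .q10 | .q41 => .q29 | .q42 => .q50 | .q43 => .q28 | .q44 => .q55 | .q45 => .q45 | .q46 => .q13 | .q47 => .q22
  | .q48 => .q48 | .q49 => .q26 | .q50 => .q62 | .q51 => .q9 | .q52 => .q44 | .q53 => .q11 | .q54 => .q40 | .q55 => .q52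
  | .q56 => .q17 | .q57 => .q57 | .q58 => .q7 | .q59 => .q33 | .q60 => .q14 | .q61 => .q38 | .q62 => .q42

/-- table -/
def pT2 : Pt63 → Pt63
  | .q0 => .q3 | .q1 => .q2 | .q2 => .q4 | .q3 => .q5 | .q4 => .q1 | .q5 => .q0 | .q6 => .q6 | .q7 => .q58
  | .q8 => .q33 | .q9 => .q51 | .q10 => .q40 | .q11 => .q53 | .q12 => .q12 | .q13 => .q46 | .q14 => .q60 | .q15 => .q26
  | .q16 => .q38 | .q17 => .q56 | .q18 => .q28 | .q19 => .q22 | .q20 => .q20 | .q21 => .q29 | .q22 => .q47 | .q23 => .q23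
  | .q24 => .q36 | .q25 => .q14 | .q26 => .q49 | .q27 => .q24 | .q28 => .q43 | .q29 => .q41 | .q30 => .q11 | .q31 => .q31
  | .q32 => .q7 | .q33 => .q59 | .q34 => .q34 | .q35 => .q13 | .q36 => .q27 | .q37 => .q9 | .q38 => .q61 | .q39 => .q17
  | .q40 => .q54 | .q41 => .q21 | .q42 => .q62 | .q43 => .q18 | .q44 => .q52 | .q45 => .q45 | .q46 => .q35 | .q47 => .q19
  | .q48 => .q48 | .q49 => .q15 | .q50 => .q42 | .q51 => .q37 | .q52 => .q55 | .q53 => .q30 | .q54 => .q10 | .q55 => .q44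
  | .q56 => .q39 | .q57 => .q57 | .q58 => .q32 | .q59 => .q8 | .q60 => .q25 | .q61 => .q16 | .q62 => .q50

/-- table -/
def pT3 : Pt63 → Pt63
  | .q0 => .q2 | .q1 => .q3 | .q2 => .q5 | .q3 => .q4 | .q4 => .q1 | .q5 => .q0 | .q6 => .q6 | .q7 => .q53
  | .q8 => .q38 | .q9 => .q29 | .q10 => .q62 | .q11 => .q33 | .q12 => .q24 | .q13 => .q13 | .q14 => .q48 | .q15 => .q39
  | .q16 => .q58 | .q17 => .q49 | .q18 => .q34 | .q19 => .q19 | .q20 => .q44 | .q21 => .q40 | .q22 => .q31 | .q23 => .q17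
  | .q24 => .q55 | .q25 => .q25 | .q26 => .q26 | .q27 => .q20 | .q28 => .q14 | .q29 => .q59 | .q30 => .q21 | .q31 => .q35
  | .q32 => .q10 | .q33 => .q50 | .q34 => .q60 | .q35 => .q22 | .q36 => .q36 | .q37 => .q7 | .q38 => .q54 | .q39 => .q45
  | .q40 => .q30 | .q41 => .q16 | .q42 => .q51 | .q43 => .q43 | .q44 => .q27 | .q45 => .q15 | .q46 => .q57 | .q47 => .q46
  | .q48 => .q28 | .q49 => .q23 | .q50 => .q11 | .q51 => .q61 | .q52 => .q52 | .q53 => .q37 | .q54 => .q8 | .q55 => .q12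
  | .q56 => .q56 | .q57 => .q47 | .q58 => .q41 | .q59 => .q9 | .q60 => .q18 | .q61 => .q42 | .q62 => .q32

/-- table -/
def pT4 : Pt63 → Pt63
  | .q0 => .q5 | .q1 => .q4 | .q2 => .q0 | .q3 => .q1 | .q4 => .q3 | .q5 => .q2 | .q6 => .q6 | .q7 => .q37
  | .q8 => .q54 | .q9 => .q59 | .q10 => .q32 | .q11 => .q50 | .q12 => .q55 | .q13 => .q13 | .q14 => .q28 | .q15 => .q45
  | .q16 => .q41 | .q17 => .q23 | .q18 => .q60 | .q19 => .q19 | .q20 => .q27 | .q21 => .q30 | .q22 => .q35 | .q23 => .q49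
  | .q24 => .q12 | .q25 => .q25 | .q26 => .q26 | .q27 => .q44 | .q28 => .q48 | .q29 => .q9 | .q30 => .q40 | .q31 => .q22
  | .q32 => .q62 | .q33 => .q11 | .q34 => .q18 | .q35 => .q31 | .q36 => .q36 | .q37 => .q53 | .q38 => .q8 | .q39 => .q15
  | .q40 => .q21 | .q41 => .q58 | .q42 => .q61 | .q43 => .q43 | .q44 => .q20 | .q45 => .q39 | .q46 => .q47 | .q47 => .q57
  | .q48 => .q14 | .q49 => .q17 | .q50 => .q33 | .q51 => .q42 | .q52 => .q52 | .q53 => .q7 | .q54 => .q38 | .q55 => .q24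
  | .q56 => .q56 | .q57 => .q46 | .q58 => .q16 | .q59 => .q29 | .q60 => .q34 | .q61 => .q51 | .q62 => .q10

/-- table -/
def pT5 : Pt63 → Pt63
  | .q0 => .q3 | .q1 => .q2 | .q2 => .q5 | .q3 => .q4 | .q4 => .q0 | .q5 => .q1 | .q6 => .q6 | .q7 => .q40
  | .q8 => .q51 | .q9 => .q58 | .q10 => .q33 | .q11 => .q29 | .q12 => .q36 | .q13 => .q47 | .q14 => .q14 | .q15 => .q23
  | .q16 => .q62 | .q17 => .q45 | .q18 => .q18 | .q19 => .q35 | .q20 => .q52 | .q21 => .q38 | .q22 => .q22 | .q23 => .q56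
  | .q24 => .q20 | .q25 => .q28 | .q26 => .q17 | .q27 => .q27 | .q28 => .q34 | .q29 => .q54 | .q30 => .q9 | .q31 => .q13
  | .q32 => .q21 | .q33 => .q61 | .q34 => .q25 | .q35 => .q57 | .q36 => .q44 | .q37 => .q16 | .q38 => .q32 | .q39 => .q39
  | .q40 => .q50 | .q41 => .q8 | .q42 => .q53 | .q43 => .q60 | .q44 => .q12 | .q45 => .q26 | .q46 => .q46 | .q47 => .q31
  | .q48 => .q43 | .q49 => .q49 | .q50 => .q7 | .q51 => .q41 | .q52 => .q24 | .q53 => .q59 | .q54 => .q11 | .q55 => .q55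
  | .q56 => .q15 | .q57 => .q19 | .q58 => .q30 | .q59 => .q42 | .q60 => .q48 | .q61 => .q10 | .q62 => .q37

/-- table -/
def pT6 : Pt63 → Pt63
  | .q0 => .q4 | .q1 => .q5 | .q2 => .q1 | .q3 => .q0 | .q4 => .q3 | .q5 => .q2 | .q6 => .q6 | .q7 => .q50
  | .q8 => .q41 | .q9 => .q30 | .q10 => .q61 | .q11 => .q54 | .q12 => .q44 | .q13 => .q31 | .q14 => .q14 | .q15 => .q56
  | .q16 => .q37 | .q17 => .q26 | .q18 => .q18 | .q19 => .q57 | .q20 => .q24 | .q21 => .q32 | .q22 => .q22 | .q23 => .q15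
  | .q24 => .q52 | .q25 => .q34 | .q26 => .q45 | .q27 => .q27 | .q28 => .q25 | .q29 => .q11 | .q30 => .q58 | .q31 => .q47
  | .q32 => .q38 | .q33 => .q10 | .q34 => .q28 | .q35 => .q19 | .q36 => .q12 | .q37 => .q62 | .q38 => .q21 | .q39 => .q39
  | .q40 => .q7 | .q41 => .q51 | .q42 => .q59 | .q43 => .q48 | .q44 => .q36 | .q45 => .q17 | .q46 => .q46 | .q47 => .q13
  | .q48 => .q60 | .q49 => .q49 | .q50 => .q40 | .q51 => .q8 | .q52 => .q20 | .q53 => .q42 | .q54 => .q29 | .q55 => .q55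
  | .q56 => .q23 | .q57 => .q35 | .q58 => .q9 | .q59 => .q53 | .q60 => .q43 | .q61 => .q33 | .q62 => .q16

/-- table -/
def pT7 : Pt63 → Pt63
  | .q0 => .q4 | .q1 => .q5 | .q2 => .q0 | .q3 => .q1 | .q4 => .q2 | .q5 => .q3 | .q6 => .q6 | .q7 => .q61
  | .q8 => .q30 | .q9 => .q50 | .q10 => .q41 | .q11 => .q32 | .q12 => .q52 | .q13 => .q22 | .q14 => .q34 | .q15 => .q15
  | .q16 => .q59 | .q17 => .q17 | .q18 => .q48 | .q19 => .q46 | .q20 => .q36 | .q21 => .q37 | .q22 => .q57 | .q23 => .q26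
  | .q24 => .q24 | .q25 => .q18 | .q26 => .q39 | .q27 => .q12 | .q28 => .q28 | .q29 => .q7 | .q30 => .q62 | .q31 => .q19
  | .q32 => .q51 | .q33 => .q21 | .q34 => .q43 | .q35 => .q35 | .q36 => .q55 | .q37 => .q33 | .q38 => .q9 | .q39 => .q23
  | .q40 => .q16 | .q41 => .q53 | .q42 => .q54 | .q43 => .q14 | .q44 => .q44 | .q45 => .q56 | .q46 => .q31 | .q47 => .q47
  | .q48 => .q25 | .q49 => .q45 | .q50 => .q38 | .q51 => .q11 | .q52 => .q27 | .q53 => .q10 | .q54 => .q58 | .q55 => .q20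
  | .q56 => .q49 | .q57 => .q13 | .q58 => .q42 | .q59 => .q40 | .q60 => .q60 | .q61 => .q29 | .q62 => .q8

/-- table -/
def pT8 : Pt63 → Pt63
  | .q0 => .q2 | .q1 => .q3 | .q2 => .q4 | .q3 => .q5 | .q4 => .q0 | .q5 => .q1 | .q6 => .q6 | .q7 => .q29
  | .q8 => .q62 | .q9 => .q38 | .q10 => .q53 | .q11 => .q51 | .q12 => .q27 | .q13 => .q57 | .q14 => .q43 | .q15 => .q15
  | .q16 => .q40 | .q17 => .q17 | .q18 => .q25 | .q19 => .q31 | .q20 => .q55 | .q21 => .q33 | .q22 => .q13 | .q23 => .q39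
  | .q24 => .q24 | .q25 => .q48 | .q26 => .q23 | .q27 => .q52 | .q28 => .q28 | .q29 => .q61 | .q30 => .q8 | .q31 => .q46
  | .q32 => .q11 | .q33 => .q37 | .q34 => .q14 | .q35 => .q35 | .q36 => .q20 | .q37 => .q21 | .q38 => .q50 | .q39 => .q26
  | .q40 => .q59 | .q41 => .q10 | .q42 => .q58 | .q43 => .q34 | .q44 => .q44 | .q45 => .q49 | .q46 => .q19 | .q47 => .q47
  | .q48 => .q18 | .q49 => .q56 | .q50 => .q9 | .q51 => .q32 | .q52 => .q12 | .q53 => .q41 | .q54 => .q42 | .q55 => .q36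
  | .q56 => .q45 | .q57 => .q22 | .q58 => .q54 | .q59 => .q16 | .q60 => .q60 | .q61 => .q7 | .q62 => .q30

/-- table -/
def pT9 : Pt63 → Pt63
  | .q0 => .q10 | .q1 => .q1 | .q2 => .q39 | .q3 => .q52 | .q4 => .q31 | .q5 => .q60 | .q6 => .q9 | .q7 => .q6
  | .q8 => .q0 | .q9 => .q7 | .q10 => .q8 | .q11 => .q36 | .q12 => .q12 | .q13 => .q33 | .q14 => .q44 | .q15 => .q61
  | .q16 => .q49 | .q17 => .q17 | .q18 => .q62 | .q19 => .q23 | .q20 => .q32 | .q21 => .q57 | .q22 => .q22 | .q23 => .q41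
  | .q24 => .q13 | .q25 => .q53 | .q26 => .q16 | .q27 => .q5 | .q28 => .q34 | .q29 => .q29 | .q30 => .q46 | .q31 => .q56
  | .q32 => .q51 | .q33 => .q24 | .q34 => .q42 | .q35 => .q3 | .q36 => .q55 | .q37 => .q37 | .q38 => .q15 | .q39 => .q48
  | .q40 => .q30 | .q41 => .q19 | .q42 => .q28 | .q43 => .q43 | .q44 => .q54 | .q45 => .q18 | .q46 => .q40 | .q47 => .q21
  | .q48 => .q2 | .q49 => .q26 | .q50 => .q50 | .q51 => .q20 | .q52 => .q35 | .q53 => .q59 | .q54 => .q14 | .q55 => .q11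
  | .q56 => .q4 | .q57 => .q47 | .q58 => .q58 | .q59 => .q25 | .q60 => .q27 | .q61 => .q38 | .q62 => .q45

/-- table -/
def pT10 : Pt63 → Pt63
  | .q0 => .q8 | .q1 => .q1 | .q2 => .q48 | .q3 => .q35 | .q4 => .q56 | .q5 => .q27 | .q6 => .q7 | .q7 => .q9
  | .q8 => .q10 | .q9 => .q6 | .q10 => .q0 | .q11 => .q55 | .q12 => .q12 | .q13 => .q24 | .q14 => .q54 | .q15 => .q38
  | .q16 => .q26 | .q17 => .q17 | .q18 => .q45 | .q19 => .q41 | .q20 => .q51 | .q21 => .q47 | .q22 => .q22 | .q23 => .q19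
  | .q24 => .q33 | .q25 => .q59 | .q26 => .q49 | .q27 => .q60 | .q28 => .q42 | .q29 => .q29 | .q30 => .q40 | .q31 => .q4
  | .q32 => .q20 | .q33 => .q13 | .q34 => .q28 | .q35 => .q52 | .q36 => .q11 | .q37 => .q37 | .q38 => .q61 | .q39 => .q2
  | .q40 => .q46 | .q41 => .q23 | .q42 => .q34 | .q43 => .q43 | .q44 => .q14 | .q45 => .q62 | .q46 => .q30 | .q47 => .q57
  | .q48 => .q39 | .q49 => .q16 | .q50 => .q50 | .q51 => .q32 | .q52 => .q3 | .q53 => .q25 | .q54 => .q44 | .q55 => .q36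
  | .q56 => .q31 | .q57 => .q21 | .q58 => .q58 | .q59 => .q53 | .q60 => .q5 | .q61 => .q15 | .q62 => .q18

/-- table -/
def pT11 : Pt63 → Pt63
  | .q0 => .q7 | .q1 => .q1 | .q2 => .q55 | .q3 => .q26 | .q4 => .q34 | .q5 => .q47 | .q6 => .q8 | .q7 => .q10
  | .q8 => .q9 | .q9 => .q6 | .q10 => .q0 | .q11 => .q35 | .q12 => .q46 | .q13 => .q13 | .q14 => .q58 | .q15 => .q32
  | .q16 => .q48 | .q17 => .q25 | .q18 => .q18 | .q19 => .q29 | .q20 => .q61 | .q21 => .q56 | .q22 => .q15 | .q23 => .q23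
  | .q24 => .q50 | .q25 => .q40 | .q26 => .q60 | .q27 => .q36 | .q28 => .q16 | .q29 => .q54 | .q30 => .q30 | .q31 => .q2
  | .q32 => .q22 | .q33 => .q45 | .q34 => .q52 | .q35 => .q57 | .q36 => .q42 | .q37 => .q33 | .q38 => .q38 | .q39 => .q5
  | .q40 => .q17 | .q41 => .q14 | .q42 => .q27 | .q43 => .q20 | .q44 => .q44 | .q45 => .q37 | .q46 => .q53 | .q47 => .q39
  | .q48 => .q28 | .q49 => .q21 | .q50 => .q62 | .q51 => .q51 | .q52 => .q4 | .q53 => .q12 | .q54 => .q19 | .q55 => .q31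
  | .q56 => .q49 | .q57 => .q11 | .q58 => .q41 | .q59 => .q59 | .q60 => .q3 | .q61 => .q43 | .q62 => .q24

/-- table -/
def pT12 : Pt63 → Pt63
  | .q0 => .q10 | .q1 => .q1 | .q2 => .q31 | .q3 => .q60 | .q4 => .q52 | .q5 => .q39 | .q6 => .q9 | .q7 => .q0
  | .q8 => .q6 | .q9 => .q8 | .q10 => .q7 | .q11 => .q57 | .q12 => .q53 | .q13 => .q13 | .q14 => .q41 | .q15 => .q22
  | .q16 => .q28 | .q17 => .q40 | .q18 => .q18 | .q19 => .q54 | .q20 => .q43 | .q21 => .q49 | .q22 => .q32 | .q23 => .q23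
  | .q24 => .q62 | .q25 => .q17 | .q26 => .q3 | .q27 => .q42 | .q28 => .q48 | .q29 => .q19 | .q30 => .q30 | .q31 => .q55
  | .q32 => .q15 | .q33 => .q37 | .q34 => .q4 | .q35 => .q11 | .q36 => .q27 | .q37 => .q45 | .q38 => .q38 | .q39 => .q47
  | .q40 => .q25 | .q41 => .q58 | .q42 => .q36 | .q43 => .q61 | .q44 => .q44 | .q45 => .q33 | .q46 => .q12 | .q47 => .q5
  | .q48 => .q16 | .q49 => .q56 | .q50 => .q24 | .q51 => .q51 | .q52 => .q34 | .q53 => .q46 | .q54 => .q29 | .q55 => .q2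
  | .q56 => .q21 | .q57 => .q35 | .q58 => .q14 | .q59 => .q59 | .q60 => .q26 | .q61 => .q20 | .q62 => .q50

/-- table -/
def pT13 : Pt63 → Pt63
  | .q0 => .q8 | .q1 => .q1 | .q2 => .q27 | .q3 => .q56 | .q4 => .q48 | .q5 => .q35 | .q6 => .q7 | .q7 => .q10
  | .q8 => .q9 | .q9 => .q0 | .q10 => .q6 | .q11 => .q34 | .q12 => .q30 | .q13 => .q62 | .q14 => .q14 | .q15 => .q43
  | .q16 => .q47 | .q17 => .q59 | .q18 => .q33 | .q19 => .q19 | .q20 => .q22 | .q21 => .q55 | .q22 => .q38 | .q23 => .q54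
  | .q24 => .q24 | .q25 => .q12 | .q26 => .q39 | .q27 => .q57 | .q28 => .q3 | .q29 => .q44 | .q30 => .q25 | .q31 => .q16
  | .q32 => .q32 | .q33 => .q50 | .q34 => .q60 | .q35 => .q49 | .q36 => .q4 | .q37 => .q13 | .q38 => .q20 | .q39 => .q42
  | .q40 => .q40 | .q41 => .q29 | .q42 => .q26 | .q43 => .q51 | .q44 => .q41 | .q45 => .q45 | .q46 => .q17 | .q47 => .q31
  | .q48 => .q36 | .q49 => .q5 | .q50 => .q18 | .q51 => .q15 | .q52 => .q21 | .q53 => .q53 | .q54 => .q58 | .q55 => .q52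
  | .q56 => .q28 | .q57 => .q2 | .q58 => .q23 | .q59 => .q46 | .q60 => .q11 | .q61 => .q61 | .q62 => .q37

/-- table -/
def pT14 : Pt63 → Pt63
  | .q0 => .q9 | .q1 => .q1 | .q2 => .q57 | .q3 => .q28 | .q4 => .q36 | .q5 => .q49 | .q6 => .q10 | .q7 => .q6
  | .q8 => .q0 | .q9 => .q8 | .q10 => .q7 | .q11 => .q60 | .q12 => .q25 | .q13 => .q37 | .q14 => .q14 | .q15 => .q51
  | .q16 => .q31 | .q17 => .q46 | .q18 => .q50 | .q19 => .q19 | .q20 => .q38 | .q21 => .q52 | .q22 => .q20 | .q23 => .q58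
  | .q24 => .q24 | .q25 => .q30 | .q26 => .q42 | .q27 => .q2 | .q28 => .q56 | .q29 => .q41 | .q30 => .q12 | .q31 => .q47
  | .q32 => .q32 | .q33 => .q18 | .q34 => .q11 | .q35 => .q5 | .q36 => .q48 | .q37 => .q62 | .q38 => .q22 | .q39 => .q26
  | .q40 => .q40 | .q41 => .q44 | .q42 => .q39 | .q43 => .q15 | .q44 => .q29 | .q45 => .q45 | .q46 => .q59 | .q47 => .q16
  | .q48 => .q4 | .q49 => .q35 | .q50 => .q33 | .q51 => .q43 | .q52 => .q55 | .q53 => .q53 | .q54 => .q23 | .q55 => .q21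
  | .q56 => .q3 | .q57 => .q27 | .q58 => .q54 | .q59 => .q17 | .q60 => .q34 | .q61 => .q61 | .q62 => .q13

/-- table -/
def pT15 : Pt63 → Pt63
  | .q0 => .q9 | .q1 => .q1 | .q2 => .q49 | .q3 => .q36 | .q4 => .q57 | .q5 => .q28 | .q6 => .q10 | .q7 => .q0
  | .q8 => .q6 | .q9 => .q7 | .q10 => .q8 | .q11 => .q39 | .q12 => .q59 | .q13 => .q45 | .q14 => .q29 | .q15 => .q15
  | .q16 => .q52 | .q17 => .q30 | .q18 => .q24 | .q19 => .q58 | .q20 => .q20 | .q21 => .q60 | .q22 => .q51 | .q23 => .q14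
  | .q24 => .q37 | .q25 => .q25 | .q26 => .q4 | .q27 => .q16 | .q28 => .q55 | .q29 => .q23 | .q30 => .q53 | .q31 => .q35
  | .q32 => .q43 | .q33 => .q33 | .q34 => .q2 | .q35 => .q42 | .q36 => .q47 | .q37 => .q18 | .q38 => .q32 | .q39 => .q56
  | .q40 => .q12 | .q41 => .q41 | .q42 => .q31 | .q43 => .q38 | .q44 => .q19 | .q45 => .q50 | .q46 => .q46 | .q47 => .q3
  | .q48 => .q21 | .q49 => .q34 | .q50 => .q13 | .q51 => .q61 | .q52 => .q27 | .q53 => .q17 | .q54 => .q54 | .q55 => .q5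
  | .q56 => .q11 | .q57 => .q26 | .q58 => .q44 | .q59 => .q40 | .q60 => .q48 | .q61 => .q22 | .q62 => .q62

/-- table -/
def pT16 : Pt63 → Pt63
  | .q0 => .q7 | .q1 => .q1 | .q2 => .q34 | .q3 => .q47 | .q4 => .q26 | .q5 => .q55 | .q6 => .q8 | .q7 => .q9
  | .q8 => .q10 | .q9 => .q0 | .q10 => .q6 | .q11 => .q56 | .q12 => .q40 | .q13 => .q50 | .q14 => .q23 | .q15 => .q15
  | .q16 => .q27 | .q17 => .q53 | .q18 => .q37 | .q19 => .q44 | .q20 => .q20 | .q21 => .q48 | .q22 => .q61 | .q23 => .q29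
  | .q24 => .q18 | .q25 => .q25 | .q26 => .q57 | .q27 => .q52 | .q28 => .q5 | .q29 => .q14 | .q30 => .q17 | .q31 => .q42
  | .q32 => .q38 | .q33 => .q33 | .q34 => .q49 | .q35 => .q31 | .q36 => .q3 | .q37 => .q24 | .q38 => .q43 | .q39 => .q11
  | .q40 => .q59 | .q41 => .q41 | .q42 => .q35 | .q43 => .q32 | .q44 => .q58 | .q45 => .q13 | .q46 => .q46 | .q47 => .q36
  | .q48 => .q60 | .q49 => .q2 | .q50 => .q45 | .q51 => .q22 | .q52 => .q16 | .q53 => .q30 | .q54 => .q54 | .q55 => .q28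
  | .q56 => .q39 | .q57 => .q4 | .q58 => .q19 | .q59 => .q12 | .q60 => .q21 | .q61 => .q51 | .q62 => .q62

/-- table -/
def pT17 : Pt63 → Pt63
  | .q0 => .q14 | .q1 => .q47 | .q2 => .q29 | .q3 => .q3 | .q4 => .q36 | .q5 => .q23 | .q6 => .q62 | .q7 => .q34
  | .q8 => .q8 | .q9 => .q30 | .q10 => .q43 | .q11 => .q13 | .q12 => .q0 | .q13 => .q15 | .q14 => .q12 | .q15 => .q11
  | .q16 => .q16 | .q17 => .q48 | .q18 => .q28 | .q19 => .q41 | .q20 => .q58 | .q21 => .q37 | .q22 => .q51 | .q23 => .q60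
  | .q24 => .q9 | .q25 => .q25 | .q26 => .q1 | .q27 => .q19 | .q28 => .q40 | .q29 => .q53 | .q30 => .q24 | .q31 => .q61
  | .q32 => .q32 | .q33 => .q45 | .q34 => .q55 | .q35 => .q22 | .q36 => .q46 | .q37 => .q49 | .q38 => .q6 | .q39 => .q39
  | .q40 => .q18 | .q41 => .q27 | .q42 => .q31 | .q43 => .q54 | .q44 => .q44 | .q45 => .q56 | .q46 => .q4 | .q47 => .q26
  | .q48 => .q59 | .q49 => .q21 | .q50 => .q50 | .q51 => .q35 | .q52 => .q20 | .q53 => .q2 | .q54 => .q10 | .q55 => .q7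
  | .q56 => .q33 | .q57 => .q57 | .q58 => .q52 | .q59 => .q17 | .q60 => .q5 | .q61 => .q42 | .q62 => .q38

/-- table -/
def pT18 : Pt63 → Pt63
  | .q0 => .q12 | .q1 => .q26 | .q2 => .q53 | .q3 => .q3 | .q4 => .q46 | .q5 => .q60 | .q6 => .q38 | .q7 => .q55
  | .q8 => .q8 | .q9 => .q24 | .q10 => .q54 | .q11 => .q15 | .q12 => .q14 | .q13 => .q11 | .q14 => .q0 | .q15 => .q13
  | .q16 => .q16 | .q17 => .q59 | .q18 => .q40 | .q19 => .q27 | .q20 => .q52 | .q21 => .q49 | .q22 => .q35 | .q23 => .q5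
  | .q24 => .q30 | .q25 => .q25 | .q26 => .q47 | .q27 => .q41 | .q28 => .q18 | .q29 => .q2 | .q30 => .q9 | .q31 => .q42
  | .q32 => .q32 | .q33 => .q56 | .q34 => .q7 | .q35 => .q51 | .q36 => .q4 | .q37 => .q21 | .q38 => .q62 | .q39 => .q39
  | .q40 => .q28 | .q41 => .q19 | .q42 => .q61 | .q43 => .q10 | .q44 => .q44 | .q45 => .q33 | .q46 => .q36 | .q47 => .q1
  | .q48 => .q17 | .q49 => .q37 | .q50 => .q50 | .q51 => .q22 | .q52 => .q58 | .q53 => .q29 | .q54 => .q43 | .q55 => .q34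
  | .q56 => .q45 | .q57 => .q57 | .q58 => .q20 | .q59 => .q48 | .q60 => .q23 | .q61 => .q31 | .q62 => .q6

/-- table -/
def pT19 : Pt63 → Pt63
  | .q0 => .q13 | .q1 => .q48 | .q2 => .q2 | .q3 => .q33 | .q4 => .q24 | .q5 => .q39 | .q6 => .q58 | .q7 => .q7
  | .q8 => .q35 | .q9 => .q46 | .q10 => .q32 | .q11 => .q14 | .q12 => .q11 | .q13 => .q15 | .q14 => .q12 | .q15 => .q0
  | .q16 => .q16 | .q17 => .q62 | .q18 => .q37 | .q19 => .q31 | .q20 => .q47 | .q21 => .q41 | .q22 => .q22 | .q23 => .q10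
  | .q24 => .q57 | .q25 => .q53 | .q26 => .q18 | .q27 => .q1 | .q28 => .q59 | .q29 => .q44 | .q30 => .q30 | .q31 => .q38
  | .q32 => .q23 | .q33 => .q51 | .q34 => .q25 | .q35 => .q56 | .q36 => .q36 | .q37 => .q26 | .q38 => .q19 | .q39 => .q43
  | .q40 => .q6 | .q41 => .q52 | .q42 => .q28 | .q43 => .q5 | .q44 => .q55 | .q45 => .q45 | .q46 => .q50 | .q47 => .q61
  | .q48 => .q27 | .q49 => .q17 | .q50 => .q9 | .q51 => .q3 | .q52 => .q21 | .q53 => .q34 | .q54 => .q54 | .q55 => .q29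
  | .q56 => .q8 | .q57 => .q4 | .q58 => .q40 | .q59 => .q42 | .q60 => .q60 | .q61 => .q20 | .q62 => .q49

/-- table -/
def pT20 : Pt63 → Pt63
  | .q0 => .q15 | .q1 => .q27 | .q2 => .q2 | .q3 => .q51 | .q4 => .q57 | .q5 => .q43 | .q6 => .q40 | .q7 => .q7
  | .q8 => .q56 | .q9 => .q50 | .q10 => .q23 | .q11 => .q12 | .q12 => .q14 | .q13 => .q0 | .q14 => .q11 | .q15 => .q13
  | .q16 => .q16 | .q17 => .q49 | .q18 => .q26 | .q19 => .q38 | .q20 => .q61 | .q21 => .q52 | .q22 => .q22 | .q23 => .q32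
  | .q24 => .q4 | .q25 => .q34 | .q26 => .q37 | .q27 => .q48 | .q28 => .q42 | .q29 => .q55 | .q30 => .q30 | .q31 => .q19
  | .q32 => .q10 | .q33 => .q3 | .q34 => .q53 | .q35 => .q8 | .q36 => .q36 | .q37 => .q18 | .q38 => .q31 | .q39 => .q5
  | .q40 => .q58 | .q41 => .q21 | .q42 => .q59 | .q43 => .q39 | .q44 => .q29 | .q45 => .q45 | .q46 => .q9 | .q47 => .q20
  | .q48 => .q1 | .q49 => .q62 | .q50 => .q46 | .q51 => .q33 | .q52 => .q41 | .q53 => .q25 | .q54 => .q54 | .q55 => .q44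
  | .q56 => .q35 | .q57 => .q24 | .q58 => .q6 | .q59 => .q28 | .q60 => .q60 | .q61 => .q47 | .q62 => .q17

/-- table -/
def pT21 : Pt63 → Pt63
  | .q0 => .q12 | .q1 => .q49 | .q2 => .q25 | .q3 => .q35 | .q4 => .q30 | .q5 => .q5 | .q6 => .q61 | .q7 => .q44
  | .q8 => .q33 | .q9 => .q36 | .q10 => .q10 | .q11 => .q15 | .q12 => .q13 | .q13 => .q0 | .q14 => .q11 | .q15 => .q14
  | .q16 => .q16 | .q17 => .q40 | .q18 => .q52 | .q19 => .q59 | .q20 => .q27 | .q21 => .q38 | .q22 => .q8 | .q23 => .q54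
  | .q24 => .q24 | .q25 => .q55 | .q26 => .q58 | .q27 => .q37 | .q28 => .q1 | .q29 => .q29 | .q30 => .q50 | .q31 => .q17
  | .q32 => .q43 | .q33 => .q22 | .q34 => .q34 | .q35 => .q45 | .q36 => .q57 | .q37 => .q20 | .q38 => .q48 | .q39 => .q23
  | .q40 => .q31 | .q41 => .q6 | .q42 => .q26 | .q43 => .q60 | .q44 => .q53 | .q45 => .q3 | .q46 => .q46 | .q47 => .q19
  | .q48 => .q21 | .q49 => .q28 | .q50 => .q4 | .q51 => .q51 | .q52 => .q62 | .q53 => .q7 | .q54 => .q39 | .q55 => .q2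
  | .q56 => .q56 | .q57 => .q9 | .q58 => .q42 | .q59 => .q47 | .q60 => .q32 | .q61 => .q41 | .q62 => .q18

/-- table -/
def pT22 : Pt63 → Pt63
  | .q0 => .q13 | .q1 => .q28 | .q2 => .q55 | .q3 => .q45 | .q4 => .q50 | .q5 => .q5 | .q6 => .q41 | .q7 => .q53
  | .q8 => .q22 | .q9 => .q57 | .q10 => .q10 | .q11 => .q14 | .q12 => .q0 | .q13 => .q12 | .q14 => .q15 | .q15 => .q11
  | .q16 => .q16 | .q17 => .q31 | .q18 => .q62 | .q19 => .q47 | .q20 => .q37 | .q21 => .q48 | .q22 => .q33 | .q23 => .q39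
  | .q24 => .q24 | .q25 => .q2 | .q26 => .q42 | .q27 => .q20 | .q28 => .q49 | .q29 => .q29 | .q30 => .q4 | .q31 => .q40
  | .q32 => .q60 | .q33 => .q8 | .q34 => .q34 | .q35 => .q3 | .q36 => .q9 | .q37 => .q27 | .q38 => .q21 | .q39 => .q54
  | .q40 => .q17 | .q41 => .q61 | .q42 => .q58 | .q43 => .q32 | .q44 => .q7 | .q45 => .q35 | .q46 => .q46 | .q47 => .q59
  | .q48 => .q38 | .q49 => .q1 | .q50 => .q30 | .q51 => .q51 | .q52 => .q18 | .q53 => .q44 | .q54 => .q23 | .q55 => .q25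
  | .q56 => .q56 | .q57 => .q36 | .q58 => .q26 | .q59 => .q19 | .q60 => .q43 | .q61 => .q6 | .q62 => .q52

/-- table -/
def pT23 : Pt63 → Pt63
  | .q0 => .q15 | .q1 => .q52 | .q2 => .q34 | .q3 => .q22 | .q4 => .q4 | .q5 => .q32 | .q6 => .q59 | .q7 => .q29
  | .q8 => .q45 | .q9 => .q9 | .q10 => .q39 | .q11 => .q12 | .q12 => .q13 | .q13 => .q11 | .q14 => .q0 | .q15 => .q14
  | .q16 => .q16 | .q17 => .q26 | .q18 => .q61 | .q19 => .q49 | .q20 => .q38 | .q21 => .q40 | .q22 => .q56 | .q23 => .q23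
  | .q24 => .q50 | .q25 => .q7 | .q26 => .q41 | .q27 => .q62 | .q28 => .q20 | .q29 => .q25 | .q30 => .q46 | .q31 => .q1
  | .q32 => .q54 | .q33 => .q33 | .q34 => .q44 | .q35 => .q35 | .q36 => .q24 | .q37 => .q6 | .q38 => .q28 | .q39 => .q60
  | .q40 => .q47 | .q41 => .q17 | .q42 => .q27 | .q43 => .q43 | .q44 => .q2 | .q45 => .q51 | .q46 => .q57 | .q47 => .q21
  | .q48 => .q18 | .q49 => .q58 | .q50 => .q36 | .q51 => .q8 | .q52 => .q31 | .q53 => .q53 | .q54 => .q5 | .q55 => .q55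
  | .q56 => .q3 | .q57 => .q30 | .q58 => .q19 | .q59 => .q37 | .q60 => .q10 | .q61 => .q48 | .q62 => .q42

/-- table -/
def pT24 : Pt63 → Pt63
  | .q0 => .q14 | .q1 => .q31 | .q2 => .q44 | .q3 => .q56 | .q4 => .q4 | .q5 => .q54 | .q6 => .q37 | .q7 => .q25
  | .q8 => .q51 | .q9 => .q9 | .q10 => .q60 | .q11 => .q13 | .q12 => .q11 | .q13 => .q12 | .q14 => .q15 | .q15 => .q0
  | .q16 => .q16 | .q17 => .q41 | .q18 => .q48 | .q19 => .q58 | .q20 => .q28 | .q21 => .q47 | .q22 => .q3 | .q23 => .q23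
  | .q24 => .q36 | .q25 => .q29 | .q26 => .q17 | .q27 => .q42 | .q28 => .q38 | .q29 => .q7 | .q30 => .q57 | .q31 => .q52
  | .q32 => .q5 | .q33 => .q33 | .q34 => .q2 | .q35 => .q35 | .q36 => .q50 | .q37 => .q59 | .q38 => .q20 | .q39 => .q10
  | .q40 => .q21 | .q41 => .q26 | .q42 => .q62 | .q43 => .q43 | .q44 => .q34 | .q45 => .q8 | .q46 => .q30 | .q47 => .q40
  | .q48 => .q61 | .q49 => .q19 | .q50 => .q24 | .q51 => .q45 | .q52 => .q1 | .q53 => .q53 | .q54 => .q32 | .q55 => .q55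
  | .q56 => .q22 | .q57 => .q46 | .q58 => .q49 | .q59 => .q6 | .q60 => .q39 | .q61 => .q18 | .q62 => .q27

/-- table -/
def pT25 : Pt63 → Pt63
  | .q0 => .q19 | .q1 => .q34 | .q2 => .q2 | .q3 => .q58 | .q4 => .q44 | .q5 => .q49 | .q6 => .q33 | .q7 => .q47
  | .q8 => .q8 | .q9 => .q59 | .q10 => .q22 | .q11 => .q11 | .q12 => .q35 | .q13 => .q57 | .q14 => .q54 | .q15 => .q29
  | .q16 => .q18 | .q17 => .q0 | .q18 => .q20 | .q19 => .q17 | .q20 => .q16 | .q21 => .q60 | .q22 => .q41 | .q23 => .q23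
  | .q24 => .q27 | .q25 => .q5 | .q26 => .q7 | .q27 => .q62 | .q28 => .q28 | .q29 => .q39 | .q30 => .q12 | .q31 => .q4
  | .q32 => .q21 | .q33 => .q51 | .q34 => .q55 | .q35 => .q30 | .q36 => .q42 | .q37 => .q37 | .q38 => .q48 | .q39 => .q15
  | .q40 => .q3 | .q41 => .q10 | .q42 => .q50 | .q43 => .q38 | .q44 => .q31 | .q45 => .q9 | .q46 => .q46 | .q47 => .q26
  | .q48 => .q43 | .q49 => .q25 | .q50 => .q36 | .q51 => .q6 | .q52 => .q52 | .q53 => .q13 | .q54 => .q56 | .q55 => .q1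
  | .q56 => .q14 | .q57 => .q53 | .q58 => .q40 | .q59 => .q45 | .q60 => .q32 | .q61 => .q61 | .q62 => .q24

/-- table -/
def pT26 : Pt63 → Pt63
  | .q0 => .q17 | .q1 => .q55 | .q2 => .q2 | .q3 => .q40 | .q4 => .q31 | .q5 => .q25 | .q6 => .q51 | .q7 => .q26
  | .q8 => .q8 | .q9 => .q45 | .q10 => .q41 | .q11 => .q11 | .q12 => .q30 | .q13 => .q53 | .q14 => .q56 | .q15 => .q39
  | .q16 => .q20 | .q17 => .q19 | .q18 => .q16 | .q19 => .q0 | .q20 => .q18 | .q21 => .q32 | .q22 => .q10 | .q23 => .q23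
  | .q24 => .q62 | .q25 => .q49 | .q26 => .q47 | .q27 => .q24 | .q28 => .q28 | .q29 => .q15 | .q30 => .q35 | .q31 => .q44
  | .q32 => .q60 | .q33 => .q6 | .q34 => .q1 | .q35 => .q12 | .q36 => .q50 | .q37 => .q37 | .q38 => .q43 | .q39 => .q29
  | .q40 => .q58 | .q41 => .q22 | .q42 => .q36 | .q43 => .q48 | .q44 => .q4 | .q45 => .q59 | .q46 => .q46 | .q47 => .q7
  | .q48 => .q38 | .q49 => .q5 | .q50 => .q42 | .q51 => .q33 | .q52 => .q52 | .q53 => .q57 | .q54 => .q14 | .q55 => .q34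
  | .q56 => .q54 | .q57 => .q13 | .q58 => .q3 | .q59 => .q9 | .q60 => .q21 | .q61 => .q61 | .q62 => .q27

/-- table -/
def pT27 : Pt63 → Pt63
  | .q0 => .q18 | .q1 => .q35 | .q2 => .q62 | .q3 => .q3 | .q4 => .q52 | .q5 => .q45 | .q6 => .q29 | .q7 => .q7
  | .q8 => .q48 | .q9 => .q25 | .q10 => .q61 | .q11 => .q11 | .q12 => .q33 | .q13 => .q50 | .q14 => .q60 | .q15 => .q34
  | .q16 => .q19 | .q17 => .q16 | .q18 => .q20 | .q19 => .q17 | .q20 => .q0 | .q21 => .q57 | .q22 => .q4 | .q23 => .q26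
  | .q24 => .q24 | .q25 => .q37 | .q26 => .q58 | .q27 => .q8 | .q28 => .q5 | .q29 => .q53 | .q30 => .q21 | .q31 => .q31
  | .q32 => .q15 | .q33 => .q36 | .q34 => .q32 | .q35 => .q56 | .q36 => .q12 | .q37 => .q9 | .q38 => .q2 | .q39 => .q42
  | .q40 => .q47 | .q41 => .q41 | .q42 => .q54 | .q43 => .q43 | .q44 => .q10 | .q45 => .q28 | .q46 => .q40 | .q47 => .q46
  | .q48 => .q27 | .q49 => .q49 | .q50 => .q55 | .q51 => .q14 | .q52 => .q22 | .q53 => .q6 | .q54 => .q39 | .q55 => .q13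
  | .q56 => .q1 | .q57 => .q30 | .q58 => .q23 | .q59 => .q59 | .q60 => .q51 | .q61 => .q44 | .q62 => .q38

/-- table -/
def pT28 : Pt63 → Pt63
  | .q0 => .q20 | .q1 => .q56 | .q2 => .q38 | .q3 => .q3 | .q4 => .q22 | .q5 => .q28 | .q6 => .q53 | .q7 => .q7
  | .q8 => .q27 | .q9 => .q37 | .q10 => .q44 | .q11 => .q11 | .q12 => .q36 | .q13 => .q55 | .q14 => .q51 | .q15 => .q32
  | .q16 => .q17 | .q17 => .q19 | .q18 => .q0 | .q19 => .q16 | .q20 => .q18 | .q21 => .q30 | .q22 => .q52 | .q23 => .q58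
  | .q24 => .q24 | .q25 => .q9 | .q26 => .q23 | .q27 => .q48 | .q28 => .q45 | .q29 => .q6 | .q30 => .q57 | .q31 => .q31
  | .q32 => .q34 | .q33 => .q12 | .q34 => .q15 | .q35 => .q1 | .q36 => .q33 | .q37 => .q25 | .q38 => .q62 | .q39 => .q54
  | .q40 => .q46 | .q41 => .q41 | .q42 => .q39 | .q43 => .q43 | .q44 => .q61 | .q45 => .q5 | .q46 => .q47 | .q47 => .q40
  | .q48 => .q8 | .q49 => .q49 | .q50 => .q13 | .q51 => .q60 | .q52 => .q4 | .q53 => .q29 | .q54 => .q42 | .q55 => .q50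
  | .q56 => .q35 | .q57 => .q21 | .q58 => .q26 | .q59 => .q59 | .q60 => .q14 | .q61 => .q10 | .q62 => .q2

/-- table -/
def pT29 : Pt63 → Pt63
  | .q0 => .q17 | .q1 => .q36 | .q2 => .q48 | .q3 => .q46 | .q4 => .q4 | .q5 => .q59 | .q6 => .q32 | .q7 => .q23
  | .q8 => .q62 | .q9 => .q49 | .q10 => .q10 | .q11 => .q11 | .q12 => .q53 | .q13 => .q39 | .q14 => .q30 | .q15 => .q56
  | .q16 => .q20 | .q17 => .q18 | .q18 => .q0 | .q19 => .q16 | .q20 => .q19 | .q21 => .q55 | .q22 => .q31 | .q23 => .q40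
  | .q24 => .q2 | .q25 => .q25 | .q26 => .q3 | .q27 => .q27 | .q28 => .q9 | .q29 => .q21 | .q30 => .q34 | .q31 => .q61
  | .q32 => .q54 | .q33 => .q13 | .q34 => .q14 | .q35 => .q42 | .q36 => .q57 | .q37 => .q5 | .q38 => .q38 | .q39 => .q33
  | .q40 => .q7 | .q41 => .q52 | .q42 => .q51 | .q43 => .q8 | .q44 => .q41 | .q45 => .q45 | .q46 => .q26 | .q47 => .q47
  | .q48 => .q24 | .q49 => .q28 | .q50 => .q15 | .q51 => .q35 | .q52 => .q44 | .q53 => .q60 | .q54 => .q6 | .q55 => .q29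
  | .q56 => .q50 | .q57 => .q1 | .q58 => .q58 | .q59 => .q37 | .q60 => .q12 | .q61 => .q22 | .q62 => .q43

/-- table -/
def pT30 : Pt63 → Pt63
  | .q0 => .q18 | .q1 => .q57 | .q2 => .q24 | .q3 => .q26 | .q4 => .q4 | .q5 => .q37 | .q6 => .q54 | .q7 => .q40
  | .q8 => .q43 | .q9 => .q28 | .q10 => .q10 | .q11 => .q11 | .q12 => .q60 | .q13 => .q33 | .q14 => .q34 | .q15 => .q50
  | .q16 => .q19 | .q17 => .q0 | .q18 => .q17 | .q19 => .q20 | .q20 => .q16 | .q21 => .q29 | .q22 => .q61 | .q23 => .q7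
  | .q24 => .q48 | .q25 => .q25 | .q26 => .q46 | .q27 => .q27 | .q28 => .q49 | .q29 => .q55 | .q30 => .q14 | .q31 => .q22
  | .q32 => .q6 | .q33 => .q39 | .q34 => .q30 | .q35 => .q51 | .q36 => .q1 | .q37 => .q59 | .q38 => .q38 | .q39 => .q13
  | .q40 => .q23 | .q41 => .q44 | .q42 => .q35 | .q43 => .q62 | .q44 => .q52 | .q45 => .q45 | .q46 => .q3 | .q47 => .q47
  | .q48 => .q2 | .q49 => .q9 | .q50 => .q56 | .q51 => .q42 | .q52 => .q41 | .q53 => .q12 | .q54 => .q32 | .q55 => .q21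
  | .q56 => .q15 | .q57 => .q36 | .q58 => .q58 | .q59 => .q5 | .q60 => .q53 | .q61 => .q31 | .q62 => .q8

/-- table -/
def pT31 : Pt63 → Pt63
  | .q0 => .q20 | .q1 => .q39 | .q2 => .q43 | .q3 => .q47 | .q4 => .q61 | .q5 => .q5 | .q6 => .q30 | .q7 => .q58
  | .q8 => .q24 | .q9 => .q9 | .q10 => .q52 | .q11 => .q11 | .q12 => .q55 | .q13 => .q32 | .q14 => .q36 | .q15 => .q51
  | .q16 => .q17 | .q17 => .q18 | .q18 => .q16 | .q19 => .q0 | .q20 => .q19 | .q21 => .q56 | .q22 => .q22 | .q23 => .q3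
  | .q24 => .q38 | .q25 => .q28 | .q26 => .q26 | .q27 => .q2 | .q28 => .q59 | .q29 => .q14 | .q30 => .q50 | .q31 => .q10
  | .q32 => .q35 | .q33 => .q21 | .q34 => .q42 | .q35 => .q13 | .q36 => .q29 | .q37 => .q49 | .q38 => .q8 | .q39 => .q60
  | .q40 => .q40 | .q41 => .q4 | .q42 => .q53 | .q43 => .q27 | .q44 => .q44 | .q45 => .q37 | .q46 => .q7 | .q47 => .q23
  | .q48 => .q48 | .q49 => .q45 | .q50 => .q6 | .q51 => .q57 | .q52 => .q31 | .q53 => .q34 | .q54 => .q12 | .q55 => .q54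
  | .q56 => .q33 | .q57 => .q15 | .q58 => .q46 | .q59 => .q25 | .q60 => .q1 | .q61 => .q41 | .q62 => .q62

/-- table -/
def pT32 : Pt63 → Pt63
  | .q0 => .q19 | .q1 => .q60 | .q2 => .q27 | .q3 => .q23 | .q4 => .q41 | .q5 => .q5 | .q6 => .q50 | .q7 => .q46
  | .q8 => .q38 | .q9 => .q9 | .q10 => .q31 | .q11 => .q11 | .q12 => .q54 | .q13 => .q35 | .q14 => .q29 | .q15 => .q57
  | .q16 => .q18 | .q17 => .q16 | .q18 => .q17 | .q19 => .q20 | .q20 => .q0 | .q21 => .q33 | .q22 => .q22 | .q23 => .q47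
  | .q24 => .q8 | .q25 => .q59 | .q26 => .q26 | .q27 => .q43 | .q28 => .q25 | .q29 => .q36 | .q30 => .q6 | .q31 => .q52
  | .q32 => .q13 | .q33 => .q56 | .q34 => .q53 | .q35 => .q32 | .q36 => .q14 | .q37 => .q45 | .q38 => .q24 | .q39 => .q1
  | .q40 => .q40 | .q41 => .q61 | .q42 => .q34 | .q43 => .q2 | .q44 => .q44 | .q45 => .q49 | .q46 => .q58 | .q47 => .q3
  | .q48 => .q48 | .q49 => .q37 | .q50 => .q30 | .q51 => .q15 | .q52 => .q10 | .q53 => .q42 | .q54 => .q55 | .q55 => .q12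
  | .q56 => .q21 | .q57 => .q51 | .q58 => .q7 | .q59 => .q28 | .q60 => .q39 | .q61 => .q4 | .q62 => .q62

/-- table -/
def pT33 : Pt63 → Pt63
  | .q0 => .q24 | .q1 => .q26 | .q2 => .q57 | .q3 => .q18 | .q4 => .q4 | .q5 => .q37 | .q6 => .q54 | .q7 => .q55
  | .q8 => .q8 | .q9 => .q38 | .q10 => .q12 | .q11 => .q39 | .q12 => .q33 | .q13 => .q13 | .q14 => .q48 | .q15 => .q2
  | .q16 => .q58 | .q17 => .q30 | .q18 => .q52 | .q19 => .q9 | .q20 => .q20 | .q21 => .q23 | .q22 => .q0 | .q23 => .q25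
  | .q24 => .q22 | .q25 => .q21 | .q26 => .q34 | .q27 => .q51 | .q28 => .q16 | .q29 => .q29 | .q30 => .q56 | .q31 => .q46
  | .q32 => .q5 | .q33 => .q10 | .q34 => .q1 | .q35 => .q45 | .q36 => .q61 | .q37 => .q32 | .q38 => .q19 | .q39 => .q53
  | .q40 => .q40 | .q41 => .q14 | .q42 => .q42 | .q43 => .q27 | .q44 => .q36 | .q45 => .q62 | .q46 => .q50 | .q47 => .q7
  | .q48 => .q41 | .q49 => .q49 | .q50 => .q31 | .q51 => .q43 | .q52 => .q3 | .q53 => .q11 | .q54 => .q59 | .q55 => .q47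
  | .q56 => .q17 | .q57 => .q15 | .q58 => .q28 | .q59 => .q6 | .q60 => .q60 | .q61 => .q44 | .q62 => .q35

/-- table -/
def pT34 : Pt63 → Pt63
  | .q0 => .q22 | .q1 => .q34 | .q2 => .q15 | .q3 => .q52 | .q4 => .q4 | .q5 => .q32 | .q6 => .q59 | .q7 => .q47
  | .q8 => .q8 | .q9 => .q19 | .q10 => .q33 | .q11 => .q53 | .q12 => .q10 | .q13 => .q13 | .q14 => .q41 | .q15 => .q57
  | .q16 => .q28 | .q17 => .q56 | .q18 => .q3 | .q19 => .q38 | .q20 => .q20 | .q21 => .q25 | .q22 => .q24 | .q23 => .q21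
  | .q24 => .q0 | .q25 => .q23 | .q26 => .q1 | .q27 => .q43 | .q28 => .q58 | .q29 => .q29 | .q30 => .q17 | .q31 => .q50
  | .q32 => .q37 | .q33 => .q12 | .q34 => .q26 | .q35 => .q62 | .q36 => .q44 | .q37 => .q5 | .q38 => .q9 | .q39 => .q11
  | .q40 => .q40 | .q41 => .q48 | .q42 => .q42 | .q43 => .q51 | .q44 => .q61 | .q45 => .q35 | .q46 => .q31 | .q47 => .q55
  | .q48 => .q14 | .q49 => .q49 | .q50 => .q46 | .q51 => .q27 | .q52 => .q18 | .q53 => .q39 | .q54 => .q6 | .q55 => .q7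
  | .q56 => .q30 | .q57 => .q2 | .q58 => .q16 | .q59 => .q54 | .q60 => .q60 | .q61 => .q36 | .q62 => .q45

/-- table -/
def pT35 : Pt63 → Pt63
  | .q0 => .q23 | .q1 => .q27 | .q2 => .q19 | .q3 => .q60 | .q4 => .q41 | .q5 => .q5 | .q6 => .q50 | .q7 => .q7
  | .q8 => .q56 | .q9 => .q15 | .q10 => .q40 | .q11 => .q36 | .q12 => .q3 | .q13 => .q47 | .q14 => .q14 | .q15 => .q29
  | .q16 => .q62 | .q17 => .q17 | .q18 => .q10 | .q19 => .q49 | .q20 => .q32 | .q21 => .q24 | .q22 => .q21 | .q23 => .q25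
  | .q24 => .q22 | .q25 => .q0 | .q26 => .q53 | .q27 => .q35 | .q28 => .q43 | .q29 => .q9 | .q30 => .q4 | .q31 => .q16
  | .q32 => .q55 | .q33 => .q33 | .q34 => .q44 | .q35 => .q1 | .q36 => .q51 | .q37 => .q13 | .q38 => .q38 | .q39 => .q59
  | .q40 => .q18 | .q41 => .q30 | .q42 => .q42 | .q43 => .q54 | .q44 => .q58 | .q45 => .q39 | .q46 => .q26 | .q47 => .q37
  | .q48 => .q8 | .q49 => .q2 | .q50 => .q61 | .q51 => .q11 | .q52 => .q52 | .q53 => .q46 | .q54 => .q28 | .q55 => .q20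
  | .q56 => .q48 | .q57 => .q57 | .q58 => .q34 | .q59 => .q45 | .q60 => .q12 | .q61 => .q6 | .q62 => .q31

/-- table -/
def pT36 : Pt63 → Pt63
  | .q0 => .q25 | .q1 => .q35 | .q2 => .q49 | .q3 => .q12 | .q4 => .q30 | .q5 => .q5 | .q6 => .q61 | .q7 => .q7
  | .q8 => .q48 | .q9 => .q29 | .q10 => .q18 | .q11 => .q51 | .q12 => .q60 | .q13 => .q37 | .q14 => .q14 | .q15 => .q9
  | .q16 => .q31 | .q17 => .q17 | .q18 => .q40 | .q19 => .q2 | .q20 => .q55 | .q21 => .q22 | .q22 => .q24 | .q23 => .q0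
  | .q24 => .q21 | .q25 => .q23 | .q26 => .q46 | .q27 => .q1 | .q28 => .q54 | .q29 => .q15 | .q30 => .q41 | .q31 => .q62
  | .q32 => .q20 | .q33 => .q33 | .q34 => .q58 | .q35 => .q27 | .q36 => .q11 | .q37 => .q47 | .q38 => .q38 | .q39 => .q45
  | .q40 => .q10 | .q41 => .q4 | .q42 => .q42 | .q43 => .q28 | .q44 => .q34 | .q45 => .q59 | .q46 => .q53 | .q47 => .q13
  | .q48 => .q56 | .q49 => .q19 | .q50 => .q6 | .q51 => .q36 | .q52 => .q52 | .q53 => .q26 | .q54 => .q43 | .q55 => .q32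
  | .q56 => .q8 | .q57 => .q57 | .q58 => .q44 | .q59 => .q39 | .q60 => .q3 | .q61 => .q50 | .q62 => .q16

/-- table -/
def pT37 : Pt63 → Pt63
  | .q0 => .q22 | .q1 => .q28 | .q2 => .q38 | .q3 => .q3 | .q4 => .q56 | .q5 => .q20 | .q6 => .q53 | .q7 => .q13
  | .q8 => .q41 | .q9 => .q57 | .q10 => .q10 | .q11 => .q34 | .q12 => .q52 | .q13 => .q32 | .q14 => .q4 | .q15 => .q15
  | .q16 => .q59 | .q17 => .q8 | .q18 => .q33 | .q19 => .q19 | .q20 => .q47 | .q21 => .q25 | .q22 => .q23 | .q23 => .q0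
  | .q24 => .q21 | .q25 => .q24 | .q26 => .q45 | .q27 => .q16 | .q28 => .q36 | .q29 => .q2 | .q30 => .q30 | .q31 => .q54
  | .q32 => .q7 | .q33 => .q60 | .q34 => .q50 | .q35 => .q58 | .q36 => .q1 | .q37 => .q37 | .q38 => .q29 | .q39 => .q43
  | .q40 => .q12 | .q41 => .q17 | .q42 => .q42 | .q43 => .q61 | .q44 => .q31 | .q45 => .q51 | .q46 => .q35 | .q47 => .q5
  | .q48 => .q48 | .q49 => .q9 | .q50 => .q11 | .q51 => .q26 | .q52 => .q40 | .q53 => .q62 | .q54 => .q44 | .q55 => .q55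
  | .q56 => .q14 | .q57 => .q49 | .q58 => .q46 | .q59 => .q27 | .q60 => .q18 | .q61 => .q39 | .q62 => .q6

/-- table -/
def pT38 : Pt63 → Pt63
  | .q0 => .q23 | .q1 => .q36 | .q2 => .q29 | .q3 => .q3 | .q4 => .q14 | .q5 => .q47 | .q6 => .q62 | .q7 => .q32
  | .q8 => .q17 | .q9 => .q49 | .q10 => .q10 | .q11 => .q50 | .q12 => .q40 | .q13 => .q7 | .q14 => .q56 | .q15 => .q15
  | .q16 => .q27 | .q17 => .q41 | .q18 => .q60 | .q19 => .q19 | .q20 => .q5 | .q21 => .q24 | .q22 => .q0 | .q23 => .q22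
  | .q24 => .q25 | .q25 => .q21 | .q26 => .q51 | .q27 => .q59 | .q28 => .q1 | .q29 => .q38 | .q30 => .q30 | .q31 => .q44
  | .q32 => .q13 | .q33 => .q18 | .q34 => .q11 | .q35 => .q46 | .q36 => .q28 | .q37 => .q37 | .q38 => .q2 | .q39 => .q61
  | .q40 => .q52 | .q41 => .q8 | .q42 => .q42 | .q43 => .q39 | .q44 => .q54 | .q45 => .q26 | .q46 => .q58 | .q47 => .q20
  | .q48 => .q48 | .q49 => .q57 | .q50 => .q34 | .q51 => .q45 | .q52 => .q12 | .q53 => .q6 | .q54 => .q31 | .q55 => .q55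
  | .q56 => .q4 | .q57 => .q9 | .q58 => .q35 | .q59 => .q16 | .q60 => .q33 | .q61 => .q43 | .q62 => .q53

/-- table -/
def pT39 : Pt63 → Pt63
  | .q0 => .q25 | .q1 => .q31 | .q2 => .q2 | .q3 => .q40 | .q4 => .q17 | .q5 => .q55 | .q6 => .q51 | .q7 => .q37
  | .q8 => .q14 | .q9 => .q9 | .q10 => .q60 | .q11 => .q35 | .q12 => .q12 | .q13 => .q5 | .q14 => .q30 | .q15 => .q49
  | .q16 => .q61 | .q17 => .q48 | .q18 => .q18 | .q19 => .q29 | .q20 => .q7 | .q21 => .q22 | .q22 => .q23 | .q23 => .q21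
  | .q24 => .q0 | .q25 => .q24 | .q26 => .q16 | .q27 => .q44 | .q28 => .q50 | .q29 => .q57 | .q30 => .q8 | .q31 => .q39
  | .q32 => .q32 | .q33 => .q3 | .q34 => .q62 | .q35 => .q54 | .q36 => .q46 | .q37 => .q20 | .q38 => .q15 | .q39 => .q1
  | .q40 => .q33 | .q41 => .q41 | .q42 => .q42 | .q43 => .q34 | .q44 => .q53 | .q45 => .q28 | .q46 => .q59 | .q47 => .q47
  | .q48 => .q4 | .q49 => .q38 | .q50 => .q45 | .q51 => .q58 | .q52 => .q10 | .q53 => .q27 | .q54 => .q11 | .q55 => .q13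
  | .q56 => .q56 | .q57 => .q19 | .q58 => .q6 | .q59 => .q36 | .q60 => .q52 | .q61 => .q26 | .q62 => .q43

/-- table -/
def pT40 : Pt63 → Pt63
  | .q0 => .q24 | .q1 => .q39 | .q2 => .q2 | .q3 => .q33 | .q4 => .q48 | .q5 => .q13 | .q6 => .q58 | .q7 => .q20
  | .q8 => .q30 | .q9 => .q9 | .q10 => .q52 | .q11 => .q54 | .q12 => .q12 | .q13 => .q55 | .q14 => .q8 | .q15 => .q38
  | .q16 => .q26 | .q17 => .q4 | .q18 => .q18 | .q19 => .q57 | .q20 => .q37 | .q21 => .q23 | .q22 => .q21 | .q23 => .q22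
  | .q24 => .q25 | .q25 => .q0 | .q26 => .q61 | .q27 => .q53 | .q28 => .q45 | .q29 => .q19 | .q30 => .q14 | .q31 => .q1
  | .q32 => .q32 | .q33 => .q40 | .q34 => .q43 | .q35 => .q11 | .q36 => .q59 | .q37 => .q7 | .q38 => .q49 | .q39 => .q31
  | .q40 => .q3 | .q41 => .q41 | .q42 => .q42 | .q43 => .q62 | .q44 => .q27 | .q45 => .q50 | .q46 => .q36 | .q47 => .q47
  | .q48 => .q17 | .q49 => .q15 | .q50 => .q28 | .q51 => .q6 | .q52 => .q60 | .q53 => .q44 | .q54 => .q35 | .q55 => .q5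
  | .q56 => .q56 | .q57 => .q29 | .q58 => .q51 | .q59 => .q46 | .q60 => .q10 | .q61 => .q16 | .q62 => .q34

/-- table -/
def pT41 : Pt63 → Pt63
  | .q0 => .q0 | .q1 => .q42 | .q2 => .q44 | .q3 => .q45 | .q4 => .q46 | .q5 => .q43 | .q6 => .q21 | .q7 => .q23
  | .q8 => .q24 | .q9 => .q25 | .q10 => .q22 | .q11 => .q6 | .q12 => .q8 | .q13 => .q10 | .q14 => .q9 | .q15 => .q7
  | .q16 => .q1 | .q17 => .q4 | .q18 => .q3 | .q19 => .q2 | .q20 => .q5 | .q21 => .q11 | .q22 => .q13 | .q23 => .q15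
  | .q24 => .q12 | .q25 => .q14 | .q26 => .q26 | .q27 => .q27 | .q28 => .q28 | .q29 => .q29 | .q30 => .q30 | .q31 => .q31
  | .q32 => .q32 | .q33 => .q33 | .q34 => .q58 | .q35 => .q62 | .q36 => .q59 | .q37 => .q60 | .q38 => .q55 | .q39 => .q61
  | .q40 => .q56 | .q41 => .q57 | .q42 => .q16 | .q43 => .q20 | .q44 => .q19 | .q45 => .q18 | .q46 => .q17 | .q47 => .q39
  | .q48 => .q36 | .q49 => .q34 | .q50 => .q40 | .q51 => .q37 | .q52 => .q35 | .q53 => .q41 | .q54 => .q38 | .q55 => .q54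
  | .q56 => .q50 | .q57 => .q53 | .q58 => .q49 | .q59 => .q48 | .q60 => .q51 | .q61 => .q47 | .q62 => .q52

/-- table -/
def pT42 : Pt63 → Pt63
  | .q0 => .q0 | .q1 => .q16 | .q2 => .q19 | .q3 => .q18 | .q4 => .q17 | .q5 => .q20 | .q6 => .q11 | .q7 => .q15
  | .q8 => .q12 | .q9 => .q14 | .q10 => .q13 | .q11 => .q21 | .q12 => .q24 | .q13 => .q22 | .q14 => .q25 | .q15 => .q23
  | .q16 => .q42 | .q17 => .q46 | .q18 => .q45 | .q19 => .q44 | .q20 => .q43 | .q21 => .q6 | .q22 => .q10 | .q23 => .q7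
  | .q24 => .q8 | .q25 => .q9 | .q26 => .q26 | .q27 => .q27 | .q28 => .q28 | .q29 => .q29 | .q30 => .q30 | .q31 => .q31
  | .q32 => .q32 | .q33 => .q33 | .q34 => .q49 | .q35 => .q52 | .q36 => .q48 | .q37 => .q51 | .q38 => .q54 | .q39 => .q47
  | .q40 => .q50 | .q41 => .q53 | .q42 => .q1 | .q43 => .q5 | .q44 => .q2 | .q45 => .q3 | .q46 => .q4 | .q47 => .q61
  | .q48 => .q59 | .q49 => .q58 | .q50 => .q56 | .q51 => .q60 | .q52 => .q62 | .q53 => .q57 | .q54 => .q55 | .q55 => .q38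
  | .q56 => .q40 | .q57 => .q41 | .q58 => .q34 | .q59 => .q36 | .q60 => .q37 | .q61 => .q39 | .q62 => .q35

/-- table -/
def pT43 : Pt63 → Pt63
  | .q0 => .q0 | .q1 => .q11 | .q2 => .q15 | .q3 => .q12 | .q4 => .q14 | .q5 => .q13 | .q6 => .q16 | .q7 => .q18
  | .q8 => .q19 | .q9 => .q20 | .q10 => .q17 | .q11 => .q42 | .q12 => .q46 | .q13 => .q45 | .q14 => .q44 | .q15 => .q43
  | .q16 => .q21 | .q17 => .q23 | .q18 => .q25 | .q19 => .q22 | .q20 => .q24 | .q21 => .q6 | .q22 => .q8 | .q23 => .q10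
  | .q24 => .q9 | .q25 => .q7 | .q26 => .q60 | .q27 => .q57 | .q28 => .q55 | .q29 => .q61 | .q30 => .q58 | .q31 => .q56
  | .q32 => .q62 | .q33 => .q59 | .q34 => .q34 | .q35 => .q35 | .q36 => .q36 | .q37 => .q37 | .q38 => .q38 | .q39 => .q39
  | .q40 => .q40 | .q41 => .q41 | .q42 => .q1 | .q43 => .q2 | .q44 => .q4 | .q45 => .q5 | .q46 => .q3 | .q47 => .q33
  | .q48 => .q29 | .q49 => .q32 | .q50 => .q28 | .q51 => .q27 | .q52 => .q30 | .q53 => .q26 | .q54 => .q31 | .q55 => .q50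
  | .q56 => .q54 | .q57 => .q51 | .q58 => .q52 | .q59 => .q47 | .q60 => .q53 | .q61 => .q48 | .q62 => .q49

/-- table -/
def pT44 : Pt63 → Pt63
  | .q0 => .q0 | .q1 => .q42 | .q2 => .q43 | .q3 => .q46 | .q4 => .q44 | .q5 => .q45 | .q6 => .q21 | .q7 => .q25
  | .q8 => .q22 | .q9 => .q24 | .q10 => .q23 | .q11 => .q1 | .q12 => .q3 | .q13 => .q5 | .q14 => .q4 | .q15 => .q2
  | .q16 => .q6 | .q17 => .q10 | .q18 => .q7 | .q19 => .q8 | .q20 => .q9 | .q21 => .q16 | .q22 => .q19 | .q23 => .q17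
  | .q24 => .q20 | .q25 => .q18 | .q26 => .q53 | .q27 => .q51 | .q28 => .q50 | .q29 => .q48 | .q30 => .q52 | .q31 => .q54
  | .q32 => .q49 | .q33 => .q47 | .q34 => .q34 | .q35 => .q35 | .q36 => .q36 | .q37 => .q37 | .q38 => .q38 | .q39 => .q39
  | .q40 => .q40 | .q41 => .q41 | .q42 => .q11 | .q43 => .q15 | .q44 => .q14 | .q45 => .q13 | .q46 => .q12 | .q47 => .q59
  | .q48 => .q61 | .q49 => .q62 | .q50 => .q55 | .q51 => .q57 | .q52 => .q58 | .q53 => .q60 | .q54 => .q56 | .q55 => .q28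
  | .q56 => .q31 | .q57 => .q27 | .q58 => .q30 | .q59 => .q33 | .q60 => .q26 | .q61 => .q29 | .q62 => .q32

/-- table -/
def pT45 : Pt63 → Pt63
  | .q0 => .q45 | .q1 => .q55 | .q2 => .q13 | .q3 => .q28 | .q4 => .q50 | .q5 => .q5 | .q6 => .q41 | .q7 => .q26
  | .q8 => .q8 | .q9 => .q51 | .q10 => .q17 | .q11 => .q29 | .q12 => .q59 | .q13 => .q39 | .q14 => .q9 | .q15 => .q15
  | .q16 => .q52 | .q17 => .q62 | .q18 => .q18 | .q19 => .q35 | .q20 => .q3 | .q21 => .q21 | .q22 => .q56 | .q23 => .q49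
  | .q24 => .q33 | .q25 => .q37 | .q26 => .q34 | .q27 => .q12 | .q28 => .q20 | .q29 => .q57 | .q30 => .q6 | .q31 => .q31
  | .q32 => .q23 | .q33 => .q48 | .q34 => .q7 | .q35 => .q54 | .q36 => .q36 | .q37 => .q60 | .q38 => .q22 | .q39 => .q2
  | .q40 => .q16 | .q41 => .q30 | .q42 => .q44 | .q43 => .q0 | .q44 => .q46 | .q45 => .q43 | .q46 => .q42 | .q47 => .q1
  | .q48 => .q24 | .q49 => .q32 | .q50 => .q61 | .q51 => .q14 | .q52 => .q40 | .q53 => .q53 | .q54 => .q19 | .q55 => .q47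
  | .q56 => .q38 | .q57 => .q11 | .q58 => .q58 | .q59 => .q27 | .q60 => .q25 | .q61 => .q4 | .q62 => .q10

/-- table -/
def pT46 : Pt63 → Pt63
  | .q0 => .q43 | .q1 => .q47 | .q2 => .q39 | .q3 => .q20 | .q4 => .q61 | .q5 => .q5 | .q6 => .q30 | .q7 => .q34
  | .q8 => .q8 | .q9 => .q14 | .q10 => .q62 | .q11 => .q57 | .q12 => .q27 | .q13 => .q2 | .q14 => .q51 | .q15 => .q15
  | .q16 => .q40 | .q17 => .q10 | .q18 => .q18 | .q19 => .q54 | .q20 => .q28 | .q21 => .q21 | .q22 => .q38 | .q23 => .q32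
  | .q24 => .q48 | .q25 => .q60 | .q26 => .q7 | .q27 => .q59 | .q28 => .q3 | .q29 => .q11 | .q30 => .q41 | .q31 => .q31
  | .q32 => .q49 | .q33 => .q24 | .q34 => .q26 | .q35 => .q19 | .q36 => .q36 | .q37 => .q25 | .q38 => .q56 | .q39 => .q13
  | .q40 => .q52 | .q41 => .q6 | .q42 => .q46 | .q43 => .q45 | .q44 => .q42 | .q45 => .q0 | .q46 => .q44 | .q47 => .q55
  | .q48 => .q33 | .q49 => .q23 | .q50 => .q4 | .q51 => .q9 | .q52 => .q16 | .q53 => .q53 | .q54 => .q35 | .q55 => .q1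
  | .q56 => .q22 | .q57 => .q29 | .q58 => .q58 | .q59 => .q12 | .q60 => .q37 | .q61 => .q50 | .q62 => .q17

/-- table -/
def pT47 : Pt63 → Pt63
  | .q0 => .q44 | .q1 => .q56 | .q2 => .q31 | .q3 => .q14 | .q4 => .q4 | .q5 => .q54 | .q6 => .q37 | .q7 => .q7
  | .q8 => .q27 | .q9 => .q20 | .q10 => .q53 | .q11 => .q33 | .q12 => .q12 | .q13 => .q10 | .q14 => .q36 | .q15 => .q61
  | .q16 => .q49 | .q17 => .q2 | .q18 => .q34 | .q19 => .q19 | .q20 => .q58 | .q21 => .q21 | .q22 => .q41 | .q23 => .q29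
  | .q24 => .q52 | .q25 => .q55 | .q26 => .q15 | .q27 => .q35 | .q28 => .q28 | .q29 => .q47 | .q30 => .q24 | .q31 => .q17
  | .q32 => .q6 | .q33 => .q60 | .q34 => .q50 | .q35 => .q8 | .q36 => .q3 | .q37 => .q32 | .q38 => .q16 | .q39 => .q39
  | .q40 => .q25 | .q41 => .q57 | .q42 => .q45 | .q43 => .q42 | .q44 => .q46 | .q45 => .q43 | .q46 => .q0 | .q47 => .q23
  | .q48 => .q1 | .q49 => .q38 | .q50 => .q18 | .q51 => .q51 | .q52 => .q30 | .q53 => .q13 | .q54 => .q59 | .q55 => .q40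
  | .q56 => .q48 | .q57 => .q22 | .q58 => .q9 | .q59 => .q5 | .q60 => .q11 | .q61 => .q26 | .q62 => .q62

/-- table -/
def pT48 : Pt63 → Pt63
  | .q0 => .q46 | .q1 => .q48 | .q2 => .q17 | .q3 => .q36 | .q4 => .q4 | .q5 => .q59 | .q6 => .q32 | .q7 => .q7
  | .q8 => .q35 | .q9 => .q58 | .q10 => .q13 | .q11 => .q60 | .q12 => .q12 | .q13 => .q53 | .q14 => .q3 | .q15 => .q26
  | .q16 => .q38 | .q17 => .q31 | .q18 => .q50 | .q19 => .q19 | .q20 => .q9 | .q21 => .q21 | .q22 => .q57 | .q23 => .q47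
  | .q24 => .q30 | .q25 => .q40 | .q26 => .q61 | .q27 => .q8 | .q28 => .q28 | .q29 => .q23 | .q30 => .q52 | .q31 => .q2
  | .q32 => .q37 | .q33 => .q11 | .q34 => .q18 | .q35 => .q27 | .q36 => .q14 | .q37 => .q6 | .q38 => .q49 | .q39 => .q39
  | .q40 => .q55 | .q41 => .q22 | .q42 => .q43 | .q43 => .q45 | .q44 => .q0 | .q45 => .q42 | .q46 => .q44 | .q47 => .q29
  | .q48 => .q56 | .q49 => .q16 | .q50 => .q34 | .q51 => .q51 | .q52 => .q24 | .q53 => .q10 | .q54 => .q5 | .q55 => .q25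
  | .q56 => .q1 | .q57 => .q41 | .q58 => .q20 | .q59 => .q54 | .q60 => .q33 | .q61 => .q15 | .q62 => .q62

/-- table -/
def pT49 : Pt63 → Pt63
  | .q0 => .q43 | .q1 => .q57 | .q2 => .q2 | .q3 => .q51 | .q4 => .q15 | .q5 => .q27 | .q6 => .q40 | .q7 => .q18
  | .q8 => .q54 | .q9 => .q28 | .q10 => .q10 | .q11 => .q30 | .q12 => .q8 | .q13 => .q62 | .q14 => .q14 | .q15 => .q34
  | .q16 => .q47 | .q17 => .q39 | .q18 => .q61 | .q19 => .q5 | .q20 => .q20 | .q21 => .q21 | .q22 => .q32 | .q23 => .q60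
  | .q24 => .q38 | .q25 => .q48 | .q26 => .q26 | .q27 => .q19 | .q28 => .q36 | .q29 => .q25 | .q30 => .q56 | .q31 => .q13
  | .q32 => .q52 | .q33 => .q6 | .q34 => .q4 | .q35 => .q35 | .q36 => .q9 | .q37 => .q16 | .q38 => .q55 | .q39 => .q53
  | .q40 => .q33 | .q41 => .q23 | .q42 => .q46 | .q43 => .q44 | .q44 => .q0 | .q45 => .q42 | .q46 => .q45 | .q47 => .q37
  | .q48 => .q29 | .q49 => .q1 | .q50 => .q50 | .q51 => .q58 | .q52 => .q22 | .q53 => .q17 | .q54 => .q12 | .q55 => .q24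
  | .q56 => .q11 | .q57 => .q49 | .q58 => .q3 | .q59 => .q59 | .q60 => .q41 | .q61 => .q7 | .q62 => .q31

/-- table -/
def pT50 : Pt63 → Pt63
  | .q0 => .q44 | .q1 => .q49 | .q2 => .q2 | .q3 => .q58 | .q4 => .q34 | .q5 => .q19 | .q6 => .q33 | .q7 => .q61
  | .q8 => .q12 | .q9 => .q36 | .q10 => .q10 | .q11 => .q56 | .q12 => .q54 | .q13 => .q31 | .q14 => .q14 | .q15 => .q4
  | .q16 => .q37 | .q17 => .q53 | .q18 => .q7 | .q19 => .q27 | .q20 => .q20 | .q21 => .q21 | .q22 => .q52 | .q23 => .q41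
  | .q24 => .q55 | .q25 => .q29 | .q26 => .q26 | .q27 => .q5 | .q28 => .q9 | .q29 => .q48 | .q30 => .q11 | .q31 => .q62
  | .q32 => .q22 | .q33 => .q40 | .q34 => .q15 | .q35 => .q35 | .q36 => .q28 | .q37 => .q47 | .q38 => .q24 | .q39 => .q17
  | .q40 => .q6 | .q41 => .q60 | .q42 => .q45 | .q43 => .q0 | .q44 => .q43 | .q45 => .q46 | .q46 => .q42 | .q47 => .q16
  | .q48 => .q25 | .q49 => .q57 | .q50 => .q50 | .q51 => .q3 | .q52 => .q32 | .q53 => .q39 | .q54 => .q8 | .q55 => .q38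
  | .q56 => .q30 | .q57 => .q1 | .q58 => .q51 | .q59 => .q59 | .q60 => .q23 | .q61 => .q18 | .q62 => .q13

/-- table -/
def pT51 : Pt63 → Pt63
  | .q0 => .q46 | .q1 => .q60 | .q2 => .q53 | .q3 => .q3 | .q4 => .q26 | .q5 => .q12 | .q6 => .q38 | .q7 => .q50
  | .q8 => .q19 | .q9 => .q9 | .q10 => .q31 | .q11 => .q32 | .q12 => .q35 | .q13 => .q13 | .q14 => .q58 | .q15 => .q7
  | .q16 => .q48 | .q17 => .q17 | .q18 => .q4 | .q19 => .q59 | .q20 => .q36 | .q21 => .q21 | .q22 => .q47 | .q23 => .q40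
  | .q24 => .q57 | .q25 => .q30 | .q26 => .q18 | .q27 => .q27 | .q28 => .q14 | .q29 => .q6 | .q30 => .q49 | .q31 => .q39
  | .q32 => .q55 | .q33 => .q22 | .q34 => .q34 | .q35 => .q5 | .q36 => .q51 | .q37 => .q24 | .q38 => .q29 | .q39 => .q10
  | .q40 => .q56 | .q41 => .q16 | .q42 => .q43 | .q43 => .q44 | .q44 => .q42 | .q45 => .q0 | .q46 => .q45 | .q47 => .q33
  | .q48 => .q41 | .q49 => .q25 | .q50 => .q15 | .q51 => .q20 | .q52 => .q1 | .q53 => .q62 | .q54 => .q54 | .q55 => .q11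
  | .q56 => .q23 | .q57 => .q37 | .q58 => .q28 | .q59 => .q8 | .q60 => .q52 | .q61 => .q61 | .q62 => .q2

/-- table -/
def pT52 : Pt63 → Pt63
  | .q0 => .q45 | .q1 => .q52 | .q2 => .q62 | .q3 => .q3 | .q4 => .q18 | .q5 => .q35 | .q6 => .q29 | .q7 => .q15
  | .q8 => .q59 | .q9 => .q9 | .q10 => .q39 | .q11 => .q55 | .q12 => .q5 | .q13 => .q13 | .q14 => .q28 | .q15 => .q50
  | .q16 => .q41 | .q17 => .q17 | .q18 => .q26 | .q19 => .q8 | .q20 => .q51 | .q21 => .q21 | .q22 => .q33 | .q23 => .q56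
  | .q24 => .q37 | .q25 => .q49 | .q26 => .q4 | .q27 => .q27 | .q28 => .q58 | .q29 => .q38 | .q30 => .q25 | .q31 => .q10
  | .q32 => .q11 | .q33 => .q47 | .q34 => .q34 | .q35 => .q12 | .q36 => .q20 | .q37 => .q57 | .q38 => .q6 | .q39 => .q31
  | .q40 => .q23 | .q41 => .q48 | .q42 => .q44 | .q43 => .q42 | .q44 => .q43 | .q45 => .q46 | .q46 => .q0 | .q47 => .q22
  | .q48 => .q16 | .q49 => .q30 | .q50 => .q7 | .q51 => .q36 | .q52 => .q60 | .q53 => .q2 | .q54 => .q54 | .q55 => .q32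
  | .q56 => .q40 | .q57 => .q24 | .q58 => .q14 | .q59 => .q19 | .q60 => .q1 | .q61 => .q61 | .q62 => .q53

/-- table -/
def pT53 : Pt63 → Pt63
  | .q0 => .q0 | .q1 => .q16 | .q2 => .q17 | .q3 => .q20 | .q4 => .q18 | .q5 => .q19 | .q6 => .q11 | .q7 => .q13
  | .q8 => .q14 | .q9 => .q15 | .q10 => .q12 | .q11 => .q42 | .q12 => .q44 | .q13 => .q46 | .q14 => .q43 | .q15 => .q45
  | .q16 => .q21 | .q17 => .q25 | .q18 => .q24 | .q19 => .q23 | .q20 => .q22 | .q21 => .q1 | .q22 => .q3 | .q23 => .q5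
  | .q24 => .q4 | .q25 => .q2 | .q26 => .q37 | .q27 => .q41 | .q28 => .q38 | .q29 => .q39 | .q30 => .q34 | .q31 => .q40
  | .q32 => .q35 | .q33 => .q36 | .q34 => .q62 | .q35 => .q58 | .q36 => .q61 | .q37 => .q57 | .q38 => .q56 | .q39 => .q59
  | .q40 => .q55 | .q41 => .q60 | .q42 => .q6 | .q43 => .q8 | .q44 => .q10 | .q45 => .q9 | .q46 => .q7 | .q47 => .q47
  | .q48 => .q48 | .q49 => .q49 | .q50 => .q50 | .q51 => .q51 | .q52 => .q52 | .q53 => .q53 | .q54 => .q54 | .q55 => .q31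
  | .q56 => .q28 | .q57 => .q26 | .q58 => .q32 | .q59 => .q29 | .q60 => .q27 | .q61 => .q33 | .q62 => .q30

/-- table -/
def pT54 : Pt63 → Pt63
  | .q0 => .q0 | .q1 => .q21 | .q2 => .q25 | .q3 => .q22 | .q4 => .q24 | .q5 => .q23 | .q6 => .q42 | .q7 => .q46
  | .q8 => .q43 | .q9 => .q45 | .q10 => .q44 | .q11 => .q6 | .q12 => .q10 | .q13 => .q7 | .q14 => .q8 | .q15 => .q9
  | .q16 => .q1 | .q17 => .q2 | .q18 => .q4 | .q19 => .q5 | .q20 => .q3 | .q21 => .q16 | .q22 => .q20 | .q23 => .q19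
  | .q24 => .q18 | .q25 => .q17 | .q26 => .q57 | .q27 => .q60 | .q28 => .q56 | .q29 => .q59 | .q30 => .q62 | .q31 => .q55
  | .q32 => .q58 | .q33 => .q61 | .q34 => .q30 | .q35 => .q32 | .q36 => .q33 | .q37 => .q26 | .q38 => .q28 | .q39 => .q29
  | .q40 => .q31 | .q41 => .q27 | .q42 => .q11 | .q43 => .q14 | .q44 => .q12 | .q45 => .q15 | .q46 => .q13 | .q47 => .q47
  | .q48 => .q48 | .q49 => .q49 | .q50 => .q50 | .q51 => .q51 | .q52 => .q52 | .q53 => .q53 | .q54 => .q54 | .q55 => .q40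
  | .q56 => .q38 | .q57 => .q37 | .q58 => .q35 | .q59 => .q39 | .q60 => .q41 | .q61 => .q36 | .q62 => .q34

/-- table -/
def pT55 : Pt63 → Pt63
  | .q0 => .q0 | .q1 => .q21 | .q2 => .q24 | .q3 => .q23 | .q4 => .q22 | .q5 => .q25 | .q6 => .q42 | .q7 => .q44
  | .q8 => .q45 | .q9 => .q46 | .q10 => .q43 | .q11 => .q1 | .q12 => .q5 | .q13 => .q2 | .q14 => .q3 | .q15 => .q4
  | .q16 => .q6 | .q17 => .q8 | .q18 => .q10 | .q19 => .q9 | .q20 => .q7 | .q21 => .q11 | .q22 => .q15 | .q23 => .q14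
  | .q24 => .q13 | .q25 => .q12 | .q26 => .q41 | .q27 => .q37 | .q28 => .q40 | .q29 => .q36 | .q30 => .q35 | .q31 => .q38
  | .q32 => .q34 | .q33 => .q39 | .q34 => .q52 | .q35 => .q49 | .q36 => .q47 | .q37 => .q53 | .q38 => .q50 | .q39 => .q48
  | .q40 => .q54 | .q41 => .q51 | .q42 => .q16 | .q43 => .q18 | .q44 => .q20 | .q45 => .q17 | .q46 => .q19 | .q47 => .q29
  | .q48 => .q33 | .q49 => .q30 | .q50 => .q31 | .q51 => .q26 | .q52 => .q32 | .q53 => .q27 | .q54 => .q28 | .q55 => .q55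
  | .q56 => .q56 | .q57 => .q57 | .q58 => .q58 | .q59 => .q59 | .q60 => .q60 | .q61 => .q61 | .q62 => .q62

/-- table -/
def pT56 : Pt63 → Pt63
  | .q0 => .q0 | .q1 => .q11 | .q2 => .q13 | .q3 => .q14 | .q4 => .q15 | .q5 => .q12 | .q6 => .q16 | .q7 => .q20
  | .q8 => .q17 | .q9 => .q19 | .q10 => .q18 | .q11 => .q21 | .q12 => .q25 | .q13 => .q24 | .q14 => .q23 | .q15 => .q22
  | .q16 => .q42 | .q17 => .q45 | .q18 => .q43 | .q19 => .q46 | .q20 => .q44 | .q21 => .q1 | .q22 => .q4 | .q23 => .q3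
  | .q24 => .q2 | .q25 => .q5 | .q26 => .q51 | .q27 => .q53 | .q28 => .q54 | .q29 => .q47 | .q30 => .q49 | .q31 => .q50
  | .q32 => .q52 | .q33 => .q48 | .q34 => .q32 | .q35 => .q30 | .q36 => .q29 | .q37 => .q27 | .q38 => .q31 | .q39 => .q33
  | .q40 => .q28 | .q41 => .q26 | .q42 => .q6 | .q43 => .q10 | .q44 => .q7 | .q45 => .q8 | .q46 => .q9 | .q47 => .q36
  | .q48 => .q39 | .q49 => .q35 | .q50 => .q38 | .q51 => .q41 | .q52 => .q34 | .q53 => .q37 | .q54 => .q40 | .q55 => .q55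
  | .q56 => .q56 | .q57 => .q57 | .q58 => .q58 | .q59 => .q59 | .q60 => .q60 | .q61 => .q61 | .q62 => .q62

/-- the permutation induced by a transvection -/
def permT : Ix57 → Pt63 → Pt63
  | .k0 => fun x => x
  | .k1 => pT1
  | .k2 => pT2
  | .k3 => pT3
  | .k4 => pT4
  | .k5 => pT5
  | .k6 => pT6
  | .k7 => pT7
  | .k8 => pT8
  | .k9 => pT9
  | .k10 => pT10
  | .k11 => pT11
  | .k12 => pT12
  | .k13 => pT13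
  | .k14 => pT14
  | .k15 => pT15
  | .k16 => pT16
  | .k17 => pT17
  | .k18 => pT18
  | .k19 => pT19
  | .k20 => pT20
  | .k21 => pT21
  | .k22 => pT22
  | .k23 => pT23
  | .k24 => pT24
  | .k25 => pT25
  | .k26 => pT26
  | .k27 => pT27
  | .k28 => pT28
  | .k29 => pT29
  | .k30 => pT30
  | .k31 => pT31
  | .k32 => pT32
  | .k33 => pT33
  | .k34 => pT34
  | .k35 => pT35
  | .k36 => pT36
  | .k37 => pT37
  | .k38 => pT38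
  | .k39 => pT39
  | .k40 => pT40
  | .k41 => pT41
  | .k42 => pT42
  | .k43 => pT43
  | .k44 => pT44
  | .k45 => pT45
  | .k46 => pT46
  | .k47 => pT47
  | .k48 => pT48
  | .k49 => pT49
  | .k50 => pT50
  | .k51 => pT51
  | .k52 => pT52
  | .k53 => pT53
  | .k54 => pT54
  | .k55 => pT55
  | .k56 => pT56

/-- the Hermitian form in coordinates -/
def hfR9 (a b c a' b' c' : F9) : F9 :=
  F9.add (F9.add (F9.mul a (F9.frob a')) (F9.mul b (F9.frob b'))) (F9.mul c (F9.frob c'))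

/-- the unitary transvection in coordinates -/
def tvR9 (a b c s : F9) (x : Q3 F9) : Q3 F9 :=
  ⟨F9.add x.x0 (F9.mul (F9.mul s (hfR9 x.x0 x.x1 x.x2 a b c)) a),
   F9.add x.x1 (F9.mul (F9.mul s (hfR9 x.x0 x.x1 x.x2 a b c)) b),
   F9.add x.x2 (F9.mul (F9.mul s (hfR9 x.x0 x.x1 x.x2 a b c)) c)⟩

/-- the index of a vector -/
def idxQ9 (x : Q3 F9) : Pt63 := idxT9 x.x0 x.x1 x.x2

theorem goodP9 : ∀ x : Pt63, hfR9 (PT9 x).x0 (PT9 x).x1 (PT9 x).x2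
    (PT9 x).x0 (PT9 x).x1 (PT9 x).x2 = F9.f1 := by decide +kernel

theorem spec9 : ∀ a b c : F9, hfR9 a b c a b c = F9.f1 →
    (a = F9.mul (scT9 a b c) (PT9 (idxT9 a b c)).x0 ∧
     b = F9.mul (scT9 a b c) (PT9 (idxT9 a b c)).x1 ∧
     c = F9.mul (scT9 a b c) (PT9 (idxT9 a b c)).x2) := by decide +kernel

theorem uniq9 : ∀ (x : Pt63) (s : F9), s ≠ F9.f0 →
    idxT9 (F9.mul s (PT9 x).x0) (F9.mul s (PT9 x).x1) (F9.mul s (PT9 x).x2) = x := by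
  decide +kernel

theorem tabU : ∀ a b c : F9, hfR9 a b c a b c = F9.f0 → ∀ x : Pt63,
    idxQ9 (tvR9 a b c F9.f3 (PT9 x)) = permT (isoIdxI a b c) x ∧
    idxQ9 (tvR9 a b c F9.f6 (PT9 x)) = permT (isoIdxM a b c) x := by decide +kernel

theorem vcT : ∀ j : Ix57, hfR9 (vT j).x0 (vT j).x1 (vT j).x2 (vT j).x0 (vT j).x1 (vT j).x2 = F9.f0 ∧
    ((cT j = F9.f3 ∧ isoIdxI (vT j).x0 (vT j).x1 (vT j).x2 = j) ∨
     (cT j = F9.f6 ∧ isoIdxM (vT j).x0 (vT j).x1 (vT j).x2 = j)) := by decide +kernel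

end Cfsg.Agent.Lib.Helper99.G22
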