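import Mathlib
import Cfsg.Prelude.Def_ChevG2
import Cfsg.Agent.Lib.Helper99.G22DataU

/-!
# Tables for `G₂(2)′ ≅ PSU₃(3)`: the Chevalley side

The 63 vectors of `F2¹⁴` in the orbit of a long root vector (numbered to match the unitary
points), the permutations induced by the twelve generators `x_r(1)`, and certificates: every
transvection permutation is a word in the generators, every generator is a word in the
transvections up to the fixed generator `x_2(1)`, and `x_2(1)` permutes the transvections.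
All facts are checked by kernel evaluation.
-/

set_option autoImplicit false
set_option maxRecDepth 100000

namespace Cfsg.Agent.Lib.Helper99.G22

open Cfsg.Lie


/-- the twelve roots -/
inductive Rt : Type
  | r0 | r1 | r2 | r3 | r4 | r5 | r6 | r7 | r8 | r9 | r10 | r11
  deriving DecidableEq

instance : Fintype Rt where
  elems := ⟨↑[Rt.r0, Rt.r1, Rt.r2, Rt.r3, Rt.r4, Rt.r5, Rt.r6, Rt.r7,
    Rt.r8, Rt.r9, Rt.r10, Rt.r11], by decide⟩
  complete := fun x => by cases x <;> decide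


/-- the root index -/
def rt : Rt → Fin chevG2.nroots
  | .r0 => ⟨0, by decide⟩
  | .r1 => ⟨1, by decide⟩
  | .r2 => ⟨2, by decide⟩
  | .r3 => ⟨3, by decide⟩
  | .r4 => ⟨4, by decide⟩
  | .r5 => ⟨5, by decide⟩
  | .r6 => ⟨6, by decide⟩
  | .r7 => ⟨7, by decide⟩
  | .r8 => ⟨8, by decide⟩
  | .r9 => ⟨9, by decide⟩
  | .r10 => ⟨10, by decide⟩
  | .r11 => ⟨11, by decide⟩

/-- the vectors, as bit masks -/
def PGn : Pt63 → ℕ
  | .q0 => 8192 | .q1 => 4096 | .q2 => 12674 | .q3 => 386 | .q4 => 8066 | .q5 => 12162 | .q6 => 12288 | .q7 => 128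
  | .q8 => 4224 | .q9 => 10880 | .q10 => 14976 | .q11 => 256 | .q12 => 12555 | .q13 => 15435 | .q14 => 7499 | .q15 => 4107
  | .q16 => 8448 | .q17 => 264 | .q18 => 9288 | .q19 => 9544 | .q20 => 8 | .q21 => 7424 | .q22 => 506 | .q23 => 4795
  | .q24 => 12219 | .q25 => 15610 | .q26 => 12421 | .q27 => 132 | .q28 => 502 | .q29 => 13932 | .q30 => 348 | .q31 => 7671
  | .q32 => 9309 | .q33 => 8045 | .q34 => 14885 | .q35 => 4644 | .q36 => 9557 | .q37 => 188 | .q38 => 398 | .q39 => 340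
  | .q40 => 4239 | .q41 => 15805 | .q42 => 15616 | .q43 => 11257 | .q44 => 184 | .q45 => 7608 | .q46 => 14073 | .q47 => 10917
  | .q48 => 4772 | .q49 => 8149 | .q50 => 4671 | .q51 => 8461 | .q52 => 11220 | .q53 => 12 | .q54 => 7998 | .q55 => 8197
  | .q56 => 4 | .q57 => 15222 | .q58 => 12015 | .q59 => 15327 | .q60 => 14199 | .q61 => 11998 | .q62 => 14318

/-- table -/
def pG0 : Pt63 → Pt63
  | .q0 => .q55 | .q1 => .q8 | .q2 => .q12 | .q3 => .q38 | .q4 => .q54 | .q5 => .q24 | .q6 => .q26 | .q7 => .q7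
  | .q8 => .q1 | .q9 => .q47 | .q10 => .q34 | .q11 => .q17 | .q12 => .q2 | .q13 => .q25 | .q14 => .q31 | .q15 => .q40
  | .q16 => .q51 | .q17 => .q11 | .q18 => .q32 | .q19 => .q36 | .q20 => .q20 | .q21 => .q45 | .q22 => .q28 | .q23 => .q50
  | .q24 => .q5 | .q25 => .q13 | .q26 => .q6 | .q27 => .q27 | .q28 => .q22 | .q29 => .q46 | .q30 => .q39 | .q31 => .q14
  | .q32 => .q18 | .q33 => .q49 | .q34 => .q10 | .q35 => .q48 | .q36 => .q19 | .q37 => .q37 | .q38 => .q3 | .q39 => .q30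
  | .q40 => .q15 | .q41 => .q42 | .q42 => .q41 | .q43 => .q52 | .q44 => .q44 | .q45 => .q21 | .q46 => .q29 | .q47 => .q9
  | .q48 => .q35 | .q49 => .q33 | .q50 => .q23 | .q51 => .q16 | .q52 => .q43 | .q53 => .q53 | .q54 => .q4 | .q55 => .q0
  | .q56 => .q56 | .q57 => .q59 | .q58 => .q61 | .q59 => .q57 | .q60 => .q62 | .q61 => .q58 | .q62 => .q60

/-- table -/
def pG1 : Pt63 → Pt63
  | .q0 => .q16 | .q1 => .q15 | .q2 => .q26 | .q3 => .q38 | .q4 => .q49 | .q5 => .q61 | .q6 => .q12 | .q7 => .q27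
  | .q8 => .q40 | .q9 => .q52 | .q10 => .q59 | .q11 => .q11 | .q12 => .q6 | .q13 => .q42 | .q14 => .q21 | .q15 => .q1
  | .q16 => .q0 | .q17 => .q17 | .q18 => .q19 | .q19 => .q18 | .q20 => .q20 | .q21 => .q14 | .q22 => .q28 | .q23 => .q48
  | .q24 => .q58 | .q25 => .q41 | .q26 => .q2 | .q27 => .q7 | .q28 => .q22 | .q29 => .q60 | .q30 => .q30 | .q31 => .q45
  | .q32 => .q36 | .q33 => .q54 | .q34 => .q57 | .q35 => .q50 | .q36 => .q32 | .q37 => .q44 | .q38 => .q3 | .q39 => .q39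
  | .q40 => .q8 | .q41 => .q25 | .q42 => .q13 | .q43 => .q47 | .q44 => .q37 | .q45 => .q31 | .q46 => .q62 | .q47 => .q43
  | .q48 => .q23 | .q49 => .q4 | .q50 => .q35 | .q51 => .q55 | .q52 => .q9 | .q53 => .q53 | .q54 => .q33 | .q55 => .q51
  | .q56 => .q56 | .q57 => .q34 | .q58 => .q24 | .q59 => .q10 | .q60 => .q29 | .q61 => .q5 | .q62 => .q46

/-- table -/
def pG2 : Pt63 → Pt63
  | .q0 => .q18 | .q1 => .q35 | .q2 => .q62 | .q3 => .q3 | .q4 => .q45 | .q5 => .q52 | .q6 => .q29 | .q7 => .q7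
  | .q8 => .q48 | .q9 => .q61 | .q10 => .q25 | .q11 => .q11 | .q12 => .q60 | .q13 => .q34 | .q14 => .q33 | .q15 => .q50
  | .q16 => .q19 | .q17 => .q17 | .q18 => .q0 | .q19 => .q16 | .q20 => .q20 | .q21 => .q54 | .q22 => .q28 | .q23 => .q40
  | .q24 => .q43 | .q25 => .q10 | .q26 => .q46 | .q27 => .q27 | .q28 => .q22 | .q29 => .q6 | .q30 => .q39 | .q31 => .q49
  | .q32 => .q55 | .q33 => .q14 | .q34 => .q13 | .q35 => .q1 | .q36 => .q51 | .q37 => .q44 | .q38 => .q38 | .q39 => .q30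
  | .q40 => .q23 | .q41 => .q59 | .q42 => .q57 | .q43 => .q24 | .q44 => .q37 | .q45 => .q4 | .q46 => .q26 | .q47 => .q58
  | .q48 => .q8 | .q49 => .q31 | .q50 => .q15 | .q51 => .q36 | .q52 => .q5 | .q53 => .q53 | .q54 => .q21 | .q55 => .q32
  | .q56 => .q56 | .q57 => .q42 | .q58 => .q47 | .q59 => .q41 | .q60 => .q12 | .q61 => .q9 | .q62 => .q2

/-- table -/
def pG3 : Pt63 → Pt63
  | .q0 => .q9 | .q1 => .q1 | .q2 => .q57 | .q3 => .q28 | .q4 => .q49 | .q5 => .q36 | .q6 => .q10 | .q7 => .q7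
  | .q8 => .q8 | .q9 => .q0 | .q10 => .q6 | .q11 => .q39 | .q12 => .q59 | .q13 => .q29 | .q14 => .q45 | .q15 => .q15
  | .q16 => .q52 | .q17 => .q30 | .q18 => .q58 | .q19 => .q24 | .q20 => .q20 | .q21 => .q31 | .q22 => .q38 | .q23 => .q50
  | .q24 => .q19 | .q25 => .q46 | .q26 => .q34 | .q27 => .q27 | .q28 => .q3 | .q29 => .q13 | .q30 => .q17 | .q31 => .q21
  | .q32 => .q61 | .q33 => .q54 | .q34 => .q26 | .q35 => .q48 | .q36 => .q5 | .q37 => .q44 | .q38 => .q22 | .q39 => .q11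
  | .q40 => .q40 | .q41 => .q62 | .q42 => .q60 | .q43 => .q51 | .q44 => .q37 | .q45 => .q14 | .q46 => .q25 | .q47 => .q55
  | .q48 => .q35 | .q49 => .q4 | .q50 => .q23 | .q51 => .q43 | .q52 => .q16 | .q53 => .q53 | .q54 => .q33 | .q55 => .q47
  | .q56 => .q56 | .q57 => .q2 | .q58 => .q18 | .q59 => .q12 | .q60 => .q42 | .q61 => .q32 | .q62 => .q41

/-- table -/
def pG4 : Pt63 → Pt63
  | .q0 => .q0 | .q1 => .q21 | .q2 => .q25 | .q3 => .q22 | .q4 => .q23 | .q5 => .q24 | .q6 => .q42 | .q7 => .q44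
  | .q8 => .q45 | .q9 => .q43 | .q10 => .q46 | .q11 => .q11 | .q12 => .q13 | .q13 => .q12 | .q14 => .q15 | .q15 => .q14
  | .q16 => .q16 | .q17 => .q17 | .q18 => .q19 | .q19 => .q18 | .q20 => .q20 | .q21 => .q1 | .q22 => .q3 | .q23 => .q4
  | .q24 => .q5 | .q25 => .q2 | .q26 => .q41 | .q27 => .q37 | .q28 => .q38 | .q29 => .q34 | .q30 => .q39 | .q31 => .q40
  | .q32 => .q36 | .q33 => .q35 | .q34 => .q29 | .q35 => .q33 | .q36 => .q32 | .q37 => .q27 | .q38 => .q28 | .q39 => .q30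
  | .q40 => .q31 | .q41 => .q26 | .q42 => .q6 | .q43 => .q9 | .q44 => .q7 | .q45 => .q8 | .q46 => .q10 | .q47 => .q52
  | .q48 => .q49 | .q49 => .q48 | .q50 => .q54 | .q51 => .q51 | .q52 => .q47 | .q53 => .q53 | .q54 => .q50 | .q55 => .q55
  | .q56 => .q56 | .q57 => .q60 | .q58 => .q61 | .q59 => .q62 | .q60 => .q57 | .q61 => .q58 | .q62 => .q59

/-- table -/
def pG5 : Pt63 → Pt63
  | .q0 => .q6 | .q1 => .q1 | .q2 => .q16 | .q3 => .q11 | .q4 => .q21 | .q5 => .q42 | .q6 => .q0 | .q7 => .q7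
  | .q8 => .q8 | .q9 => .q10 | .q10 => .q9 | .q11 => .q3 | .q12 => .q51 | .q13 => .q58 | .q14 => .q33 | .q15 => .q40
  | .q16 => .q2 | .q17 => .q38 | .q18 => .q29 | .q19 => .q62 | .q20 => .q53 | .q21 => .q4 | .q22 => .q30 | .q23 => .q50
  | .q24 => .q41 | .q25 => .q61 | .q26 => .q55 | .q27 => .q27 | .q28 => .q39 | .q29 => .q18 | .q30 => .q22 | .q31 => .q49
  | .q32 => .q46 | .q33 => .q14 | .q34 => .q47 | .q35 => .q35 | .q36 => .q60 | .q37 => .q44 | .q38 => .q17 | .q39 => .q28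
  | .q40 => .q15 | .q41 => .q24 | .q42 => .q5 | .q43 => .q59 | .q44 => .q37 | .q45 => .q54 | .q46 => .q32 | .q47 => .q34
  | .q48 => .q48 | .q49 => .q31 | .q50 => .q23 | .q51 => .q12 | .q52 => .q57 | .q53 => .q20 | .q54 => .q45 | .q55 => .q26
  | .q56 => .q56 | .q57 => .q52 | .q58 => .q13 | .q59 => .q43 | .q60 => .q36 | .q61 => .q25 | .q62 => .q19

/-- table -/
def pG6 : Pt63 → Pt63
  | .q0 => .q0 | .q1 => .q6 | .q2 => .q8 | .q3 => .q7 | .q4 => .q10 | .q5 => .q9 | .q6 => .q1 | .q7 => .q3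
  | .q8 => .q2 | .q9 => .q5 | .q10 => .q4 | .q11 => .q11 | .q12 => .q15 | .q13 => .q14 | .q14 => .q13 | .q15 => .q12
  | .q16 => .q16 | .q17 => .q17 | .q18 => .q18 | .q19 => .q19 | .q20 => .q20 | .q21 => .q42 | .q22 => .q44 | .q23 => .q46
  | .q24 => .q43 | .q25 => .q45 | .q26 => .q40 | .q27 => .q38 | .q28 => .q37 | .q29 => .q35 | .q30 => .q39 | .q31 => .q41
  | .q32 => .q36 | .q33 => .q34 | .q34 => .q33 | .q35 => .q29 | .q36 => .q32 | .q37 => .q28 | .q38 => .q27 | .q39 => .q30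
  | .q40 => .q26 | .q41 => .q31 | .q42 => .q21 | .q43 => .q24 | .q44 => .q22 | .q45 => .q25 | .q46 => .q23 | .q47 => .q58
  | .q48 => .q62 | .q49 => .q59 | .q50 => .q60 | .q51 => .q55 | .q52 => .q61 | .q53 => .q56 | .q54 => .q57 | .q55 => .q51
  | .q56 => .q53 | .q57 => .q54 | .q58 => .q47 | .q59 => .q49 | .q60 => .q50 | .q61 => .q52 | .q62 => .q48

/-- table -/
def pG7 : Pt63 → Pt63
  | .q0 => .q0 | .q1 => .q1 | .q2 => .q5 | .q3 => .q4 | .q4 => .q3 | .q5 => .q2 | .q6 => .q6 | .q7 => .q7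
  | .q8 => .q8 | .q9 => .q10 | .q10 => .q9 | .q11 => .q21 | .q12 => .q24 | .q13 => .q25 | .q14 => .q22 | .q15 => .q23
  | .q16 => .q42 | .q17 => .q45 | .q18 => .q46 | .q19 => .q43 | .q20 => .q44 | .q21 => .q11 | .q22 => .q14 | .q23 => .q15
  | .q24 => .q12 | .q25 => .q13 | .q26 => .q26 | .q27 => .q27 | .q28 => .q31 | .q29 => .q32 | .q30 => .q33 | .q31 => .q28
  | .q32 => .q29 | .q33 => .q30 | .q34 => .q47 | .q35 => .q48 | .q36 => .q52 | .q37 => .q53 | .q38 => .q54 | .q39 => .q49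
  | .q40 => .q50 | .q41 => .q51 | .q42 => .q16 | .q43 => .q19 | .q44 => .q20 | .q45 => .q17 | .q46 => .q18 | .q47 => .q34
  | .q48 => .q35 | .q49 => .q39 | .q50 => .q40 | .q51 => .q41 | .q52 => .q36 | .q53 => .q37 | .q54 => .q38 | .q55 => .q55
  | .q56 => .q56 | .q57 => .q60 | .q58 => .q61 | .q59 => .q62 | .q60 => .q57 | .q61 => .q58 | .q62 => .q59

/-- table -/
def pG8 : Pt63 → Pt63
  | .q0 => .q0 | .q1 => .q1 | .q2 => .q4 | .q3 => .q5 | .q4 => .q2 | .q5 => .q3 | .q6 => .q6 | .q7 => .q9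
  | .q8 => .q10 | .q9 => .q7 | .q10 => .q8 | .q11 => .q11 | .q12 => .q12 | .q13 => .q14 | .q14 => .q13 | .q15 => .q15
  | .q16 => .q16 | .q17 => .q17 | .q18 => .q19 | .q19 => .q18 | .q20 => .q20 | .q21 => .q42 | .q22 => .q43 | .q23 => .q45
  | .q24 => .q44 | .q25 => .q46 | .q26 => .q49 | .q27 => .q52 | .q28 => .q47 | .q29 => .q50 | .q30 => .q53 | .q31 => .q48
  | .q32 => .q51 | .q33 => .q54 | .q34 => .q57 | .q35 => .q60 | .q36 => .q55 | .q37 => .q58 | .q38 => .q61 | .q39 => .q56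
  | .q40 => .q59 | .q41 => .q62 | .q42 => .q21 | .q43 => .q22 | .q44 => .q24 | .q45 => .q23 | .q46 => .q25 | .q47 => .q28
  | .q48 => .q31 | .q49 => .q26 | .q50 => .q29 | .q51 => .q32 | .q52 => .q27 | .q53 => .q30 | .q54 => .q33 | .q55 => .q36
  | .q56 => .q39 | .q57 => .q34 | .q58 => .q37 | .q59 => .q40 | .q60 => .q35 | .q61 => .q38 | .q62 => .q41

/-- table -/
def pG9 : Pt63 → Pt63
  | .q0 => .q0 | .q1 => .q1 | .q2 => .q2 | .q3 => .q3 | .q4 => .q5 | .q5 => .q4 | .q6 => .q6 | .q7 => .q7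
  | .q8 => .q8 | .q9 => .q10 | .q10 => .q9 | .q11 => .q11 | .q12 => .q14 | .q13 => .q15 | .q14 => .q12 | .q15 => .q13
  | .q16 => .q16 | .q17 => .q19 | .q18 => .q20 | .q19 => .q17 | .q20 => .q18 | .q21 => .q42 | .q22 => .q45 | .q23 => .q46
  | .q24 => .q43 | .q25 => .q44 | .q26 => .q47 | .q27 => .q48 | .q28 => .q52 | .q29 => .q53 | .q30 => .q54 | .q31 => .q49
  | .q32 => .q50 | .q33 => .q51 | .q34 => .q55 | .q35 => .q56 | .q36 => .q60 | .q37 => .q61 | .q38 => .q62 | .q39 => .q57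
  | .q40 => .q58 | .q41 => .q59 | .q42 => .q21 | .q43 => .q24 | .q44 => .q25 | .q45 => .q22 | .q46 => .q23 | .q47 => .q26
  | .q48 => .q27 | .q49 => .q31 | .q50 => .q32 | .q51 => .q33 | .q52 => .q28 | .q53 => .q29 | .q54 => .q30 | .q55 => .q34
  | .q56 => .q35 | .q57 => .q39 | .q58 => .q40 | .q59 => .q41 | .q60 => .q36 | .q61 => .q37 | .q62 => .q38

/-- table -/
def pG10 : Pt63 → Pt63
  | .q0 => .q0 | .q1 => .q1 | .q2 => .q3 | .q3 => .q2 | .q4 => .q5 | .q5 => .q4 | .q6 => .q6 | .q7 => .q7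
  | .q8 => .q8 | .q9 => .q9 | .q10 => .q10 | .q11 => .q16 | .q12 => .q17 | .q13 => .q18 | .q14 => .q19 | .q15 => .q20
  | .q16 => .q11 | .q17 => .q12 | .q18 => .q13 | .q19 => .q14 | .q20 => .q15 | .q21 => .q42 | .q22 => .q43 | .q23 => .q44
  | .q24 => .q45 | .q25 => .q46 | .q26 => .q55 | .q27 => .q56 | .q28 => .q57 | .q29 => .q58 | .q30 => .q59 | .q31 => .q60
  | .q32 => .q61 | .q33 => .q62 | .q34 => .q47 | .q35 => .q48 | .q36 => .q49 | .q37 => .q50 | .q38 => .q51 | .q39 => .q52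
  | .q40 => .q53 | .q41 => .q54 | .q42 => .q21 | .q43 => .q22 | .q44 => .q23 | .q45 => .q24 | .q46 => .q25 | .q47 => .q34
  | .q48 => .q35 | .q49 => .q36 | .q50 => .q37 | .q51 => .q38 | .q52 => .q39 | .q53 => .q40 | .q54 => .q41 | .q55 => .q26
  | .q56 => .q27 | .q57 => .q28 | .q58 => .q29 | .q59 => .q30 | .q60 => .q31 | .q61 => .q32 | .q62 => .q33

/-- table -/
def pG11 : Pt63 → Pt63
  | .q0 => .q0 | .q1 => .q1 | .q2 => .q3 | .q3 => .q2 | .q4 => .q5 | .q5 => .q4 | .q6 => .q6 | .q7 => .q8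
  | .q8 => .q7 | .q9 => .q10 | .q10 => .q9 | .q11 => .q11 | .q12 => .q15 | .q13 => .q14 | .q14 => .q13 | .q15 => .q12
  | .q16 => .q16 | .q17 => .q20 | .q18 => .q19 | .q19 => .q18 | .q20 => .q17 | .q21 => .q21 | .q22 => .q25 | .q23 => .q24
  | .q24 => .q23 | .q25 => .q22 | .q26 => .q27 | .q27 => .q26 | .q28 => .q31 | .q29 => .q33 | .q30 => .q32 | .q31 => .q28
  | .q32 => .q30 | .q33 => .q29 | .q34 => .q35 | .q35 => .q34 | .q36 => .q39 | .q37 => .q41 | .q38 => .q40 | .q39 => .q36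
  | .q40 => .q38 | .q41 => .q37 | .q42 => .q42 | .q43 => .q46 | .q44 => .q45 | .q45 => .q44 | .q46 => .q43 | .q47 => .q48
  | .q48 => .q47 | .q49 => .q52 | .q50 => .q54 | .q51 => .q53 | .q52 => .q49 | .q53 => .q51 | .q54 => .q50 | .q55 => .q56
  | .q56 => .q55 | .q57 => .q60 | .q58 => .q62 | .q59 => .q61 | .q60 => .q57 | .q61 => .q59 | .q62 => .q58

/-- the permutation induced by a generator -/
def permG : Rt → Pt63 → Pt63
  | .r0 => pG0
  | .r1 => pG1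
  | .r2 => pG2
  | .r3 => pG3
  | .r4 => pG4
  | .r5 => pG5
  | .r6 => pG6
  | .r7 => pG7
  | .r8 => pG8
  | .r9 => pG9
  | .r10 => pG10
  | .r11 => pG11

/-- the rows of the matrix of a generator, as bit masks -/
def rowN : Rt → List ℕ
  | .r0 => [8193, 2, 8198, 264, 1040, 2080, 64, 4224, 256, 512, 1024, 2048, 4096, 8192]
  | .r1 => [4097, 4098, 132, 4107, 528, 32, 2112, 128, 8448, 512, 1024, 2048, 4096, 8192]
  | .r2 => [1, 2050, 4644, 9288, 2065, 4128, 8256, 128, 256, 4608, 9216, 2048, 4096, 8192]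
  | .r3 => [1025, 1026, 340, 8, 272, 1059, 320, 10880, 256, 8704, 1024, 10240, 4096, 8192]
  | .r4 => [513, 2, 4, 184, 144, 160, 578, 128, 7424, 512, 5120, 6144, 4096, 8192]
  | .r5 => [1, 258, 12, 8, 16, 96, 64, 385, 256, 1536, 1024, 2048, 12288, 8192]
  | .r6 => [1, 130, 4, 12, 16, 32, 96, 128, 385, 512, 1536, 2048, 4096, 12288]
  | .r7 => [65, 2, 4, 8, 24, 40, 64, 184, 256, 578, 1280, 2304, 7424, 8192]
  | .r8 => [33, 34, 4, 8, 20, 32, 68, 128, 340, 640, 1059, 2176, 4096, 10880]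
  | .r9 => [1, 18, 4, 8, 16, 36, 72, 128, 256, 516, 1032, 2065, 4644, 9288]
  | .r10 => [9, 10, 4, 8, 16, 32, 64, 132, 256, 528, 1024, 2112, 4107, 8448]
  | .r11 => [5, 2, 4, 8, 16, 32, 64, 128, 264, 512, 1040, 2080, 4224, 8198]

/-- the transvections as words in the generators -/
def wordT : Ix57 → List Rt
  | .k0 => []
  | .k1 => [.r3, .r8, .r0, .r6]
  | .k2 => [.r6, .r0, .r8, .r3]
  | .k3 => [.r5, .r1, .r7, .r4]
  | .k4 => [.r4, .r7, .r1, .r5]
  | .k5 => [.r7, .r1, .r0, .r9, .r1, .r0]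
  | .k6 => [.r1, .r0, .r9, .r1, .r7, .r0]
  | .k7 => [.r2, .r8, .r0, .r9, .r2, .r0]
  | .k8 => [.r8, .r1, .r0, .r9, .r1, .r0]
  | .k9 => [.r0, .r9, .r0, .r8]
  | .k10 => [.r8, .r0, .r9, .r0]
  | .k11 => [.r8, .r5, .r11, .r3]
  | .k12 => [.r7, .r3, .r8, .r7]
  | .k13 => [.r5, .r8, .r5, .r3]
  | .k14 => [.r5, .r3, .r8, .r5]
  | .k15 => [.r3, .r8]
  | .k16 => [.r8, .r3]
  | .k17 => [.r3, .r9, .r0, .r8, .r3, .r0]
  | .k18 => [.r9, .r5, .r0, .r8, .r5, .r0]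
  | .k19 => [.r1, .r7, .r1, .r9]
  | .k20 => [.r9, .r1, .r7, .r1]
  | .k21 => [.r4, .r1, .r7, .r1]
  | .k22 => [.r1, .r7, .r4, .r1]
  | .k23 => [.r4, .r5, .r0, .r8, .r5, .r0]
  | .k24 => [.r5, .r0, .r8, .r5, .r4, .r0]
  | .k25 => [.r0, .r8, .r0, .r9]
  | .k26 => [.r9, .r0, .r8, .r0]
  | .k27 => [.r2, .r9]
  | .k28 => [.r9, .r2]
  | .k29 => [.r1, .r9, .r2, .r1]
  | .k30 => [.r2, .r1, .r9, .r1]
  | .k31 => [.r9, .r1, .r11, .r2]
  | .k32 => [.r4, .r2, .r9, .r4]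
  | .k33 => [.r3, .r0, .r8, .r0]
  | .k34 => [.r0, .r8, .r3, .r0]
  | .k35 => [.r0, .r9, .r2, .r0]
  | .k36 => [.r2, .r0, .r9, .r0]
  | .k37 => [.r4, .r0, .r10, .r6, .r7, .r0]
  | .k38 => [.r7, .r0, .r6, .r10, .r4, .r0]
  | .k39 => [.r2, .r4, .r7, .r2]
  | .k40 => [.r2, .r7, .r4, .r2]
  | .k41 => [.r1, .r9, .r1, .r7]
  | .k42 => [.r7, .r1, .r9, .r1]
  | .k43 => [.r7, .r6, .r10, .r4]
  | .k44 => [.r4, .r10, .r6, .r7]
  | .k45 => [.r5, .r3, .r0, .r8, .r5, .r0]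
  | .k46 => [.r5, .r0, .r8, .r5, .r3, .r0]
  | .k47 => [.r9, .r0, .r10, .r2]
  | .k48 => [.r3, .r2, .r9, .r3]
  | .k49 => [.r2, .r3, .r8, .r2]
  | .k50 => [.r2, .r8, .r3, .r2]
  | .k51 => [.r1, .r0, .r9, .r2, .r1, .r0]
  | .k52 => [.r2, .r1, .r0, .r9, .r1, .r0]
  | .k53 => [.r5, .r8, .r5, .r4]
  | .k54 => [.r4, .r5, .r8, .r5]
  | .k55 => [.r4, .r7]
  | .k56 => [.r7, .r4]

/-- the generators (times `x_2(1)` for the short roots) as words in the transvections -/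
def wordG : Rt → List Ix57
  | .r0 => [.k56, .k22, .k3]
  | .r1 => [.k33, .k15, .k1]
  | .r2 => []
  | .r3 => [.k29, .k25, .k2]
  | .r4 => [.k35, .k19, .k3]
  | .r5 => [.k36, .k27, .k19]
  | .r6 => [.k30, .k27, .k25]
  | .r7 => [.k29, .k5]
  | .r8 => [.k35, .k8]
  | .r9 => [.k28]
  | .r10 => [.k15, .k12, .k9]
  | .r11 => [.k55, .k44, .k41]

/-- long roots -/
def clsG : Rt → Bool
  | .r0 => true
  | .r1 => true
  | .r2 => false
  | .r3 => false
  | .r4 => false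
  | .r5 => true
  | .r6 => true
  | .r7 => false
  | .r8 => false
  | .r9 => false
  | .r10 => true
  | .r11 => true

/-- conjugation of the transvections by `x_2(1)` -/
def sigma : Ix57 → Ix57
  | .k0 => .k0 | .k1 => .k33 | .k2 => .k34 | .k3 => .k22 | .k4 => .k21 | .k5 => .k41 | .k6 => .k42 | .k7 => .k10
  | .k8 => .k9 | .k9 => .k8 | .k10 => .k7 | .k11 => .k44 | .k12 => .k43 | .k13 => .k24 | .k14 => .k23 | .k15 => .k49
  | .k16 => .k50 | .k17 => .k37 | .k18 => .k38 | .k19 => .k47 | .k20 => .k48 | .k21 => .k4 | .k22 => .k3 | .k23 => .k14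
  | .k24 => .k13 | .k25 => .k31 | .k26 => .k32 | .k27 => .k28 | .k28 => .k27 | .k29 => .k30 | .k30 => .k29 | .k31 => .k25
  | .k32 => .k26 | .k33 => .k1 | .k34 => .k2 | .k35 => .k36 | .k36 => .k35 | .k37 => .k17 | .k38 => .k18 | .k39 => .k55
  | .k40 => .k56 | .k41 => .k5 | .k42 => .k6 | .k43 => .k12 | .k44 => .k11 | .k45 => .k54 | .k46 => .k53 | .k47 => .k19
  | .k48 => .k20 | .k49 => .k15 | .k50 => .k16 | .k51 => .k52 | .k52 => .k51 | .k53 => .k46 | .k54 => .k45 | .k55 => .k39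
  | .k56 => .k40

/-- unit vectors as sums of table vectors -/
def spanTbl : List (List Pt63) :=
  [[.q2, .q7, .q11, .q12, .q17],
   [.q0, .q1, .q2, .q7, .q11],
   [.q0, .q1, .q2, .q11, .q12, .q17, .q26],
   [.q11, .q17],
   [.q0, .q1, .q2, .q4, .q11, .q13, .q18, .q22, .q26, .q29],
   [.q0, .q2, .q7, .q9, .q11, .q13, .q26, .q29],
   [.q0, .q2, .q4, .q7, .q9, .q11, .q17, .q18],
   [.q7],
   [.q11],
   [.q7, .q9, .q12, .q13, .q17, .q18],
   [.q2, .q4, .q7, .q9],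
   [.q0, .q12, .q13, .q17, .q18],
   [.q1],
   [.q0]]

/-- a bit as an element of `F2` -/
def bitF2 : Bool → F2
  | true => .o
  | false => .z

/-- the position of an index -/
def code : chevG2.Idx → ℕ := Sum.elim (fun a => a.val) (fun b => 2 + b.val)

/-- index of a coroot -/
def hI (a : Fin 2) : chevG2.Idx := Sum.inl a

/-- index of a root vector -/
def eI (b : Fin 12) : chevG2.Idx := Sum.inr b

/-- the entries of the matrix of a generator -/
def MTe (r : Rt) (i j : chevG2.Idx) : F2 := bitF2 (((rowN r).getD (code i) 0).testBit (code j))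

/-- the table vectors -/
def PG (k : Pt63) : chevG2.Idx → F2 := fun i => bitF2 ((PGn k).testBit (code i))

/-- the sum over the fourteen indices -/
def sum14 (f : chevG2.Idx → F2) : F2 :=
  F2.add (F2.add (f (hI 0)) (f (hI 1)))
    (F2.add (f (eI 0)) (F2.add (f (eI 1)) (F2.add (f (eI 2)) (F2.add (f (eI 3)) (F2.add (f (eI 4))
    (F2.add (f (eI 5)) (F2.add (f (eI 6)) (F2.add (f (eI 7)) (F2.add (f (eI 8)) (F2.add (f (eI 9))
    (F2.add (f (eI 10)) (f (eI 11)))))))))))))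

/-- the list of table vectors summing to a unit vector -/
def spanL (i : chevG2.Idx) : List Pt63 := spanTbl.getD (code i) []

/-- a word in the generators as a map of points -/
def evalG (w : List Rt) (x : Pt63) : Pt63 := w.foldr (fun r y => permG r y) x

/-- a word in the transvections as a map of points -/
def evalT (w : List Ix57) (x : Pt63) : Pt63 := w.foldr (fun j y => permT j y) x

theorem rt_surj : ∀ r : Fin chevG2.nroots, ∃ r' : Rt, rt r' = r := by decide +kernel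

/-- an entry of the matrix of `x_r(t)` -/
def ent (r : Rt) (t : F2) (i j : chevG2.Idx) : F2 := chevG2.xMat F2 (rt r) t i j

/-- an entry of the identity matrix -/
def ent1 (i j : chevG2.Idx) : F2 := (1 : Matrix chevG2.Idx chevG2.Idx F2) i j

theorem xMat_one_eq : ∀ (r : Rt) (i j : chevG2.Idx), ent r F2.o i j = MTe r i j := by
  decide +kernel

theorem xMat_zero_eq : ∀ (r : Rt) (i j : chevG2.Idx), ent r F2.z i j = ent1 i j := by
  decide +kernel

theorem tabG : ∀ (r : Rt) (k : Pt63) (i : chevG2.Idx),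
    sum14 (fun j => F2.mul (MTe r i j) (PG k j)) = PG (permG r k) i := by decide +kernel

theorem invol : ∀ (r : Rt) (x : Pt63), permG r (permG r x) = x := by decide +kernel

theorem wordT_ok : ∀ (j : Ix57) (x : Pt63), permT j x = evalG (wordT j) x := by decide +kernel

theorem wordG_ok : ∀ (r : Rt) (x : Pt63),
    (bif clsG r then permG r x else permG r (permG Rt.r2 x)) = evalT (wordG r) x := by
  decide +kernel

theorem sigma_ok : ∀ (j : Ix57) (x : Pt63),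
    permG Rt.r2 (permT j (permG Rt.r2 x)) = permT (sigma j) x := by decide +kernel

theorem PG_inj : ∀ k l : Pt63, (∀ i : chevG2.Idx, PG k i = PG l i) → k = l := by decide +kernel

theorem PG_ne : ∀ k : Pt63, ∃ i : chevG2.Idx, PG k i ≠ F2.z := by decide +kernel

theorem span_ok : ∀ i j : chevG2.Idx,
    ((spanL i).map (fun k => PG k j)).foldr F2.add F2.z = if j = i then F2.o else F2.z := by
  decide +kernel

end Cfsg.Agent.Lib.Helper99.G22
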