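import Mathlib
import Cfsg.Prelude.Def_GeometricClasses
import Cfsg.Agent.Lib.Helper71.Asch0
import Cfsg.Agent.Lib.Helper71.Asch8
import Cfsg.Agent.Lib.Helper1.SP8EADefs

/-!
# SP8-EA (S5823), piece EA2 (duplicate attempt by helper99)

The similitudes of `J ⊗ J` on `F² ⊗ F²` are the pure tensors and the pure tensors times the swap.
-/

set_option autoImplicit false

namespace Cfsg.Agent.Lib.Helper99.SP8EA2

open Matrix Cfsg.Geo Cfsg.Agent.Lib.Helper71.Asch Cfsg.Agent.Lib.Helper1.SP8EADefs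
open scoped Kronecker

variable {n : ℕ} {F : Type*} [Field F] [Fintype F]

/-- the `2 × 2` determinant of two vectors -/
def dd (s s' : Fin 2 → F) : F := s 0 * s' 1 - s 1 * s' 0

omit [Fintype F] in
theorem dd_symm (s s' : Fin 2 → F) : dd s s' = -dd s' s := by unfold dd; ring

omit [Fintype F] in
theorem dd_zero_symm {s s' : Fin 2 → F} (h : dd s s' = 0) : dd s' s = 0 := by
  rw [dd_symm, h, neg_zero]

omit [Fintype F] in
theorem dd_ne_symm {s s' : Fin 2 → F} (h : dd s s' ≠ 0) : dd s' s ≠ 0 :=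
  fun h' => h (dd_zero_symm h')

omit [Fintype F] in
theorem par (s s' u : Fin 2 → F) (hd : dd s s' = 0) (hu : dd s u ≠ 0) :
    ∃ k : F, ∀ a, s' a = k * s a := by
  refine ⟨dd s' u / dd s u, Fin.forall_fin_two.mpr ⟨?_, ?_⟩⟩
  · rw [div_mul_eq_mul_div, eq_div_iff hu]
    unfold dd at *
    linear_combination (u 0) * hd
  · rw [div_mul_eq_mul_div, eq_div_iff hu]
    unfold dd at *
    linear_combination (u 1) * hd

omit [Fintype F] in
theorem zero_of (s1 s2 s3 : Fin 2 → F) (h12 : dd s1 s2 = 0) (h13 : dd s1 s3 = 0)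
    (h23 : dd s2 s3 ≠ 0) : s1 0 = 0 ∧ s1 1 = 0 := by
  have e0 : dd s2 s3 * s1 0 = 0 := by
    unfold dd at *
    linear_combination (-(s3 0)) * h12 + (s2 0) * h13
  have e1 : dd s2 s3 * s1 1 = 0 := by
    unfold dd at *
    linear_combination (-(s3 1)) * h12 + (s2 1) * h13
  exact ⟨(mul_eq_zero.mp e0).resolve_left h23, (mul_eq_zero.mp e1).resolve_left h23⟩

/-- the matrix with columns `u` and `c • v` -/
def mk2 (u : Fin 2 → F) (c : F) (v : Fin 2 → F) : Matrix (Fin 2) (Fin 2) F :=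
  Matrix.of (fun a j => if j = 0 then u a else c * v a)

omit [Fintype F] in
theorem mk2_zero (u : Fin 2 → F) (c : F) (v : Fin 2 → F) (a : Fin 2) : mk2 u c v a 0 = u a := by
  simp [mk2]

omit [Fintype F] in
theorem mk2_one (u : Fin 2 → F) (c : F) (v : Fin 2 → F) (a : Fin 2) :
    mk2 u c v a 1 = c * v a := by
  simp [mk2]

omit [Fintype F] in
theorem mk2_det (u : Fin 2 → F) (c : F) (v : Fin 2 → F) :
    (mk2 u c v).det = c * (u 0 * v 1 - u 1 * v 0) := by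
  rw [Matrix.det_fin_two]
  simp only [mk2_zero, mk2_one]
  ring

omit [Fintype F] in
theorem core (s1 s2 s3 s4 t1 t2 t3 t4 : Fin 2 → F) (μ : F) (hμ : μ ≠ 0)
    (h12 : dd s1 s2 * dd t1 t2 = 0) (h13 : dd s1 s3 * dd t1 t3 = 0)
    (h42 : dd s4 s2 * dd t4 t2 = 0) (h43 : dd s4 s3 * dd t4 t3 = 0)
    (h14 : dd s1 s4 * dd t1 t4 = μ) (h23 : dd s2 s3 * dd t2 t3 = -μ)
    (hA : dd s1 s2 = 0) :
    ∃ U V : Matrix (Fin 2) (Fin 2) F, U.det ≠ 0 ∧ V.det ≠ 0 ∧ ∀ a b,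
      s1 a * t1 b = U a 0 * V b 0 ∧ s2 a * t2 b = U a 0 * V b 1 ∧
      s3 a * t3 b = U a 1 * V b 0 ∧ s4 a * t4 b = U a 1 * V b 1 := by
  have hD14 : dd s1 s4 ≠ 0 := by
    intro h; rw [h, zero_mul] at h14; exact hμ h14.symm
  have hE14 : dd t1 t4 ≠ 0 := by
    intro h; rw [h, mul_zero] at h14; exact hμ h14.symm
  have hD23 : dd s2 s3 ≠ 0 := by
    intro h; rw [h, zero_mul] at h23; exact hμ (neg_eq_zero.mp h23.symm)
  have hE23 : dd t2 t3 ≠ 0 := by
    intro h; rw [h, mul_zero] at h23; exact hμ (neg_eq_zero.mp h23.symm)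
  have hD13 : dd s1 s3 ≠ 0 := by
    intro h
    obtain ⟨z0, z1⟩ := zero_of s1 s2 s3 hA h hD23
    apply hD14; unfold dd; rw [z0, z1]; ring
  have hE13 : dd t1 t3 = 0 := (mul_eq_zero.mp h13).resolve_left hD13
  have hD42 : dd s4 s2 ≠ 0 := by
    intro h
    obtain ⟨z0, z1⟩ := zero_of s2 s1 s4 (dd_zero_symm hA) (dd_zero_symm h) hD14
    apply hD23; unfold dd; rw [z0, z1]; ring
  have hE42 : dd t4 t2 = 0 := (mul_eq_zero.mp h42).resolve_left hD42
  have hE43 : dd t4 t3 ≠ 0 := by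
    intro h
    obtain ⟨z0, z1⟩ := zero_of t3 t1 t4 (dd_zero_symm hE13) (dd_zero_symm h) hE14
    apply hE23; unfold dd; rw [z0, z1]; ring
  have hD43 : dd s4 s3 = 0 := (mul_eq_zero.mp h43).resolve_right hE43
  obtain ⟨k, hk⟩ := par s1 s2 s4 hA hD14
  obtain ⟨k', hk'⟩ := par t1 t3 t4 hE13 hE14
  obtain ⟨m, hm⟩ := par s3 s4 s2 (dd_zero_symm hD43) (dd_ne_symm hD23)
  obtain ⟨m', hm'⟩ := par t2 t4 t3 (dd_zero_symm hE42) hE23
  unfold dd at h14 h23
  rw [hm 0, hm 1, hm' 0, hm' 1] at h14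
  rw [hk 0, hk 1, hk' 0, hk' 1] at h23
  have hXY : (m * m' - k * k') *
      ((s1 0 * s3 1 - s1 1 * s3 0) * (t1 0 * t2 1 - t1 1 * t2 0)) = 0 := by
    linear_combination h14 + h23
  have hXY0 : (s1 0 * s3 1 - s1 1 * s3 0) * (t1 0 * t2 1 - t1 1 * t2 0) ≠ 0 := by
    intro h0; apply hμ; linear_combination (-1 : F) * h14 + (m * m') * h0
  have hmk : m * m' = k * k' := by
    have h := (mul_eq_zero.mp hXY).resolve_right hXY0
    linear_combination h
  refine ⟨mk2 s1 k' s3, mk2 t1 k t2, ?_, ?_, ?_⟩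
  · rw [mk2_det]
    intro h
    apply hμ
    linear_combination h23 + (k * (t1 0 * t2 1 - t1 1 * t2 0)) * h
  · rw [mk2_det]
    intro h
    apply hμ
    linear_combination h23 + (k' * (s1 0 * s3 1 - s1 1 * s3 0)) * h
  · intro a b
    refine ⟨?_, ?_, ?_, ?_⟩
    · rw [mk2_zero, mk2_zero]
    · rw [mk2_zero, mk2_one, hk a]; ring
    · rw [mk2_one, mk2_zero, hk' b]; ring
    · rw [mk2_one, mk2_one, hm a, hm' b]; linear_combination (s3 a * t2 b) * hmk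

omit [Fintype F] in
theorem rank1 (X : Fin 2 → Fin 2 → F) (hdet : X 0 0 * X 1 1 = X 0 1 * X 1 0) :
    ∃ s t : Fin 2 → F, ∀ a b, X a b = s a * t b := by
  have key : ∀ (s t : Fin 2 → F), X 0 0 = s 0 * t 0 → X 0 1 = s 0 * t 1 → X 1 0 = s 1 * t 0 →
      X 1 1 = s 1 * t 1 → ∃ s t : Fin 2 → F, ∀ a b, X a b = s a * t b := by
    intro s t h00 h01 h10 h11
    exact ⟨s, t, Fin.forall_fin_two.mpr
      ⟨Fin.forall_fin_two.mpr ⟨h00, h01⟩, Fin.forall_fin_two.mpr ⟨h10, h11⟩⟩⟩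
  by_cases h00 : X 0 0 = 0
  · by_cases h01 : X 0 1 = 0
    · exact key ![0, 1] (X 1) (by simp [h00]) (by simp [h01]) (by simp) (by simp)
    · have h10 : X 1 0 = 0 := by
        have h : X 0 1 * X 1 0 = 0 := by rw [← hdet, h00, zero_mul]
        exact (mul_eq_zero.mp h).resolve_left h01
      refine key ![1, X 1 1 / X 0 1] (X 0) (by simp) (by simp) ?_ ?_
      · simp [h00, h10]
      · show X 1 1 = X 1 1 / X 0 1 * X 0 1
        rw [div_mul_cancel₀ _ h01]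
  · refine key ![1, X 1 0 / X 0 0] (X 0) (by simp) (by simp) ?_ ?_
    · show X 1 0 = X 1 0 / X 0 0 * X 0 0
      rw [div_mul_cancel₀ _ h00]
    · show X 1 1 = X 1 0 / X 0 0 * X 0 1
      rw [div_mul_eq_mul_div, eq_div_iff h00]
      linear_combination hdet

omit [Fintype F] in
theorem sum_ff (f : (Fin 2 → Fin 2) → F) :
    ∑ x, f x = f ![0, 0] + f ![0, 1] + f ![1, 0] + f ![1, 1] := by
  rw [← (finTwoArrowEquiv (Fin 2)).symm.sum_comp f, Fintype.sum_prod_type]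
  simp only [Fin.sum_univ_two]
  have e : ∀ a b : Fin 2, (finTwoArrowEquiv (Fin 2)).symm (a, b) = ![a, b] := fun a b => rfl
  rw [e, e, e, e]
  ring

omit [Fintype F] in
theorem J2_00 : (J2 : Matrix (Fin 2) (Fin 2) F) 0 0 = 0 := by simp [J2]
omit [Fintype F] in
theorem J2_01 : (J2 : Matrix (Fin 2) (Fin 2) F) 0 1 = 1 := by simp [J2]
omit [Fintype F] in
theorem J2_10 : (J2 : Matrix (Fin 2) (Fin 2) F) 1 0 = -1 := by simp [J2]
omit [Fintype F] in
theorem J2_11 : (J2 : Matrix (Fin 2) (Fin 2) F) 1 1 = 0 := by simp [J2]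

omit [Fintype F] in
theorem K22_apply (a b c d : Fin 2) :
    (K22 : Matrix (Fin 2 → Fin 2) (Fin 2 → Fin 2) F) ![a, b] ![c, d] = J2 a c * J2 b d := by
  unfold K22
  rw [pt_apply, Fin.prod_univ_two]
  rfl

omit [Fintype F] in
theorem rel (B : Matrix (Fin 2 → Fin 2) (Fin 2 → Fin 2) F) (μ : F)
    (hB : Bᵀ * K22 * B = μ • (K22 : Matrix (Fin 2 → Fin 2) (Fin 2 → Fin 2) F))
    (y z : Fin 2 → Fin 2) :
    B ![0, 0] y * B ![1, 1] z + B ![1, 1] y * B ![0, 0] z - B ![0, 1] y * B ![1, 0] z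
      - B ![1, 0] y * B ![0, 1] z = μ * (K22 : Matrix (Fin 2 → Fin 2) (Fin 2 → Fin 2) F) y z := by
  have h := congrFun (congrFun hB y) z
  simp only [Matrix.mul_apply, Matrix.transpose_apply, Matrix.smul_apply, smul_eq_mul, sum_ff,
    K22_apply, J2_00, J2_01, J2_10, J2_11] at h
  linear_combination h

omit [Fintype F] in
theorem col_det (h2ne : (2 : F) ≠ 0) (B : Matrix (Fin 2 → Fin 2) (Fin 2 → Fin 2) F) (μ : F)
    (hB : Bᵀ * K22 * B = μ • (K22 : Matrix (Fin 2 → Fin 2) (Fin 2 → Fin 2) F))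
    (y : Fin 2 → Fin 2) (hy : (K22 : Matrix (Fin 2 → Fin 2) (Fin 2 → Fin 2) F) y y = 0) :
    B ![0, 0] y * B ![1, 1] y = B ![0, 1] y * B ![1, 0] y := by
  have h := rel B μ hB y y
  rw [hy, mul_zero] at h
  have h2 : (2 : F) * (B ![0, 0] y * B ![1, 1] y - B ![0, 1] y * B ![1, 0] y) = 0 := by
    linear_combination h
  have h3 := (mul_eq_zero.mp h2).resolve_left h2ne
  linear_combination h3

omit [Fintype F] in
theorem pair_rel (B : Matrix (Fin 2 → Fin 2) (Fin 2 → Fin 2) F) (μ : F)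
    (hB : Bᵀ * K22 * B = μ • (K22 : Matrix (Fin 2 → Fin 2) (Fin 2 → Fin 2) F))
    (y z : Fin 2 → Fin 2) (sy ty sz tz : Fin 2 → F)
    (hy : ∀ a b, B ![a, b] y = sy a * ty b) (hz : ∀ a b, B ![a, b] z = sz a * tz b) :
    dd sy sz * dd ty tz = μ * (K22 : Matrix (Fin 2 → Fin 2) (Fin 2 → Fin 2) F) y z := by
  have h := rel B μ hB y z
  simp only [hy, hz] at h
  unfold dd
  linear_combination h

omit [Fintype F] in
theorem mul_swapM_apply (M : Matrix (Fin 2 → Fin 2) (Fin 2 → Fin 2) F) (x y : Fin 2 → Fin 2) :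
    (M * (swapM : Matrix (Fin 2 → Fin 2) (Fin 2 → Fin 2) F)) x y =
      M x (y ∘ Equiv.swap (0 : Fin 2) 1) := by
  rw [Matrix.mul_apply, Finset.sum_eq_single (y ∘ Equiv.swap (0 : Fin 2) 1)]
  · have h : y = (y ∘ Equiv.swap (0 : Fin 2) 1) ∘ Equiv.swap (0 : Fin 2) 1 := by
      funext i; simp [Function.comp]
    simp only [swapM, Matrix.of_apply]
    rw [if_pos h, mul_one]
  · intro z _ hz
    have h : ¬ (y = z ∘ Equiv.swap (0 : Fin 2) 1) := by
      intro h; apply hz; rw [h]; funext i; simp [Function.comp]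
    simp only [swapM, Matrix.of_apply]
    rw [if_neg h, mul_zero]
  · intro h; exact absurd (Finset.mem_univ _) h

omit [Fintype F] in
theorem pt_UV (U V : Matrix (Fin 2) (Fin 2) F) (a b c d : Fin 2) :
    pt ![U, V] ![a, b] ![c, d] = U a c * V b d := by
  rw [pt_apply, Fin.prod_univ_two]
  rfl

omit [Fintype F] in
theorem pt_UV_swap (U V : Matrix (Fin 2) (Fin 2) F) (a b c d : Fin 2) :
    (pt ![U, V] * (swapM : Matrix (Fin 2 → Fin 2) (Fin 2 → Fin 2) F)) ![a, b] ![c, d] =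
      U a d * V b c := by
  rw [mul_swapM_apply, pt_apply, Fin.prod_univ_two]
  simp [Function.comp]

omit [Field F] [Fintype F] in
theorem ext_ff {M N : Matrix (Fin 2 → Fin 2) (Fin 2 → Fin 2) F}
    (h00 : ∀ a b : Fin 2, M ![a, b] ![0, 0] = N ![a, b] ![0, 0])
    (h01 : ∀ a b : Fin 2, M ![a, b] ![0, 1] = N ![a, b] ![0, 1])
    (h10 : ∀ a b : Fin 2, M ![a, b] ![1, 0] = N ![a, b] ![1, 0])
    (h11 : ∀ a b : Fin 2, M ![a, b] ![1, 1] = N ![a, b] ![1, 1]) : M = N := by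
  ext x y
  have fin2 : ∀ i : Fin 2, i = 0 ∨ i = 1 := by decide
  have hx : x = ![x 0, x 1] := by funext i; fin_cases i <;> rfl
  have hy : y = ![y 0, y 1] := by funext i; fin_cases i <;> rfl
  rw [hx, hy]
  rcases fin2 (y 0) with h0 | h0 <;> rcases fin2 (y 1) with h1 | h1 <;> rw [h0, h1]
  · exact h00 _ _
  · exact h01 _ _
  · exact h10 _ _
  · exact h11 _ _

/-- EA2: the similitudes of `J ⊗ J` are the pure tensors and the pure tensors times the swap. -/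
theorem EA2 (h2ne : (2 : F) ≠ 0) (B : Matrix (Fin 2 → Fin 2) (Fin 2 → Fin 2) F) (μ : F) (hμ : μ ≠ 0)
    (hB : Bᵀ * K22 * B = μ • (K22 : Matrix (Fin 2 → Fin 2) (Fin 2 → Fin 2) F)) :
    ∃ U V : Matrix (Fin 2) (Fin 2) F, U.det ≠ 0 ∧ V.det ≠ 0 ∧
      (B = pt ![U, V] ∨ B = pt ![U, V] * swapM) := by
  have k00 : (K22 : Matrix (Fin 2 → Fin 2) (Fin 2 → Fin 2) F) ![0, 0] ![0, 0] = 0 := by
    rw [K22_apply, J2_00, mul_zero]
  have k01 : (K22 : Matrix (Fin 2 → Fin 2) (Fin 2 → Fin 2) F) ![0, 1] ![0, 1] = 0 := by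
    rw [K22_apply, J2_00, zero_mul]
  have k10 : (K22 : Matrix (Fin 2 → Fin 2) (Fin 2 → Fin 2) F) ![1, 0] ![1, 0] = 0 := by
    rw [K22_apply, J2_00, mul_zero]
  have k11 : (K22 : Matrix (Fin 2 → Fin 2) (Fin 2 → Fin 2) F) ![1, 1] ![1, 1] = 0 := by
    rw [K22_apply, J2_11, mul_zero]
  obtain ⟨s1, t1, hc1⟩ := rank1 (fun a b => B ![a, b] ![0, 0]) (col_det h2ne B μ hB _ k00)
  obtain ⟨s2, t2, hc2⟩ := rank1 (fun a b => B ![a, b] ![0, 1]) (col_det h2ne B μ hB _ k01)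
  obtain ⟨s3, t3, hc3⟩ := rank1 (fun a b => B ![a, b] ![1, 0]) (col_det h2ne B μ hB _ k10)
  obtain ⟨s4, t4, hc4⟩ := rank1 (fun a b => B ![a, b] ![1, 1]) (col_det h2ne B μ hB _ k11)
  have h12 := pair_rel B μ hB ![0, 0] ![0, 1] s1 t1 s2 t2 hc1 hc2
  have h13 := pair_rel B μ hB ![0, 0] ![1, 0] s1 t1 s3 t3 hc1 hc3
  have h42 := pair_rel B μ hB ![1, 1] ![0, 1] s4 t4 s2 t2 hc4 hc2
  have h43 := pair_rel B μ hB ![1, 1] ![1, 0] s4 t4 s3 t3 hc4 hc3
  have h14 := pair_rel B μ hB ![0, 0] ![1, 1] s1 t1 s4 t4 hc1 hc4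
  have h23 := pair_rel B μ hB ![0, 1] ![1, 0] s2 t2 s3 t3 hc2 hc3
  rw [K22_apply, J2_00, zero_mul, mul_zero] at h12
  rw [K22_apply, J2_00, mul_zero, mul_zero] at h13
  rw [K22_apply, J2_11, mul_zero, mul_zero] at h42
  rw [K22_apply, J2_11, zero_mul, mul_zero] at h43
  rw [K22_apply, J2_01, mul_one, mul_one] at h14
  rw [K22_apply, J2_01, J2_10, one_mul, mul_neg, mul_one] at h23
  by_cases hA : dd s1 s2 = 0
  · obtain ⟨U, V, hU, hV, h⟩ := core s1 s2 s3 s4 t1 t2 t3 t4 μ hμ h12 h13 h42 h43 h14 h23 hA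
    refine ⟨U, V, hU, hV, Or.inl ?_⟩
    refine ext_ff ?_ ?_ ?_ ?_
    · intro a b; rw [pt_UV]; exact (hc1 a b).trans (h a b).1
    · intro a b; rw [pt_UV]; exact (hc2 a b).trans (h a b).2.1
    · intro a b; rw [pt_UV]; exact (hc3 a b).trans (h a b).2.2.1
    · intro a b; rw [pt_UV]; exact (hc4 a b).trans (h a b).2.2.2
  · have hB12 : dd t1 t2 = 0 := (mul_eq_zero.mp h12).resolve_left hA
    obtain ⟨U, V, hU, hV, h⟩ := core t1 t2 t3 t4 s1 s2 s3 s4 μ hμ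
      (by rw [mul_comm]; exact h12) (by rw [mul_comm]; exact h13) (by rw [mul_comm]; exact h42)
      (by rw [mul_comm]; exact h43) (by rw [mul_comm]; exact h14) (by rw [mul_comm]; exact h23)
      hB12
    refine ⟨V, U, hV, hU, Or.inr ?_⟩
    refine ext_ff ?_ ?_ ?_ ?_
    · intro a b; rw [pt_UV_swap]
      have e : B ![a, b] ![0, 0] = s1 a * t1 b := hc1 a b
      rw [e]; linear_combination (h b a).1
    · intro a b; rw [pt_UV_swap]
      have e : B ![a, b] ![0, 1] = s2 a * t2 b := hc2 a b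
      rw [e]; linear_combination (h b a).2.1
    · intro a b; rw [pt_UV_swap]
      have e : B ![a, b] ![1, 0] = s3 a * t3 b := hc3 a b
      rw [e]; linear_combination (h b a).2.2.1
    · intro a b; rw [pt_UV_swap]
      have e : B ![a, b] ![1, 1] = s4 a * t4 b := hc4 a b
      rw [e]; linear_combination (h b a).2.2.2

end Cfsg.Agent.Lib.Helper99.SP8EA2
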