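import Mathlib
import Cfsg.Prelude.Def_LieTwisted
import Cfsg.Agent.Lib.Helper99.TFChk2
import Cfsg.Agent.Lib.Helper99.TFDataU

/-!
# The action of `²F₄(2)` on the 1755 points

A transversal `utE` of the stabiliser `Pf` of a point in `²F₄(2)` is built along a tree; the
Schreier identities show that `²F₄(2) = utE · Pf`, and every element of `²F₄(2)` with square one is
conjugate to an element of `Pf` because the number of points is odd.
-/

set_option autoImplicit false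
set_option maxRecDepth 100000
set_option maxHeartbeats 0

namespace Cfsg.Agent.Lib.Helper99.TF

open Cfsg.Lie Matrix
open scoped MatrixGroups Pointwise

attribute [local instance] actV

/-- the code of the point number `i` -/
def XL (i : ℕ) : ℕ := getC XLL i

/-- the code of the transversal element number `i` -/
def UTt (i : ℕ) : ℕ := getC UTLL i

/-- the parent of the point number `i` in the tree -/
def PAR0 (i : ℕ) : ℕ := getC PARLL i

/-- the generator leading from the parent to the point number `i` -/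
def GEN0 (i : ℕ) : ℕ := getC GENLL i

/-- the rank of the point number `i` in the tree -/
def RK0 (i : ℕ) : ℕ := getC RKLL i

theorem UT_tree : ∀ i < 1755, i ≠ 731 →
    PAR0 i < 1755 ∧ RK0 (PAR0 i) < RK0 i ∧ mulP (G5T (GEN0 i)) (UTt (PAR0 i)) = UTt i := by
  decide +kernel

theorem UT_i0 : UTt 731 = idP := by decide +kernel

theorem ut_exists : ∀ i < 1755, ∃ g ∈ twistedF4 (ZMod 2) 1, Rep g (UTt i) :=
  rep_tree (twistedF4 (ZMod 2) 1) g5 G5T g5_rep g5_mem 1755 UTt PAR0 GEN0 RK0 731 UT_i0 UT_tree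

/-- the transversal element number `i` -/
noncomputable def utE (i : ℕ) : GL chevF4.Idx (ZMod 2) :=
  if h : i < 1755 then Classical.choose (ut_exists i h) else 1

theorem utE_mem (i : ℕ) : utE i ∈ twistedF4 (ZMod 2) 1 := by
  unfold utE
  split_ifs with h
  · exact (Classical.choose_spec (ut_exists i h)).1
  · exact Subgroup.one_mem _

theorem utE_rep (i : ℕ) (h : i < 1755) : Rep (utE i) (UTt i) := by
  unfold utE
  rw [dif_pos h]
  exact (Classical.choose_spec (ut_exists i h)).2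

theorem utE_i0 : utE 731 = 1 := by
  have h := utE_rep 731 (by norm_num)
  rw [UT_i0] at h
  exact Rep.eq h Rep.one

/-! ### The Schreier identities -/

/-- the image of the point number `i` under the generator number `s` -/
def IMG (s i : ℕ) : ℕ := getC ([IMG0LL, IMG1LL, IMG2LL, IMG3LL].getD s []) i

/-- the first factor of the Schreier element -/
def PQ (s i : ℕ) : ℕ := getC ([PQ0LL, PQ1LL, PQ2LL, PQ3LL].getD s []) i

/-- the second factor of the Schreier element -/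
def KB (s i : ℕ) : ℕ := getC ([KB0LL, KB1LL, KB2LL, KB3LL].getD s []) i

theorem S0_chk : ∀ i < 1755, IMG 0 i < 1755 ∧ PQ 0 i < 320 ∧ mulP (G5T 0) (UTt i) =
    mulP (mulP (UTt (IMG 0 i)) (PAT (PQ 0 i))) (BT (KB 0 i)) := by decide +kernel

theorem S1_chk : ∀ i < 1755, IMG 1 i < 1755 ∧ PQ 1 i < 320 ∧ mulP (G5T 1) (UTt i) =
    mulP (mulP (UTt (IMG 1 i)) (PAT (PQ 1 i))) (BT (KB 1 i)) := by decide +kernel

theorem S2_chk : ∀ i < 1755, IMG 2 i < 1755 ∧ PQ 2 i < 320 ∧ mulP (G5T 2) (UTt i) =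
    mulP (mulP (UTt (IMG 2 i)) (PAT (PQ 2 i))) (BT (KB 2 i)) := by decide +kernel

theorem S3_chk : ∀ i < 1755, IMG 3 i < 1755 ∧ PQ 3 i < 320 ∧ mulP (G5T 3) (UTt i) =
    mulP (mulP (UTt (IMG 3 i)) (PAT (PQ 3 i))) (BT (KB 3 i)) := by decide +kernel

theorem S_chk (s : ℕ) (hs : s < 4) : ∀ i < 1755, IMG s i < 1755 ∧ PQ s i < 320 ∧
    mulP (G5T s) (UTt i) = mulP (mulP (UTt (IMG s i)) (PAT (PQ s i))) (BT (KB s i)) := by
  interval_cases s
  · exact S0_chk
  · exact S1_chk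
  · exact S2_chk
  · exact S3_chk

theorem S_eq (s i : ℕ) (hs : s < 4) (hi : i < 1755) :
    g5 s * utE i = utE (IMG s i) * (paE (PQ s i) * bE (KB s i)) := by
  obtain ⟨h1, h2, h3⟩ := S_chk s hs i hi
  rw [← mul_assoc]
  have r1 : Rep (g5 s * utE i) (mulP (G5T s) (UTt i)) := Rep.mul (g5_rep _) (utE_rep i hi)
  have r2 : Rep (utE (IMG s i) * paE (PQ s i) * bE (KB s i))
      (mulP (mulP (UTt (IMG s i)) (PAT (PQ s i))) (BT (KB s i))) :=
    Rep.mul (Rep.mul (utE_rep _ h1) (paE_rep _ h2)) (bE_rep _)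
  rw [h3] at r1
  exact Rep.eq r1 r2

theorem G_step (a : GL chevF4.Idx (ZMod 2))
    (ha : ∃ w ∈ f4Words (ZMod 2) 1,
      (a : Matrix chevF4.Idx chevF4.Idx (ZMod 2)) = chevF4.wordMat (ZMod 2) w) :
    ∀ i : Fin 1755, ∃ j : Fin 1755, ∃ k ∈ Pf, a * utE i = utE j * k := by
  refine gen_cases
    (fun a => ∀ i : Fin 1755, ∃ j : Fin 1755, ∃ k ∈ Pf, a * utE i = utE j * k) ?_ ?_ ?_ a ha
  · exact Cfsg.Agent.Lib.Helper4.TFCL.step_one Pf (fun i : Fin 1755 => utE i)
  · intro a b ha hb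
    exact Cfsg.Agent.Lib.Helper4.TFCL.step_mul Pf (fun i : Fin 1755 => utE i) a b ha hb
  · intro s hs i
    rw [← g5_eq s hs]
    exact ⟨⟨IMG s i, (S_chk s hs i i.2).1⟩, paE _ * bE _,
      Pf.mul_mem (paE_mem _) (Uf_le_Pf (bE_mem _)), S_eq s i hs i.2⟩

theorem G_dec : ∀ g ∈ twistedF4 (ZMod 2) 1, ∃ i : Fin 1755, ∃ k ∈ Pf, g = utE i * k := by
  have h0 : utE ((⟨731, by norm_num⟩ : Fin 1755) : ℕ) ∈ Pf := by
    show utE 731 ∈ Pf
    rw [utE_i0]
    exact Pf.one_mem
  exact Cfsg.Agent.Lib.Helper4.TFCL.mem_transversal_mul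
    {g : GL chevF4.Idx (ZMod 2) | ∃ w ∈ f4Words (ZMod 2) 1,
      (g : Matrix chevF4.Idx chevF4.Idx (ZMod 2)) = chevF4.wordMat (ZMod 2) w}
    Pf (fun i : Fin 1755 => utE i) ⟨731, by norm_num⟩ h0 (fun s hs i => G_step s hs i)

/-! ### The orbit of the point -/

theorem XL_chk : ∀ i < 1755, actP (UTt i) p0c = XL i ∧ XL i < 2 ^ 52 := by decide +kernel

theorem XL_mono_chk : ∀ i < 1754, XL i < XL (i + 1) := by decide +kernel

theorem XL_lt (i j : ℕ) (hij : i < j) (hj : j < 1755) : XL i < XL j := by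
  induction j with
  | zero => omega
  | succ j ih =>
    rcases Nat.lt_succ_iff_lt_or_eq.mp hij with h | h
    · exact lt_trans (ih h (by omega)) (XL_mono_chk j (by omega))
    · rw [h]
      exact XL_mono_chk j (by omega)

theorem XL_inj (i j : ℕ) (hi : i < 1755) (hj : j < 1755) (h : XL i = XL j) : i = j := by
  rcases lt_trichotomy i j with h1 | h1 | h1
  · exact absurd h (ne_of_lt (XL_lt i j h1 hj))
  · exact h1
  · exact absurd h.symm (ne_of_lt (XL_lt j i h1 hi))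

theorem G_conj (h : GL chevF4.Idx (ZMod 2)) (hh : h ∈ twistedF4 (ZMod 2) 1) (h2 : h * h = 1) :
    ∃ c ∈ twistedF4 (ZMod 2) 1, c⁻¹ * h * c ∈ Pf := by
  refine Cfsg.Agent.Lib.Helper17.TFSC.exists_conj_mem (twistedF4 (ZMod 2) 1) Pf 1755
    ⟨877, by norm_num⟩ (fun i : Fin 1755 => utE i) (vk p0c) ⟨731, by norm_num⟩ utE_i0
    (fun i => utE_mem _) G_dec Pf_fix ?_ h hh h2
  intro i j hij
  have e : ∀ j : Fin 1755, utE j • vk p0c = vk (XL j) := by
    intro j
    rw [smul_vk (utE_rep j j.2) p0c, (XL_chk j j.2).1]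
  rw [e i, e j] at hij
  exact Fin.ext (XL_inj i j i.2 j.2
    (Cfsg.Agent.Lib.Helper46.TFREPA.vk_inj _ _ (XL_chk i i.2).2 (XL_chk j j.2).2 hij))

end Cfsg.Agent.Lib.Helper99.TF
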