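import Mathlib
import Cfsg.Prelude.Def_LieTwisted
import Cfsg.Agent.Lib.Helper99.TFChk3
import Cfsg.Agent.Lib.Helper99.TFChk5

/-!
# The elements of `²F₄(2)` with square one lie in the commutator subgroup

Such an element is conjugate into the stabiliser `Pf` of a point, then into the Sylow
2-subgroup `Uf`; there it lies in `Wf`, which is contained in the commutator subgroup.
-/

set_option autoImplicit false

namespace Cfsg.Agent.Lib.Helper99.TF

open Cfsg.Lie Matrix
open scoped MatrixGroups Pointwise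

theorem Pf_le : Pf ≤ twistedF4 (ZMod 2) 1 := by
  unfold Pf
  rw [Subgroup.closure_le]
  intro x hx
  simp only [Set.mem_insert_iff, Set.mem_singleton_iff] at hx
  rcases hx with rfl | rfl | rfl | rfl
  · exact g5_mem 0
  · exact g5_mem 2
  · exact g5_mem 3
  · exact g5_mem 4

theorem sq_conj {Γ : Type*} [Group Γ] (h c : Γ) (h2 : h * h = 1) :
    (c⁻¹ * h * c) * (c⁻¹ * h * c) = 1 := by
  have e : (c⁻¹ * h * c) * (c⁻¹ * h * c) = c⁻¹ * (h * h) * c := by group
  rw [e, h2, mul_one, inv_mul_cancel]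

theorem involution_mem_Df (h : GL chevF4.Idx (ZMod 2)) (hh : h ∈ twistedF4 (ZMod 2) 1)
    (h2 : h * h = 1) : h ∈ Df := by
  obtain ⟨c, hc, hP⟩ := G_conj h hh h2
  obtain ⟨c2, hc2, hU⟩ := Pf_conj (c⁻¹ * h * c) hP (sq_conj h c h2)
  have h2' := sq_conj (c⁻¹ * h * c) c2 (sq_conj h c h2)
  have hW : c2⁻¹ * (c⁻¹ * h * c) * c2 ∈ Wf := by
    rcases Uf_cases _ hU with hw | ⟨w, hw, e⟩
    · exact hw
    · exfalso
      obtain ⟨e', he'⟩ := W_dec w hw
      rw [e, he'] at h2'
      exact not_invol e' e'.2 h2'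
  have hD := Wf_le_Df hW
  have hcc : c * c2 ∈ twistedF4 (ZMod 2) 1 := Subgroup.mul_mem _ hc (Pf_le hc2)
  have h3 := Df_conj _ (c * c2) hD hcc
  have e : (c * c2) * (c2⁻¹ * (c⁻¹ * h * c) * c2) * (c * c2)⁻¹ = h := by group
  rw [e] at h3
  exact h3

end Cfsg.Agent.Lib.Helper99.TF
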